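import Cfsg.Agent.Lib.Local.PushingUp.BTwo

/-!
Chief factors and the descending series in the case `b = 2`.
-/

set_option autoImplicit false
set_option linter.style.haveILetI false

namespace Cfsg.Lib.Local.PushingUp

open Subgroup
open scoped commutatorElement

variable {X : Type*} [Group X]

/-- A natural section is irreducible. -/
theorem natural_irreducible [Finite X] {T P U W C : Subgroup X} {p q : ℕ} (hP : LocalData p q T P)
    (hq : 1 < q) (hUn : P ≤ normalizer (U : Set X)) (hCn : P ≤ normalizer (C : Set X)) (hCW : C ≤ W)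
    (hWU : W ≤ U) (hWT : W ≤ T) (hC : C.relIndex U = q * q) (hW : W.relIndex U = q)
    (hfix : ∀ t ∈ T, ∀ w ∈ W, ⁅t, w⁆ ∈ C) (hquad : ∀ t ∈ T, ∀ a ∈ U, ⁅t, a⁆ ∈ W)
    (hsec : ∀ u ∈ T, u ∉ Qv p P → ∀ a ∈ U, ⁅u, a⁆ ∈ C → a ∈ W)
    (hgen : ∀ g ∈ P, T ⊔ T.map (MulAut.conj g).toMonoidHom = P →
      W ⊓ W.map (MulAut.conj g).toMonoidHom = C ∧ W ⊔ W.map (MulAut.conj g).toMonoidHom = U)
    {N : Subgroup X} (hNn : P ≤ normalizer (N : Set X)) (hCN : C ≤ N) (hNU : N ≤ U) :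
    N = C ∨ N = U := by
  classical
  by_cases hNC : N ≤ C
  · exact Or.inl (le_antisymm hNC hCN)
  refine Or.inr (le_antisymm hNU ?_)
  obtain ⟨x, hx, hxQ⟩ : ∃ x ∈ T, x ∉ Qv p P := by
    refine SetLike.not_le_iff_exists.1 fun hle => ?_
    have := relIndex_eq_one.2 hle
    rw [hP.index_core] at this
    omega
  obtain ⟨a, haN, haC⟩ := SetLike.not_le_iff_exists.1 hNC
  obtain ⟨w, hw, hwN, hwC⟩ : ∃ w ∈ W, w ∈ N ∧ w ∉ C := by
    by_cases haW : a ∈ W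
    · exact ⟨a, haW, haN, haC⟩
    · refine ⟨⁅x, a⁆, hquad x hx a (hNU haN), ?_, fun hc => haW (hsec x hx hxQ a (hNU haN) hc)⟩
      rw [commutatorElement_def]
      exact mul_mem ((mem_normalizer_iff.1 (hNn (hP.le hx)) a).1 haN) (inv_mem haN)
  obtain ⟨g, hg, hgT⟩ := hP.exists_gen
  obtain ⟨hinf, hsup⟩ := hgen g hg hgT
  set b := g * w * g⁻¹ with hb
  have hbN : b ∈ N := (mem_normalizer_iff.1 (hNn hg) w).1 hwN
  have hbU : b ∈ U := (mem_normalizer_iff.1 (hUn hg) w).1 (hWU hw)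
  have hbW : b ∉ W := fun hbW => hwC ((mem_normalizer_iff.1 (hCn hg) w).2
    (hinf.le ⟨hbW, w, hw, rfl⟩))
  -- the commutators with `b` fill `W` modulo `C`
  let f : ↥T ⧸ (Qv p P).subgroupOf T → ↥W ⧸ C.subgroupOf W := fun c =>
    QuotientGroup.mk ⟨⁅(c.out : X), b⁆, hquad _ c.out.2 b hbU⟩
  have hinj : Function.Injective f := by
    intro c c' hcc
    have h1 : ⁅(c.out : X), b⁆⁻¹ * ⁅(c'.out : X), b⁆ ∈ C := mem_subgroupOf.1 (QuotientGroup.eq.1 hcc)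
    set t := (c.out : X)
    set t' := (c'.out : X)
    have ht : t ∈ T := c.out.2
    have ht' : t' ∈ T := c'.out.2
    have h2 : ⁅t⁻¹ * t', b⁆ ∈ C := by
      rw [show ⁅t⁻¹ * t', b⁆ = t⁻¹ * (⁅t, b⁆ * (⁅t, b⁆⁻¹ * ⁅t', b⁆) * ⁅t, b⁆⁻¹) * t⁻¹⁻¹ by
        simp [commutatorElement_def, mul_assoc]]
      refine (mem_normalizer_iff.1 (hCn (inv_mem (hP.le ht))) _).1 ?_
      exact (mem_normalizer_iff.1 (hCn (hP.le (hWT (hquad t ht b hbU)))) _).1 h1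
    have h3 : t⁻¹ * t' ∈ Qv p P := by
      by_contra hn
      exact hbW (hsec _ (mul_mem (inv_mem ht) ht') hn b hbU h2)
    rw [← c.out_eq', ← c'.out_eq']
    exact QuotientGroup.eq.2 (mem_subgroupOf.2 h3)
  have hCidx : C.relIndex W = q := by
    have hm := relIndex_mul_relIndex C W U hCW hWU
    rw [hW, hC] at hm
    exact Nat.eq_of_mul_eq_mul_right (lt_trans Nat.one_pos hq) hm
  have hsurj : Function.Surjective f :=
    ((Nat.bijective_iff_injective_and_card f).2 ⟨hinj, hP.index_core.trans hCidx.symm⟩).2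
  have hWN : W ≤ N := by
    intro v hv
    obtain ⟨c, hc⟩ := hsurj (QuotientGroup.mk ⟨v, hv⟩)
    have h1 : ⁅(c.out : X), b⁆⁻¹ * v ∈ C := mem_subgroupOf.1 (QuotientGroup.eq.1 hc)
    have h2 : ⁅(c.out : X), b⁆ ∈ N := by
      rw [commutatorElement_def]
      exact mul_mem ((mem_normalizer_iff.1 (hNn (hP.le c.out.2)) b).1 hbN) (inv_mem hbN)
    have h3 := mul_mem h2 (hCN h1)
    rwa [mul_inv_cancel_left] at h3
  rw [← hsup]
  refine sup_le hWN ?_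
  rintro _ ⟨v, hv, rfl⟩
  exact (mem_normalizer_iff.1 (hNn hg) v).1 (hWN hv)

/-- A commutator property on an edge spreads to the vertex. -/
theorem comm_of_edge {T P D E : Subgroup X} (hD : P ≤ normalizer (D : Set X))
    (hE : P ≤ normalizer (E : Set X)) (hTP : T ≤ P) {g : X} (hg : g ∈ P)
    (hgen : T ⊔ T.map (MulAut.conj g).toMonoidHom = P) (h : ∀ c ∈ D, ∀ t ∈ T, ⁅c, t⁆ ∈ E) :
    ∀ c ∈ D, ∀ s ∈ P, ⁅c, s⁆ ∈ E := by
  let H : Subgroup X :=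
    { carrier := {s | s ∈ P ∧ ∀ c ∈ D, ⁅c, s⁆ ∈ E}
      one_mem' := ⟨one_mem _, fun c _ => by simp⟩
      mul_mem' := by
        rintro a b ⟨ha, ha'⟩ ⟨hb, hb'⟩
        refine ⟨mul_mem ha hb, fun c hc => ?_⟩
        rw [comm_mul_right]
        exact mul_mem (ha' c hc) (conj_mem_of_le hE ha (hb' c hc))
      inv_mem' := by
        rintro a ⟨ha, ha'⟩
        refine ⟨inv_mem ha, fun c hc => ?_⟩
        rw [show ⁅c, a⁻¹⁆ = a⁻¹ * ⁅c, a⁆⁻¹ * a⁻¹⁻¹ by simp [commutatorElement_def, mul_assoc]]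
        exact conj_mem_of_le hE (inv_mem ha) (inv_mem (ha' c hc)) }
  have hTH : T ≤ H := fun t ht => ⟨hTP ht, fun c hc => h c hc t ht⟩
  have hall : P ≤ H := by
    refine hgen.ge.trans (sup_le hTH ?_)
    rintro _ ⟨t, ht, rfl⟩
    refine ⟨mul_mem (mul_mem hg (hTP ht)) (inv_mem hg), fun c hc => ?_⟩
    rw [show ⁅c, (MulAut.conj g).toMonoidHom t⁆ = g * ⁅g⁻¹ * c * g⁻¹⁻¹, t⁆ * g⁻¹ by
      simp [commutatorElement_def, mul_assoc]]
    exact conj_mem_of_le hE hg ((hTH ht).2 _ (conj_mem_of_le hD (inv_mem hg) hc))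
  exact fun c hc s hs => (hall hs).2 c hc

section
variable [Finite X] {T₀ P₀ Nm N R T' T2 U W C : Subgroup X} {g : X} {p q : ℕ} [Fact p.Prime]
  (A : Amalgam p q T₀ P₀) (hb : HasB p T₀ P₀ 2) (h : Two p q T₀ P₀ Nm N R T' T2 U W C g)
include A hb h

theorem Two.series :
    (∀ y ∈ Qv p P₀, ∀ s ∈ P₀, ⁅y, s⁆ ∈ U ⊔ ⁅Qv p P₀, Qv p P₀⁆) ∧
    (∀ c ∈ ⁅Qv p P₀, Qv p P₀⁆, ∀ s ∈ P₀,
      ⁅c, s⁆ ∈ U ⊔ ⁅⁅Qv p P₀, Qv p P₀⁆, Qv p P₀⁆) ∧
    (∀ c ∈ ⁅⁅Qv p P₀, Qv p P₀⁆, Qv p P₀⁆, ∀ s ∈ P₀, ⁅c, s⁆ = 1) := by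
  have hP := h.eT.loc A
  have hgen : T₀ ⊔ T₀.map (MulAut.conj g).toMonoidHom = P₀ := by
    show T₀ ⊔ cj g T₀ = P₀
    rw [h.g_edge, h.g_gen]
  set D2 := ⁅Qv p P₀, Qv p P₀⁆ with hD2
  set D3 := ⁅D2, Qv p P₀⁆ with hD3
  have hD2n : P₀ ≤ normalizer (D2 : Set X) := fun s hs => mem_normalizer_of_cj (by
    rw [hD2, cj, map_commutator, ← cj, cj_eq_of_mem (hP.norm_core hs)])
  have hD3n : P₀ ≤ normalizer (D3 : Set X) := fun s hs => mem_normalizer_of_cj (by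
    rw [hD3, cj, map_commutator, ← cj, ← cj, cj_eq_of_mem (hP.norm_core hs), cj_eq_of_mem (hD2n hs)])
  have hsupn : ∀ {H : Subgroup X}, P₀ ≤ normalizer (H : Set X) →
      P₀ ≤ normalizer ((U ⊔ H : Subgroup X) : Set X) := fun hH s hs => mem_normalizer_of_cj (by
    rw [cj_sup, cj_eq_of_mem (h.U_norm A hb hs), cj_eq_of_mem (hH hs)])
  have hDU : Zt P₀ ≤ U := (h.D_ZT A hb).trans (hP.center_le_V.trans (h.V_C.trans (h.C_W.trans (h.W_U A hb))))
  refine ⟨comm_of_edge hP.norm_core (hsupn hD2n) hP.le h.g_mem hgen fun c hc t ht => ?_,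
    comm_of_edge hD2n (hsupn hD3n) hP.le h.g_mem hgen fun c hc t ht => ?_, fun c hc s hs => ?_⟩
  · obtain ⟨x, hx, y, hy, rfl⟩ := h.cover_T A hb t ht
    have hxP := hP.le (h.R_T A hb hx)
    rw [comm_mul_right]
    refine mul_mem (mem_sup_left ?_)
      (conj_mem_of_le (hsupn hD2n) hxP (mem_sup_right (commutator_mem_commutator hc hy)))
    rw [← commutatorElement_inv x c]
    refine inv_mem ?_
    obtain ⟨v, hv, r, hr, rfl⟩ := h.cover_Q A hb c hc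
    have hvU : v ∈ U := h.U_def ▸ Vv_le_UU ⟨T', h.eT', h.eT'm⟩ hv
    have z := h.ZN_le A hb (h.star_R A hb hx hr.2)
    rw [comm_mul_right, mem_Zt_comm z (h.U_T A hb hvU), mul_inv_cancel_right]
    exact mul_mem (comm_mem_of_le (h.U_norm A hb) hxP hvU)
      (h.W_U A hb (h.C_W (h.V_C (hP.center_le_V z))))
  · obtain ⟨x, hx, y, hy, rfl⟩ := h.cover_T A hb t ht
    rw [comm_mul_right]
    refine mul_mem (mem_sup_left (hDU ?_))
      (conj_mem_of_le (hsupn hD3n) (hP.le (h.R_T A hb hx)) (mem_sup_right (commutator_mem_commutator hc hy)))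
    rw [← commutatorElement_inv x c]
    exact inv_mem (h.derived_comm A hb hx hc)
  · have hbot : P₀ ≤ normalizer ((⊥ : Subgroup X) : Set X) := fun z _ =>
      mem_normalizer_fintype fun w hw => by rw [Subgroup.mem_bot.1 hw]; simp
    refine Subgroup.mem_bot.1 (comm_of_edge hD3n hbot hP.le h.g_mem hgen (fun c hc t ht => ?_) c hc s hs)
    obtain ⟨x, hx, y, hy, rfl⟩ := h.cover_T A hb t ht
    rw [Subgroup.mem_bot, comm_mul_right, comm_eq_one (h.derived3_comm A hb hx hc).symm, one_mul]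
    have h4 := h.gamma4 A hb
    have : ⁅c, y⁆ ∈ ⁅⁅⁅T₀, T₀⁆, T₀⁆, T₀⁆ := commutator_mem_commutator
      (commutator_mono (commutator_mono hP.core_le hP.core_le) hP.core_le hc) (hP.core_le hy)
    rw [h4, Subgroup.mem_bot] at this
    rw [this]; simp

end

end Cfsg.Lib.Local.PushingUp
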