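import Cfsg.Agent.Lib.Local.PushingUp.Setup
import Cfsg.Agent.Lib.Local.PushingUp.Chief
import Cfsg.Prelude.Def_LocalEven
import Cfsg.Prelude.Def_PLocal

/-!
The rank one pushing-up theorem.
-/

set_option autoImplicit false
set_option linter.style.haveILetI false

namespace Cfsg.Lib.Local.PushingUp

open Subgroup
open scoped commutatorElement

variable {G : Type*} [Group G] [Finite G] {p : ℕ} [Fact p.Prime] {S : Sylow p G} {F : Type} [Field F]
  [Fintype F] {n : ℕ} {K : Subgroup G} [K.Normal]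

omit [Finite G] in
theorem le_normalizer_range_iff {H : Subgroup (Equiv.Perm G)} {A : Subgroup G} (hA : A.map (regEmb G) = H) :
    (regEmb G).range ≤ normalizer (H : Set (Equiv.Perm G)) ↔ A.Normal := by
  rw [← hA, MonoidHom.range_eq_map, le_normalizer_map_iff regEmb_injective, top_le_iff, normalizer_eq_top_iff]

/-- A natural section gives a chief factor. -/
theorem chief_of_natural {U C : Subgroup G} {W : Subgroup (Equiv.Perm G)} {q : ℕ}
    (hP : LocalData p q ((S : Subgroup G).map (regEmb G)) (regEmb G).range) (hq : 1 < q)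
    [U.Normal] [C.Normal] (hCW : C.map (regEmb G) ≤ W) (hWU : W ≤ U.map (regEmb G))
    (hWT : W ≤ (S : Subgroup G).map (regEmb G))
    (hC : (C.map (regEmb G)).relIndex (U.map (regEmb G)) = q * q) (hW : W.relIndex (U.map (regEmb G)) = q)
    (hfix : ∀ t ∈ (S : Subgroup G).map (regEmb G), ∀ w ∈ W, ⁅t, w⁆ ∈ C.map (regEmb G))
    (hquad : ∀ t ∈ (S : Subgroup G).map (regEmb G), ∀ a ∈ U.map (regEmb G), ⁅t, a⁆ ∈ W)
    (hsec : ∀ u ∈ (S : Subgroup G).map (regEmb G), u ∉ Qv p (regEmb G).range → ∀ a ∈ U.map (regEmb G),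
      ⁅u, a⁆ ∈ C.map (regEmb G) → a ∈ W)
    (hgen : ∀ g ∈ (regEmb G).range,
      (S : Subgroup G).map (regEmb G) ⊔ ((S : Subgroup G).map (regEmb G)).map (MulAut.conj g).toMonoidHom =
        (regEmb G).range →
      W ⊓ W.map (MulAut.conj g).toMonoidHom = C.map (regEmb G) ∧
        W ⊔ W.map (MulAut.conj g).toMonoidHom = U.map (regEmb G)) :
    Cfsg.IsChiefFactor U C ∧ ¬ ⁅U, (⊤ : Subgroup G)⁆ ≤ C := by
  have hι := regEmb_injective (G := G)
  have hCU : C ≤ U := (map_le_map_iff_of_injective hι).1 (hCW.trans hWU)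
  obtain ⟨x, hx, hxQ⟩ : ∃ x ∈ (S : Subgroup G).map (regEmb G), x ∉ Qv p (regEmb G).range := by
    refine SetLike.not_le_iff_exists.1 fun hle => ?_
    have := relIndex_eq_one.2 hle
    rw [hP.index_core] at this
    omega
  obtain ⟨a, ha, haW⟩ : ∃ a ∈ U.map (regEmb G), a ∉ W := by
    refine SetLike.not_le_iff_exists.1 fun hle => ?_
    rw [relIndex_eq_one.2 hle] at hW
    omega
  have hnc : ¬ ⁅U, (⊤ : Subgroup G)⁆ ≤ C := fun hle => haW (hsec x hx hxQ a ha (by
    obtain ⟨a, ha', rfl⟩ := ha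
    obtain ⟨x, hx', rfl⟩ := hx
    rw [← map_commutatorElement]
    refine mem_map_of_mem _ ?_
    rw [← commutatorElement_inv a x]
    exact inv_mem (hle (commutator_mem_commutator ha' (mem_top x)))))
  refine ⟨⟨lt_of_le_of_ne hCU fun e => hnc (e ▸ ?_), inferInstance, inferInstance, fun N hN hCN hNU => ?_⟩, hnc⟩
  · exact commutator_le_left _ _
  · rcases natural_irreducible hP hq ((le_normalizer_range_iff rfl).2 inferInstance)
      ((le_normalizer_range_iff rfl).2 inferInstance) hCW hWU hWT hC hW hfix hquad hsec hgen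
      (N := N.map (regEmb G)) ((le_normalizer_range_iff rfl).2 hN) (map_mono hCN) (map_mono hNU) with e | e
    · exact Or.inl (map_injective hι e)
    · exact Or.inr (map_injective hι e)

omit [Fact p.Prime] in
theorem exists_ne_one_of_dvd {m : ℕ} {H : Subgroup G} (h : ∀ t ∈ H, t ^ m = 1) :
    Monoid.exponent ↥H ∣ m :=
  Monoid.exponent_dvd_of_forall_pow_eq_one fun t => Subtype.ext (h t t.2)

/-- The pushing-up theorem in rank one. -/
theorem GData.pushing_up (h : GData S F n K) :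
    ((S : Subgroup G).lowerCentralSeries 2 = ⊥ ∧ (S : Subgroup G).lowerCentralSeries 1 ≠ ⊥ ∧
      (p = 2 → Monoid.exponent ↥(S : Subgroup G) = 4) ∧ (p ≠ 2 → Monoid.exponent ↥(S : Subgroup G) = p) ∧
      (∃ U W : Subgroup G, W ≤ U ∧ U ≤ Cfsg.pCore p G ∧ Cfsg.IsChiefFactor U W ∧
        ¬ ⁅U, (⊤ : Subgroup G)⁆ ≤ W ∧ (∃ k : ℕ, Cfsg.iterCommutator W ⊤ k = ⊥) ∧
        (∃ k : ℕ, Cfsg.iterCommutator (Cfsg.pCore p G) ⊤ k ≤ U))) ∨
    (p = 3 ∧ (S : Subgroup G).lowerCentralSeries 3 = ⊥ ∧ (S : Subgroup G).lowerCentralSeries 2 ≠ ⊥ ∧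
      Monoid.exponent ↥(S : Subgroup G) = 9 ∧
      (∃ U₁ W₁ U₂ W₂ : Subgroup G, W₁ ≤ U₁ ∧ U₁ ≤ W₂ ∧ W₂ ≤ U₂ ∧ U₂ ≤ Cfsg.pCore p G ∧
        Cfsg.IsChiefFactor U₁ W₁ ∧ Cfsg.IsChiefFactor U₂ W₂ ∧ ¬ ⁅U₁, (⊤ : Subgroup G)⁆ ≤ W₁ ∧
        ¬ ⁅U₂, (⊤ : Subgroup G)⁆ ≤ W₂ ∧ (∃ k : ℕ, Cfsg.iterCommutator W₁ ⊤ k = ⊥) ∧
        (∃ k : ℕ, Cfsg.iterCommutator W₂ ⊤ k ≤ U₁) ∧
        (∃ k : ℕ, Cfsg.iterCommutator (Cfsg.pCore p G) ⊤ k ≤ U₂))) := by
  have hι := regEmb_injective (G := G)
  set ι := regEmb G with hιdef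
  have A := h.amalgam
  obtain ⟨b, hb⟩ := A.exists_b
  have hT : Edge ((S : Subgroup G).map ι) ι.range ((S : Subgroup G).map ι) ι.range := Edge.base
  have hP := hT.loc A
  have hQ : Qv p ι.range = (Cfsg.pCore p G).map ι := Qv_range hι p
  have hV : Vv p ι.range = (Baumann.vOf p G).map ι := Vv_range hι p
  have hD : Zt ι.range = (center G).map ι := Zt_range hι
  -- the first chief factor
  have hcenter : Cfsg.iterCommutator (center G) ⊤ 1 = ⊥ := by
    show ⁅center G, (⊤ : Subgroup G)⁆ = ⊥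
    exact commutator_eq_bot_iff_le_centralizer.2 (center_le_centralizer _)
  have hchief1 : Cfsg.IsChiefFactor (Baumann.vOf p G) (center G) ∧
      ¬ ⁅Baumann.vOf p G, (⊤ : Subgroup G)⁆ ≤ center G := by
    refine chief_of_natural (W := Zt ((S : Subgroup G).map ι)) hP A.one_lt ?_ ?_ (Zt_le _) ?_ ?_ ?_ ?_ ?_ ?_
    · rw [← hD]; exact hP.D_le_center
    · rw [← hV]; exact hP.center_le_V
    · rw [← hD, ← hV]; exact hP.index_D
    · rw [← hV]; exact hP.index_center
    · intro t ht w hw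
      rw [comm_eq_one (mem_Zt_comm hw ht)]
      exact one_mem _
    · intro t ht a ha
      exact A.quad hb hT (hV ▸ ha) ht
    · intro u hu huQ a ha hua
      exact hP.fix u hu huQ a (hV ▸ ha) (hD ▸ hua)
    · intro g hg hgen
      rw [← hD, ← hV]
      exact hP.gen g hg hgen
  have hSne : ∀ {m : ℕ}, (∃ t ∈ (S : Subgroup G), t ^ m ≠ 1) → ¬ Monoid.exponent ↥(S : Subgroup G) ∣ m :=
    fun {m} ⟨t, ht, hne⟩ hd => hne (congrArg Subtype.val
      (Monoid.exponent_dvd_iff_forall_pow_eq_one.1 hd ⟨t, ht⟩))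
  have h2b : b ≤ 2 := A.b_le_two hb
  rcases (show b = 1 ∨ b = 2 by have := hb.pos; omega) with rfl | rfl
  · -- `b = 1`
    left
    obtain ⟨h1, hodd, h4, hQV⟩ := A.b_one hb
    have hcomm : ∀ a ∈ (S : Subgroup G), ∀ c ∈ (S : Subgroup G), ∀ t ∈ (S : Subgroup G),
        t * ⁅a, c⁆ = ⁅a, c⁆ * t := by
      intro a ha c hc t ht
      refine hι ?_
      rw [map_mul, map_mul, map_commutatorElement]
      exact mem_Zt_comm (h1 _ (mem_map_of_mem ι ha) _ (mem_map_of_mem ι hc)) (mem_map_of_mem ι ht)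
    have hl1 : (S : Subgroup G).lowerCentralSeries 1 ≠ ⊥ := by
      intro e
      rw [Subgroup.lowerCentralSeries_succ, Subgroup.lowerCentralSeries_zero] at e
      refine h.not_cover ?_
      have hSc : (S : Subgroup G) ≤ centralizer (Baumann.vOf p G : Set G) := fun s hs =>
        mem_centralizer_iff.2 fun v hv => (Cfsg.Lib.Core.commutator_eq_bot_iff_forall.1 e s hs v
          (Cfsg.Lib.Core.pCore_le_sylow S (Baumann.vOf_le hv))).symm
      rw [sup_eq_left.2 hSc]
      obtain ⟨g, hg⟩ := h.toRankOne.exists_gen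
      refine top_le_iff.1 (hg.ge.trans (sup_le hSc ?_))
      refine (map_mono hSc).trans (le_of_eq (Cfsg.Lib.Core.map_conj_eq_of_mem_normalizer ?_))
      rw [normalizer_eq_top]
      exact mem_top g
    refine ⟨?_, hl1, fun hp => ?_, fun hp => ?_, Baumann.vOf p G, center G, h.center_le_vOf,
      Baumann.vOf_le, hchief1.1, hchief1.2, ⟨1, hcenter⟩, 1, ?_⟩
    · rw [Subgroup.lowerCentralSeries_succ, Subgroup.lowerCentralSeries_succ, Subgroup.lowerCentralSeries_zero]
      refine commutator_eq_bot_iff_le_centralizer.2 (commutator_le.2 fun a ha c hc => ?_)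
      exact mem_centralizer_iff.2 fun t ht => hcomm a ha c hc t ht
    · subst hp
      have h4' : Monoid.exponent ↥(S : Subgroup G) ∣ 2 ^ 2 := exists_ne_one_of_dvd fun t ht => by
        refine hι ?_
        rw [map_pow, map_one]
        exact h4 _ (mem_map_of_mem ι ht) rfl
      obtain ⟨i, hi, e⟩ := (Nat.dvd_prime_pow Nat.prime_two).1 h4'
      have h2 : ¬ Monoid.exponent ↥(S : Subgroup G) ∣ 2 := by
        refine hSne ?_
        by_contra hall
        push Not at hall
        refine hl1 ?_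
        rw [Subgroup.lowerCentralSeries_succ, Subgroup.lowerCentralSeries_zero]
        refine Cfsg.Lib.Core.commutator_eq_bot_iff_forall.2 fun a ha c hc => ?_
        have ea := hall a ha
        have ec := hall c hc
        have eac := hall _ (mul_mem ha hc)
        rw [sq] at ea ec eac
        rw [← inv_eq_of_mul_eq_one_right eac, mul_inv_rev, inv_eq_of_mul_eq_one_right ea,
          inv_eq_of_mul_eq_one_right ec]
      interval_cases i
      · exact absurd (e ▸ one_dvd 2) h2
      · exact absurd (e ▸ dvd_refl 2) h2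
      · exact e
    · have hd : Monoid.exponent ↥(S : Subgroup G) ∣ p := exists_ne_one_of_dvd fun t ht => by
        refine hι ?_
        rw [map_pow, map_one]
        exact hodd hp _ (mem_map_of_mem ι ht)
      refine ((Nat.dvd_prime Fact.out).1 hd).resolve_left fun e => ?_
      haveI := h.nontrivial
      exact not_subsingleton _ (Monoid.exp_eq_one_iff.1 e)
    · show ⁅Cfsg.pCore p G, (⊤ : Subgroup G)⁆ ≤ Baumann.vOf p G
      refine commutator_le.2 fun a ha c _ => ?_
      have := hQV (ι a) (hQ ▸ mem_map_of_mem ι ha) (ι c) ⟨c, rfl⟩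
      rw [hV, ← map_commutatorElement, mem_map_iff_mem hι] at this
      exact this
  · -- `b = 2`
    right
    obtain ⟨Nm, N, R, T', T2, U, W, C, g, ht⟩ := A.exists_two hb
    have hp3 := ht.prime_eq A hb
    obtain ⟨h9, t, htT, ht3⟩ := ht.exponent A hb hp3
    have hlmap : ∀ k : ℕ, ((S : Subgroup G).lowerCentralSeries k).map ι =
        ((S : Subgroup G).map ι).lowerCentralSeries k := by
      intro k
      induction k with
      | zero => rw [Subgroup.lowerCentralSeries_zero, Subgroup.lowerCentralSeries_zero]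
      | succ k ih => rw [Subgroup.lowerCentralSeries_succ, Subgroup.lowerCentralSeries_succ, map_commutator, ih]
    have hrange : ∀ {H : Subgroup (Equiv.Perm G)}, H ≤ U → (H.comap ι).map ι = H := fun hH =>
      map_comap_eq_self (hH.trans ((ht.U_le A hb).trans (Qv_le p _)))
    set U' := U.comap ι
    set C' := C.comap ι
    have hU' : U'.map ι = U := hrange le_rfl
    have hC' : C'.map ι = C := hrange (ht.C_W.trans (ht.W_U A hb))
    haveI hU'n : U'.Normal := (le_normalizer_range_iff hU').1 (ht.U_norm A hb)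
    haveI hC'n : C'.Normal := (le_normalizer_range_iff hC').1 ht.C_norm
    have hchief2 := chief_of_natural (U := U') (C := C') (W := W) hP A.one_lt (hC'.symm ▸ ht.C_W)
      (hU'.symm ▸ ht.W_U A hb) ((ht.W_U A hb).trans (ht.U_T A hb)) (by rw [hC', hU']; exact ht.C_idx)
      (by rw [hU']; exact ht.W_idx)
      (fun t htt w hw => hC'.symm ▸ ht.V_C (ht.fixW t htt w hw))
      (fun t htt a ha => ht.quad t htt a (hU' ▸ ha))
      (fun u hu huQ a ha hua => ht.sec u hu huQ a (hU' ▸ ha) (hC' ▸ hua))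
      (fun g hg hgen => by rw [hC', hU']; exact ht.gen g hg hgen)
    refine ⟨hp3, map_injective hι ?_, fun e => ht.gamma3_ne A hb ?_, ?_, Baumann.vOf p G, center G, U', C',
      h.center_le_vOf, ?_, ?_, ?_, hchief1.1, hchief2.1, hchief1.2, hchief2.2, ⟨1, hcenter⟩, ⟨1, ?_⟩, 3, ?_⟩
    · rw [hlmap, Subgroup.map_bot, Subgroup.lowerCentralSeries_succ, Subgroup.lowerCentralSeries_succ, Subgroup.lowerCentralSeries_succ,
        Subgroup.lowerCentralSeries_zero]
      exact ht.gamma4 A hb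
    · have := hlmap 2
      rw [e, Subgroup.map_bot, Subgroup.lowerCentralSeries_succ, Subgroup.lowerCentralSeries_succ, Subgroup.lowerCentralSeries_zero] at this
      exact this.symm
    · have hd : Monoid.exponent ↥(S : Subgroup G) ∣ 3 ^ 2 := exists_ne_one_of_dvd fun s hs => by
        refine hι ?_
        rw [map_pow, map_one]
        exact h9 _ (mem_map_of_mem ι hs)
      have h3 : ¬ Monoid.exponent ↥(S : Subgroup G) ∣ 3 := by
        obtain ⟨s, hs, rfl⟩ := htT
        exact hSne ⟨s, hs, fun e => ht3 (by rw [← map_pow, e, map_one])⟩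
      obtain ⟨i, hi, e⟩ := (Nat.dvd_prime_pow Nat.prime_three).1 hd
      interval_cases i
      · exact absurd (e ▸ one_dvd 3) h3
      · exact absurd (e ▸ dvd_refl 3) h3
      · exact e
    · refine (map_le_map_iff_of_injective hι).1 ?_
      rw [hC', ← hV]
      exact ht.V_C
    · refine (map_le_map_iff_of_injective hι).1 ?_
      rw [hC', hU']
      exact ht.C_W.trans (ht.W_U A hb)
    · refine (map_le_map_iff_of_injective hι).1 ?_
      rw [hU', ← hQ]
      exact ht.U_le A hb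
    · show ⁅C', (⊤ : Subgroup G)⁆ ≤ Baumann.vOf p G
      refine commutator_le.2 fun a ha c _ => ?_
      have h1 := ((ht.C_mem (ι a)).1 ha).2 (ι c) ⟨c, rfl⟩
      rw [hV, ← map_commutatorElement, mem_map_iff_mem hι] at h1
      rw [← commutatorElement_inv c a]
      exact inv_mem h1
    · obtain ⟨s1, s2, s3⟩ := ht.series A hb
      set Q := Cfsg.pCore p G
      set D2 := ⁅Q, Q⁆ with hD2
      set D3 := ⁅D2, Q⁆ with hD3
      haveI : D2.Normal := by rw [hD2]; infer_instance
      haveI : D3.Normal := by rw [hD3]; infer_instance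
      have hm2 : D2.map ι = ⁅Qv p ι.range, Qv p ι.range⁆ := by rw [hD2, map_commutator, hQ]
      have hm3 : D3.map ι = ⁅⁅Qv p ι.range, Qv p ι.range⁆, Qv p ι.range⁆ := by
        rw [hD3, map_commutator, hm2, hQ]
      have i1 : ⁅Q, (⊤ : Subgroup G)⁆ ≤ U' ⊔ D2 := commutator_le.2 fun a ha c _ => by
        have := s1 (ι a) (hQ ▸ mem_map_of_mem ι ha) (ι c) ⟨c, rfl⟩
        rw [← hU', ← hm2, ← Subgroup.map_sup, ← map_commutatorElement, mem_map_iff_mem hι] at this
        exact this
      have i2 : ⁅D2, (⊤ : Subgroup G)⁆ ≤ U' ⊔ D3 := commutator_le.2 fun a ha c _ => by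
        have := s2 (ι a) (hm2 ▸ mem_map_of_mem ι ha) (ι c) ⟨c, rfl⟩
        rw [← hU', ← hm3, ← Subgroup.map_sup, ← map_commutatorElement, mem_map_iff_mem hι] at this
        exact this
      have i3 : ⁅D3, (⊤ : Subgroup G)⁆ ≤ U' := commutator_le.2 fun a ha c _ => by
        have := s3 (ι a) (hm3 ▸ mem_map_of_mem ι ha) (ι c) ⟨c, rfl⟩
        rw [← map_commutatorElement, ← map_one ι] at this
        rw [hι this]
        exact one_mem _
      show ⁅⁅⁅Q, (⊤ : Subgroup G)⁆, (⊤ : Subgroup G)⁆, (⊤ : Subgroup G)⁆ ≤ U'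
      have hU1 : ⁅U', (⊤ : Subgroup G)⁆ ≤ U' := commutator_le_left _ _
      have e1 : ⁅U' ⊔ D2, (⊤ : Subgroup G)⁆ ≤ U' ⊔ D3 := by
        rw [commutator_le]
        intro a ha c _
        obtain ⟨u, hu, d, hd, rfl⟩ := mem_sup_of_normal_left.1 ha
        rw [comm_mul_left]
        exact mul_mem ((inferInstance : (U' ⊔ D3).Normal).conj_mem _ (i2 (commutator_mem_commutator hd (mem_top c))) u)
          (mem_sup_left (hU1 (commutator_mem_commutator hu (mem_top c))))
      have e2 : ⁅U' ⊔ D3, (⊤ : Subgroup G)⁆ ≤ U' := by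
        rw [commutator_le]
        intro a ha c _
        obtain ⟨u, hu, d, hd, rfl⟩ := mem_sup_of_normal_left.1 ha
        rw [comm_mul_left]
        exact mul_mem (hU'n.conj_mem _ (i3 (commutator_mem_commutator hd (mem_top c))) u)
          (hU1 (commutator_mem_commutator hu (mem_top c)))
      exact (commutator_mono ((commutator_mono i1 le_rfl).trans e1) le_rfl).trans e2

end Cfsg.Lib.Local.PushingUp
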