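import Cfsg.Agent.Lib.Local.PushingUp.Module

/-!
A module with an equivariant spread indexed by the projective line is the natural module.
-/

set_option autoImplicit false
set_option linter.style.haveILetI false

namespace Cfsg.Lib.Local.PushingUp

open Matrix
open Cfsg.Lib.Linear.SLTwoNatural (u l w d)

/-- An additive map preserving inverses on a finite field is multiplicative (Hua). -/
theorem map_mul_of_map_inv {F : Type*} [Field F] [Finite F] {R : Type*} [Ring R] (E : F →+ R)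
    (h1 : E 1 = 1) (hinv : ∀ s : F, s ≠ 0 → E s⁻¹ * E s = 1) (a b : F) : E (a * b) = E a * E b := by
  have hinv' : ∀ s : F, s ≠ 0 → E s * E s⁻¹ = 1 := fun s hs => by
    simpa using hinv s⁻¹ (inv_ne_zero hs)
  have hua : ∀ x y : F, E (x * y * x) = E x * E y * E x := by
    intro x y
    by_cases hx : x = 0
    · simp [hx]
    by_cases hy : y = 0
    · simp [hy]
    by_cases hxy : y⁻¹ - x = 0
    · have e : x = y⁻¹ := (sub_eq_zero.1 hxy).symm
      subst e
      rw [inv_mul_cancel₀ hy, one_mul, hinv y hy, one_mul]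
    have hsum : x⁻¹ + (y⁻¹ - x)⁻¹ = (x - x * y * x)⁻¹ := by
      have h0 : x - x * y * x = (y⁻¹ - x) * y * x := by field_simp
      rw [h0, inv_add_inv hx hxy, add_sub_cancel, mul_inv, mul_inv, div_eq_mul_inv, mul_inv]
      ring
    have h0 : x - x * y * x ≠ 0 := by
      have h0' : x - x * y * x = (y⁻¹ - x) * y * x := by field_simp
      rw [h0']
      exact mul_ne_zero (mul_ne_zero hxy hy) hx
    set d' := y⁻¹ - x with hd
    have key : (E x⁻¹ + E d'⁻¹) * (E x - E x * E y * E x) = 1 := by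
      have hEd : E d' = E y⁻¹ - E x := by rw [hd, map_sub]
      have e1 : E x - E x * E y * E x = E d' * (E y * E x) := by
        rw [hEd, sub_mul, ← mul_assoc (E y⁻¹), hinv y hy, one_mul, mul_assoc]
      rw [e1, ← mul_assoc (E x⁻¹ + E d'⁻¹), add_mul (E x⁻¹), hinv d' hxy, hEd, mul_sub, hinv x hx,
        sub_add_cancel, mul_assoc, ← mul_assoc (E y⁻¹), hinv y hy, one_mul, hinv x hx]
    rw [← map_add, hsum] at key
    have e2 : E x - E x * E y * E x = E (x - x * y * x) :=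
      (left_inv_eq_right_inv (hinv' _ h0) key).symm
    rw [map_sub] at e2
    exact (sub_right_injective e2).symm
  obtain ⟨c, hc⟩ := IsCyclic.exists_generator (α := Fˣ)
  have hpow : ∀ k : ℕ, E ((c : F) ^ k) = E (c : F) ^ k := by
    intro k
    induction k using Nat.twoStepInduction with
    | zero => simpa using h1
    | one => simp
    | more k ih _ =>
      rw [show (c : F) ^ (k + 2) = (c : F) * (c : F) ^ k * (c : F) by ring, hua, ih, pow_succ, ← pow_succ']
  by_cases ha : a = 0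
  · simp [ha]
  by_cases hb : b = 0
  · simp [hb]
  obtain ⟨i, hi⟩ := Submonoid.mem_powers_iff _ _ |>.1 (mem_powers_iff_mem_zpowers.2 (hc (Units.mk0 a ha)))
  obtain ⟨j, hj⟩ := Submonoid.mem_powers_iff _ _ |>.1 (mem_powers_iff_mem_zpowers.2 (hc (Units.mk0 b hb)))
  rw [show a = (c : F) ^ i from (congrArg Units.val hi).symm.trans (Units.val_pow_eq_pow_val c i) |>.trans rfl,
    show b = (c : F) ^ j from (congrArg Units.val hj).symm.trans (Units.val_pow_eq_pow_val c j) |>.trans rfl,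
    ← pow_add, hpow, hpow, hpow, pow_add]

variable {F : Type} [Field F] [Fintype F] {G : Type*} [Group G] {M : Type*} [AddCommGroup M] [Finite M]

local notation "SL2" => Matrix.SpecialLinearGroup (Fin 2) F
local notation "PSL2" => Matrix.ProjectiveSpecialLinearGroup (Fin 2) F

/-- What is known about a module with a spread. -/
structure SpreadData (π : G →* PSL2) (σ : G →* AddMonoid.End M) (S : Subgroup G) (L : AddSubgroup M) : Prop where
  map_eq : S.map π = std F
  core : ∀ x ∈ S, π x = 1 → ∀ z : G, z * x * z⁻¹ ∈ S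
  surj : Function.Surjective π
  gen : ∀ z : G, π z = proj (w F) → S ⊔ S.map (MulAut.conj z).toMonoidHom = ⊤
  fix : ∀ x ∈ S, ∀ v ∈ L, σ x v = v
  quad : ∀ x ∈ S, ∀ v, σ x v - v ∈ L
  sec : ∀ x ∈ S, π x ≠ 1 → ∀ v, σ x v = v → v ∈ L
  line : ∀ z z' : G, (std F).map (MulAut.conj (π z)).toMonoidHom = (std F).map (MulAut.conj (π z')).toMonoidHom →
    ∀ v ∈ L, ∃ v' ∈ L, σ z v = σ z' v'
  split : ∀ z : G, π z = proj (w F) →
    (∀ v ∈ L, ∀ v' ∈ L, v = σ z v' → v = 0) ∧ ∀ m, ∃ v ∈ L, ∃ v' ∈ L, m = v + σ z v'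
  card : Nat.card L = Fintype.card F

variable {σ : G →* AddMonoid.End M} {S : Subgroup G} {L : AddSubgroup M}

omit [Finite M] in
theorem act_mul (a c : G) (v : M) : σ (a * c) v = σ a (σ c v) := by rw [map_mul]; rfl

omit [Finite M] in
theorem act_cancel (a : G) (v : M) : σ a⁻¹ (σ a v) = v := by
  rw [← act_mul, inv_mul_cancel, map_one]; rfl

omit [Finite M] in
theorem end_add_apply (f g : AddMonoid.End M) (v : M) : (f + g) v = f v + g v := rfl

omit [Finite M] in
theorem end_neg_apply (f : AddMonoid.End M) (v : M) : (-f) v = -(f v) := rfl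

omit [Finite M] in
theorem end_mul_apply (f g : AddMonoid.End M) (v : M) : (f * g) v = f (g v) := rfl

omit [Finite M] in
theorem end_one_apply (v : M) : (1 : AddMonoid.End M) v = v := rfl

/-- The natural module. -/
theorem SpreadData.exists_natural {π : G →* PSL2} (h : SpreadData π σ S L) (p : ℕ) [Fact p.Prime] [CharP F p] :
    ∃ (ρ : G →* SL2) (ψ : M ≃+ (Fin 2 → F)), Function.Surjective ρ ∧ (∀ z, proj (ρ z) = π z) ∧
      ∀ (z : G) (v : M), ψ (σ z v) = ((ρ z : SL2) : Matrix (Fin 2) (Fin 2) F) *ᵥ ψ v := by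
  classical
  -- elements over the root group
  have hex : ∀ s : F, ∃ x ∈ S, π x = proj (u s) := fun s =>
    Subgroup.mem_map.1 (h.map_eq.ge (mem_std.2 ⟨s, rfl⟩))
  choose x hxS hx using hex
  obtain ⟨z₀, hz₀⟩ := h.surj (proj (w F))
  obtain ⟨hdis, hcov⟩ := h.split z₀ hz₀
  -- elements of `S` with the same image act equally
  have htriv : ∀ y ∈ S, π y = 1 → ∀ v, σ y v = v := by
    intro y hy hy1 v
    obtain ⟨a, ha, c, hc, rfl⟩ := hcov v
    rw [map_add, h.fix y hy a ha]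
    congr 1
    have hy' := h.core y hy hy1 z₀⁻¹
    rw [inv_inv] at hy'
    rw [← act_mul, show y * z₀ = z₀ * (z₀⁻¹ * y * z₀) by group, act_mul, h.fix _ hy' c hc]
  have hsame : ∀ y ∈ S, ∀ y' ∈ S, π y = π y' → ∀ v, σ y v = σ y' v := by
    intro y hy y' hy' e v
    rw [show y = y' * (y'⁻¹ * y) by group, act_mul,
      htriv _ (mul_mem (inv_mem hy') hy) (by rw [map_mul, map_inv, e, inv_mul_cancel])]
  have hline' : ∀ {z z' : G} {m : SL2}, (π z')⁻¹ * π z = proj m → m 1 0 = 0 → ∀ v ∈ L, ∃ v' ∈ L, σ z v = σ z' v' := by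
    intro z z' m e hm v hv
    refine h.line z z' ?_ v hv
    have hn := (normalizer_std (F := F) p).2 hm
    rw [← e] at hn
    have := congrArg (Subgroup.map (MulAut.conj (π z')).toMonoidHom) (Cfsg.Lib.Core.map_conj_eq_of_mem_normalizer hn)
    rw [Subgroup.map_map] at this
    rw [← this]
    congr 1
    ext k
    simp [mul_assoc]
  -- the braid
  obtain ⟨y, hy, hπy⟩ : ∃ y, z₀⁻¹ * y * z₀ ∈ S ∧ π y = proj (l (-1)) := by
    refine ⟨z₀ * x 1 * z₀⁻¹, by simpa [mul_assoc] using hxS 1, ?_⟩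
    rw [map_mul, map_mul, map_inv, hz₀, hx, ← map_inv, ← map_mul, ← map_mul]
    congr 1
    rw [show u (1 : F) = u (-(-1)) by rw [neg_neg], ← Cfsg.Lib.Linear.SLTwoNatural.l_mul_w, mul_inv_cancel_right]
  set W := x 1 * y * x 1 with hW
  have hπW : π W = proj (w F) := by
    rw [hW, map_mul, map_mul, hx, hπy, ← map_mul, ← map_mul]
    congr 1
    have e := Cfsg.Lib.Linear.SLTwoNatural.braid (1 : Fˣ)
    rw [Cfsg.Lib.Linear.SLTwoNatural.d_one, one_mul, inv_one, Units.val_one] at e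
    exact e
  -- the opposite line
  let L₀ : AddSubgroup M :=
    { carrier := {v | ∃ c ∈ L, σ z₀ c = v}
      zero_mem' := ⟨0, zero_mem L, map_zero _⟩
      add_mem' := by
        rintro _ _ ⟨a, ha, rfl⟩ ⟨c, hc, rfl⟩
        exact ⟨a + c, add_mem ha hc, map_add _ _ _⟩
      neg_mem' := by
        rintro _ ⟨a, ha, rfl⟩
        exact ⟨-a, neg_mem ha, map_neg _ _⟩ }
  have hdisj : ∀ v, v ∈ L → v ∈ L₀ → v = 0 := fun v hv ⟨c, hc, e⟩ => hdis v hv c hc e.symm
  have hyfix : ∀ v ∈ L₀, σ y v = v := by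
    rintro _ ⟨c, hc, rfl⟩
    rw [← act_mul, show y * z₀ = z₀ * (z₀⁻¹ * y * z₀) by group, act_mul, h.fix _ hy c hc]
  have hyquad : ∀ v, σ y v - v ∈ L₀ := fun v => by
    refine ⟨σ (z₀⁻¹ * y * z₀) (σ z₀⁻¹ v) - σ z₀⁻¹ v, h.quad _ hy _, ?_⟩
    rw [map_sub, ← act_mul, ← act_mul, ← act_mul]
    simp [mul_assoc, map_one]
  have hWL₀ : ∀ v ∈ L₀, σ W v ∈ L := by
    rintro _ ⟨c, hc, rfl⟩
    obtain ⟨c', hc', e⟩ := hline' (z := W * z₀) (z' := 1) (m := w F * w F)
      (by rw [map_one, inv_one, one_mul, map_mul, hπW, hz₀, ← map_mul])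
      (by simp [Matrix.mul_apply, Fin.sum_univ_two, Cfsg.Lib.Linear.SLTwoNatural.w_coe]) c hc
    rw [act_mul, map_one] at e
    exact e ▸ hc'
  set δ : F → M → M := fun s v => σ (x s) v - v with hδ
  have hWact : ∀ v ∈ L₀, σ W v = δ 1 v ∧ σ W (δ 1 v) = -v := by
    intro v hv
    have hd : δ 1 v ∈ L := h.quad _ (hxS 1) v
    set e := σ y (δ 1 v) - δ 1 v with he
    have e1 : σ W v = v + e + δ 1 v + δ 1 (v + e) := by
      rw [hW, act_mul, act_mul, show σ (x 1) v = v + δ 1 v by simp [hδ], map_add, hyfix v hv,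
        show σ y (δ 1 v) = δ 1 v + e by rw [he]; abel, map_add, map_add, h.fix _ (hxS 1) _ hd]
      simp only [hδ, map_add]
      abel
    have e0 : v + e = 0 := by
      refine hdisj _ ?_ (add_mem hv (hyquad _))
      rw [show v + e = σ W v - δ 1 v - δ 1 (v + e) by rw [e1]; abel]
      exact sub_mem (sub_mem (hWL₀ v hv) hd) (h.quad _ (hxS 1) (v + e))
    refine ⟨by rw [e1, e0]; simp [hδ], ?_⟩
    rw [hW, act_mul, act_mul, h.fix _ (hxS 1) _ hd, show σ y (δ 1 v) = δ 1 v + e by rw [he]; abel,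
      show e = -v from eq_neg_of_add_eq_zero_right e0, map_add, h.fix _ (hxS 1) _ hd, map_neg]
    simp [hδ]
    abel
  -- cardinalities
  have hzinj : Function.Injective (σ z₀) := fun a c e => by
    simpa [act_cancel] using congrArg (σ z₀⁻¹) e
  have hcard₀ : Nat.card L₀ = Fintype.card F := by
    rw [← h.card]
    refine (Nat.card_congr (Equiv.ofBijective (fun c : ↥L => (⟨σ z₀ c, c, c.2, rfl⟩ : ↥L₀))
      ⟨fun a c e => Subtype.ext (hzinj (congrArg Subtype.val e)), ?_⟩)).symm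
    rintro ⟨_, c, hc, rfl⟩
    exact ⟨⟨c, hc⟩, rfl⟩
  have hδinj : ∀ s : F, s ≠ 0 → ∀ v ∈ L₀, δ s v = 0 → v = 0 := fun s hs v hv e => by
    refine hdisj v (h.sec (x s) (hxS s) (fun e1 => hs ?_) v (sub_eq_zero.1 e)) hv
    rw [hx] at e1
    obtain ⟨k, hk, hk'⟩ := (QuotientGroup.mk'_eq_mk' _).mp (e1.trans (map_one proj).symm)
    obtain ⟨k01, k10, k11⟩ := Cfsg.Lib.Dickson.mem_center_sl hk
    have := congrArg (fun m : SL2 => m 0 1) hk'
    have k00 : (k : Matrix (Fin 2) (Fin 2) F) 1 1 ≠ 0 := by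
      intro h0
      have hd := k.2
      rw [det_fin_two, k01, k10, h0] at hd
      simp at hd
    simp [Matrix.mul_apply, Fin.sum_univ_two, Cfsg.Lib.Linear.SLTwoNatural.u_coe, k01] at this
    rcases this with h1 | h1
    · exact h1
    · exact absurd h1 k00
  let d₁ : ↥L₀ →+ ↥L := AddMonoidHom.mk' (fun v => ⟨δ 1 v, h.quad _ (hxS 1) _⟩) fun a c =>
    Subtype.ext (by simp only [hδ, AddSubgroup.coe_add, map_add]; abel)
  have hd₁ : Function.Bijective d₁ := by
    refine (Nat.bijective_iff_injective_and_card _).2 ⟨fun a c e => ?_, hcard₀.trans h.card.symm⟩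
    rw [← sub_eq_zero] at e ⊢
    rw [← map_sub] at e
    exact Subtype.ext (hδinj 1 one_ne_zero _ (a - c).2 (congrArg Subtype.val e))
  let D₁ : ↥L₀ ≃+ ↥L := AddEquiv.ofBijective d₁ hd₁
  let E₀ : F → AddMonoid.End ↥L₀ := fun s =>
    D₁.symm.toAddMonoidHom.comp (AddMonoidHom.mk' (fun v => (⟨δ s v, h.quad _ (hxS s) _⟩ : ↥L)) fun a c =>
      Subtype.ext (by simp only [hδ, AddSubgroup.coe_add, map_add]; abel))
  have hE₀ : ∀ s (v : ↥L₀), δ 1 (E₀ s v) = δ s v := fun s v =>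
    congrArg Subtype.val (D₁.apply_symm_apply (⟨δ s v, h.quad _ (hxS s) _⟩ : ↥L))
  have hE₀inj : ∀ a c : ↥L₀, δ 1 a = δ 1 c → a = c := fun a c e => hd₁.1 (Subtype.ext e)
  have hadd : ∀ s t : F, ∀ v : M, δ (s + t) v = δ s v + δ t v := by
    intro s t v
    have e := hsame _ (hxS (s + t)) _ (mul_mem (hxS s) (hxS t))
      (by rw [map_mul, hx, hx, hx, ← map_mul, Cfsg.Lib.Linear.SLTwoNatural.u_mul]) v
    simp only [hδ, e, act_mul]
    have : σ (x s) (σ (x t) v) = σ (x s) v + (σ (x t) v - v) := by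
      conv_lhs => rw [show σ (x t) v = v + (σ (x t) v - v) by abel, map_add, h.fix _ (hxS s) _ (h.quad _ (hxS t) v)]
    rw [this]
    abel
  let E : F →+ AddMonoid.End ↥L₀ := AddMonoidHom.mk' E₀ fun s t => by
    refine AddMonoidHom.ext fun v => ?_
    show E₀ (s + t) v = E₀ s v + E₀ t v
    refine hE₀inj _ _ ?_
    rw [AddSubgroup.coe_add, hE₀, hadd]
    simp only [hδ, map_add]
    have e1 := hE₀ s v
    have e2 := hE₀ t v
    simp only [hδ] at e1 e2
    rw [← e1, ← e2]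
    abel
  have hE : ∀ s (v : ↥L₀), δ 1 (E s v) = δ s v := hE₀
  have hE1 : E 1 = 1 := AddMonoidHom.ext fun v => hE₀inj _ _ (hE 1 v)
  have hEinv : ∀ s : F, s ≠ 0 → E s⁻¹ * E s = 1 := by
    intro s hs
    refine AddMonoidHom.ext fun v => hE₀inj _ _ ?_
    show δ 1 (E s⁻¹ (E s v)) = δ 1 v
    rw [hE]
    obtain ⟨c, hc, hv⟩ := v.2
    have hv : σ z₀ c = (v : M) := hv
    obtain ⟨c', hc', e⟩ := hline' (z := W * (x s * z₀)) (z' := x (-s⁻¹) * z₀)
      (m := (u (-s⁻¹) * w F)⁻¹ * (w F * (u s * w F)))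
      (by simp only [map_mul, map_inv, hπW, hz₀, hx])
      (by simp [Matrix.mul_apply, Fin.sum_univ_two, Matrix.SpecialLinearGroup.coe_mul,
            Matrix.SpecialLinearGroup.coe_inv, Cfsg.Lib.Linear.SLTwoNatural.u_coe,
            Cfsg.Lib.Linear.SLTwoNatural.w_coe, Matrix.adjugate_fin_two, hs]) c hc
    simp only [act_mul, hv] at e
    rw [show σ (x s) v = (v : M) + δ s v by simp [hδ], map_add, (hWact v v.2).1, ← hE s, (hWact _ (E s v).2).2] at e
    set t := σ z₀ c' with ht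
    rw [show σ (x (-s⁻¹)) t = t + δ (-s⁻¹) t by simp [hδ]] at e
    have htL : t ∈ L₀ := ⟨c', hc', rfl⟩
    have ht2 : -(E s v : M) = t := by
      refine sub_eq_zero.1 (hdisj _ ?_ (sub_mem (neg_mem (E s v).2) htL))
      rw [show -(E s v : M) - t = δ (-s⁻¹) t - δ 1 v by
        rw [sub_eq_sub_iff_add_eq_add, add_comm, e]; abel]
      exact sub_mem (h.quad _ (hxS _) _) (h.quad _ (hxS 1) _)
    have e' : δ (-s⁻¹) t = δ 1 v := by
      rw [← ht2] at e ⊢
      rw [add_comm] at e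
      exact (add_left_cancel e).symm
    rw [← ht2] at e'
    have hneg : ∀ r : F, ∀ m : M, δ (-r) m = -δ r m := fun r m => by
      have := hadd (-r) r m
      rw [neg_add_cancel] at this
      have h0 : δ 0 m = 0 := by
        have := hadd 0 0 m
        rw [add_zero] at this
        exact add_eq_left.1 this.symm
      rw [h0] at this
      exact eq_neg_of_add_eq_zero_left this.symm
    rw [hneg] at e'
    rw [← e']
    simp [hδ]
    abel
  have hEmul := map_mul_of_map_inv E hE1 hEinv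
  -- coordinates
  obtain ⟨v₀, hv₀⟩ : ∃ v₀ : ↥L₀, v₀ ≠ 0 := by
    have : Nontrivial ↥L₀ := (Finite.one_lt_card_iff_nontrivial).1 (hcard₀ ▸ Fintype.one_lt_card)
    exact exists_ne 0
  have hbij : Function.Bijective fun a : F => E a v₀ := by
    refine (Nat.bijective_iff_injective_and_card _).2 ⟨?_, by rw [hcard₀, Nat.card_eq_fintype_card]⟩
    intro a c e
    by_contra hne
    have h0 : E (a - c) v₀ = 0 := by
      rw [map_sub]
      exact sub_eq_zero.2 e
    have h1 := congrArg (fun f : AddMonoid.End ↥L₀ => f v₀) (hEinv _ (sub_ne_zero.2 hne))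
    simp only [end_mul_apply, end_one_apply, h0, map_zero] at h1
    exact hv₀ h1.symm
  let φ : (Fin 2 → F) →+ M := AddMonoidHom.mk' (fun f => δ 1 (E (f 0) v₀) + (E (f 1) v₀ : M)) fun f f' => by
    simp only [hδ, Pi.add_apply, map_add, end_add_apply, AddSubgroup.coe_add]
    abel
  have hφ : Function.Bijective φ := by
    refine ⟨?_, fun m => ?_⟩
    · rw [injective_iff_map_eq_zero]
      intro f hf
      have h0 : δ 1 (E (f 0) v₀) + (E (f 1) v₀ : M) = 0 := hf
      have h1 : (E (f 1) v₀ : M) = 0 := by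
        refine hdisj _ ?_ (E (f 1) v₀).2
        rw [eq_neg_of_add_eq_zero_right h0]
        exact neg_mem (h.quad _ (hxS 1) _)
      rw [h1, add_zero] at h0
      have h2 := hδinj 1 one_ne_zero _ (E (f 0) v₀).2 h0
      have hz : ∀ a : F, (E a v₀ : M) = 0 → a = 0 := fun a ha =>
        hbij.1 (show E a v₀ = E 0 v₀ from Subtype.ext (by rw [ha]; simp))
      funext i
      fin_cases i
      · exact hz _ h2
      · exact hz _ h1
    · obtain ⟨a, ha, c, hc, rfl⟩ := hcov m
      obtain ⟨a', ha'⟩ := hd₁.2 ⟨a, ha⟩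
      obtain ⟨i, hi⟩ := hbij.2 a'
      obtain ⟨j, hj⟩ := hbij.2 ⟨σ z₀ c, ⟨c, hc, rfl⟩⟩
      refine ⟨![i, j], ?_⟩
      show δ 1 (E i v₀) + (E j v₀ : M) = a + σ z₀ c
      rw [show E i v₀ = a' from hi, show E j v₀ = _ from hj]
      exact congrArg (· + σ z₀ c) (congrArg Subtype.val ha')
  let φe : (Fin 2 → F) ≃+ M := AddEquiv.ofBijective φ hφ
  let Ok : G → SL2 → Prop := fun z m =>
    proj m = π z ∧ ∀ f : Fin 2 → F, σ z (φ f) = φ ((m : Matrix (Fin 2) (Fin 2) F) *ᵥ f)
  have hSok : ∀ z ∈ S, ∃ m, Ok z m := by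
    intro z hz
    obtain ⟨s, hs⟩ := mem_std.1 (h.map_eq ▸ Subgroup.mem_map_of_mem π hz)
    refine ⟨u s, hs, fun f => ?_⟩
    rw [hsame z hz (x s) (hxS s) (by rw [hx, hs])]
    show σ (x s) (δ 1 (E (f 0) v₀) + (E (f 1) v₀ : M)) = δ 1 (E _ v₀) + (E _ v₀ : M)
    rw [map_add, h.fix _ (hxS s) _ (h.quad _ (hxS 1) _),
      show σ (x s) (E (f 1) v₀ : M) = (E (f 1) v₀ : M) + δ s (E (f 1) v₀) by simp [hδ], ← hE s,
      show E s (E (f 1) v₀) = E (s * f 1) v₀ by rw [hEmul]; rfl]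
    simp [Cfsg.Lib.Linear.SLTwoNatural.u_coe, hδ, Matrix.mulVec, dotProduct, Fin.sum_univ_two, end_add_apply]
    abel
  have hWok : Ok W (w F) := by
    refine ⟨hπW.symm, fun f => ?_⟩
    show σ W (δ 1 (E (f 0) v₀) + (E (f 1) v₀ : M)) = δ 1 (E _ v₀) + (E _ v₀ : M)
    rw [map_add, (hWact _ (E (f 0) v₀).2).2, (hWact _ (E (f 1) v₀).2).1]
    simp [Cfsg.Lib.Linear.SLTwoNatural.w_coe, hδ, Matrix.mulVec, dotProduct, Fin.sum_univ_two, end_neg_apply]
    abel
  have hall : ∀ z : G, ∃ m, Ok z m := by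
    let H : Subgroup G :=
      { carrier := {z | ∃ m, Ok z m}
        one_mem' := ⟨1, by simp, fun f => by simp⟩
        mul_mem' := by
          rintro a c ⟨m, hm, hm'⟩ ⟨m', hn, hn'⟩
          exact ⟨m * m', by rw [map_mul, map_mul, hm, hn], fun f => by
            rw [act_mul, hn', hm', Matrix.SpecialLinearGroup.coe_mul, Matrix.mulVec_mulVec]⟩
        inv_mem' := by
          rintro a ⟨m, hm, hm'⟩
          refine ⟨m⁻¹, by rw [map_inv, map_inv, hm], fun f => ?_⟩
          have := congrArg (σ a⁻¹) (hm' (((m⁻¹ : SL2) : Matrix (Fin 2) (Fin 2) F) *ᵥ f))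
          rw [act_cancel, Matrix.mulVec_mulVec, ← Matrix.SpecialLinearGroup.coe_mul, mul_inv_cancel,
            Matrix.SpecialLinearGroup.coe_one, Matrix.one_mulVec] at this
          exact this.symm }
    intro z
    refine ((h.gen W hπW).ge.trans (sup_le (show S ≤ H from hSok) ?_)) (Subgroup.mem_top z)
    rintro _ ⟨k, hk, rfl⟩
    exact mul_mem (mul_mem (show W ∈ H from ⟨_, hWok⟩) (show k ∈ H from hSok k hk))
      (inv_mem (show W ∈ H from ⟨_, hWok⟩))
  choose r hr hr' using hall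
  have huniq : ∀ z m, Ok z m → r z = m := fun z m hm => by
    apply Subtype.ext
    refine Matrix.ext_of_mulVec_single fun i => hφ.1 ?_
    rw [← hr', hm.2]
  refine ⟨MonoidHom.mk' r fun a c => huniq _ _ ⟨by rw [map_mul, map_mul, hr, hr], fun f => by
      rw [act_mul, hr', hr', Matrix.SpecialLinearGroup.coe_mul, Matrix.mulVec_mulVec]⟩, φe.symm, ?_, hr,
    fun z v => ?_⟩
  · refine Cfsg.Lib.Linear.SLTwoNatural.gen_induction (fun s => ?_) ⟨W, huniq _ _ hWok⟩ ?_
    · refine ⟨x s, ?_⟩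
      obtain ⟨m, hm⟩ := hSok (x s) (hxS s)
      refine (huniq _ _ hm).trans ?_
      apply Subtype.ext
      refine Matrix.ext_of_mulVec_single fun i => hφ.1 ?_
      rw [← hm.2]
      show σ (x s) (δ 1 (E _ v₀) + (E _ v₀ : M)) = δ 1 (E _ v₀) + (E _ v₀ : M)
      rw [map_add, h.fix _ (hxS s) _ (h.quad _ (hxS 1) _),
        show ∀ a : M, σ (x s) a = a + δ s a from fun a => by simp [hδ], ← hE s,
        show ∀ a : F, E s (E a v₀) = E (s * a) v₀ from fun a => by rw [hEmul]; rfl]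
      simp [Cfsg.Lib.Linear.SLTwoNatural.u_coe, hδ, Matrix.mulVec, dotProduct, Fin.sum_univ_two, end_add_apply]
      abel
    · rintro g k ⟨a, rfl⟩ ⟨c, rfl⟩
      exact ⟨a * c, huniq _ _ ⟨by rw [map_mul, map_mul]; exact congrArg₂ (· * ·) (hr a) (hr c), fun f => by
        rw [act_mul, hr', hr', Matrix.SpecialLinearGroup.coe_mul, Matrix.mulVec_mulVec]; rfl⟩⟩
  · refine φe.symm_apply_eq.2 ?_
    conv_lhs => rw [← φe.apply_symm_apply v]
    exact hr' z _

end Cfsg.Lib.Local.PushingUp
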