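import Cfsg.Agent.Lib.Local.PushingUp.Graph

/-!
The parameter `b`, critical pairs, and the backward track.
-/

set_option autoImplicit false
set_option linter.style.haveILetI false

namespace Cfsg.Lib.Local.PushingUp

open Subgroup Cfsg.Lib.Local.Baumann
open scoped commutatorElement

variable {X : Type*} [Group X]

theorem comm_mul_left (x y z : X) : ⁅x * y, z⁆ = x * ⁅y, z⁆ * x⁻¹ * ⁅x, z⁆ := by
  simp [commutatorElement_def, mul_assoc]

theorem comm_mul_right (x y z : X) : ⁅x, y * z⁆ = ⁅x, y⁆ * (y * ⁅x, z⁆ * y⁻¹) := by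
  simp [commutatorElement_def, mul_assoc]

theorem comm_conj (g x y : X) : ⁅g * x * g⁻¹, g * y * g⁻¹⁆ = g * ⁅x, y⁆ * g⁻¹ := by
  simp [commutatorElement_def, mul_assoc]

theorem comm_eq_one {x y : X} (h : x * y = y * x) : ⁅x, y⁆ = 1 :=
  commutatorElement_eq_one_iff_mul_comm.2 h

theorem conj_mem_of_le {H N : Subgroup X} (h : H ≤ normalizer (N : Set X)) {x y : X} (hx : x ∈ H)
    (hy : y ∈ N) : x * y * x⁻¹ ∈ N := (mem_normalizer_iff.1 (h hx) y).1 hy

theorem comm_mem_of_le {H N : Subgroup X} (h : H ≤ normalizer (N : Set X)) {x y : X} (hx : x ∈ H)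
    (hy : y ∈ N) : ⁅x, y⁆ ∈ N := by
  rw [commutatorElement_def]
  exact mul_mem (conj_mem_of_le h hx hy) (inv_mem hy)

theorem comm_mem_of_le' {H N : Subgroup X} (h : H ≤ normalizer (N : Set X)) {x y : X} (hx : x ∈ H)
    (hy : y ∈ N) : ⁅y, x⁆ ∈ N := by
  rw [← commutatorElement_inv x y]
  exact inv_mem (comm_mem_of_le h hx hy)

/-- `b` for the amalgam. -/
structure HasB (p : ℕ) (T₀ P₀ : Subgroup X) (b : ℕ) : Prop where
  below : ∀ k < b, ∀ P R, Near T₀ P₀ k P R → Vv p P ≤ Qv p R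
  attained : ∃ P R, Near T₀ P₀ b P R ∧ ¬ Vv p P ≤ Qv p R
  pos : 0 < b

/-- A critical pair. -/
def Crit (p : ℕ) (T₀ P₀ : Subgroup X) (b : ℕ) (P R : Subgroup X) : Prop :=
  Near T₀ P₀ b P R ∧ ¬ Vv p P ≤ Qv p R

section
variable [Finite X] {T₀ P₀ : Subgroup X} {T T' P R M : Subgroup X} {p q b : ℕ} [Fact p.Prime]
  (A : Amalgam p q T₀ P₀)
include A

theorem Amalgam.vertex_loc (h : Vertex T₀ P₀ P) : ∃ T, LocalData p q T P :=
  ⟨_, h.choose_spec.loc A⟩

theorem Amalgam.comm_vV (h : Vertex T₀ P₀ P) {v x : X} (hv : v ∈ Vv p P) (hx : x ∈ Vv p P) :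
    v * x = x * v := Vv_comm_Qv hx (Vv_le_Qv p P hv)

theorem Amalgam.free_conj (h : Edge T₀ P₀ T P) {N : Subgroup X} (hN : N ≤ T)
    (hP : P ≤ normalizer (N : Set X)) (hT : normalizer (T : Set X) ≤ normalizer (N : Set X)) :
    N = ⊥ := by
  obtain ⟨c, rfl, rfl⟩ := h
  have h1 : cj c⁻¹ N = ⊥ := by
    refine A.free _ ((cj_mono hN).trans (cj_inv_cj c T₀).le) ?_ ?_
    · intro x hx
      refine mem_normalizer_of_cj ?_
      have h2 := cj_eq_of_mem (hP (conj_mem_cj (g := c) hx))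
      calc cj x (cj c⁻¹ N) = cj c⁻¹ (cj (c * x * c⁻¹) N) := by
            rw [cj_cj, cj_cj]; congr 1; group
        _ = _ := by rw [h2]
    · intro x hx
      refine mem_normalizer_of_cj ?_
      have h3 : c * x * c⁻¹ ∈ normalizer (cj c T₀ : Set X) := by
        refine mem_normalizer_of_cj ?_
        rw [cj_cj, inv_mul_cancel_right, ← cj_cj, cj_eq_of_mem hx]
      have h2 := cj_eq_of_mem (hT h3)
      calc cj x (cj c⁻¹ N) = cj c⁻¹ (cj (c * x * c⁻¹) N) := by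
            rw [cj_cj, cj_cj]; congr 1; group
        _ = _ := by rw [h2]
  rw [← cj_cj_inv c N, h1]
  exact Subgroup.map_bot _

theorem Amalgam.exists_b : ∃ b, HasB p T₀ P₀ b := by
  classical
  have hex : ∃ k, ∃ P R, Near T₀ P₀ k P R ∧ ¬ Vv p P ≤ Qv p R := by
    by_contra hall
    push Not at hall
    have hb : Edge T₀ P₀ T₀ P₀ := Edge.base
    set E : Subgroup X := ⨆ P : {P : Subgroup X // ∃ k, Near T₀ P₀ k P P₀}, Vv p P.1
    have hsub : Vv p P₀ ≤ E :=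
      le_iSup (fun P : {P : Subgroup X // ∃ k, Near T₀ P₀ k P P₀} => Vv p P.1) ⟨P₀, 0, ⟨_, hb⟩, rfl⟩
    have hET : E ≤ T₀ := iSup_le fun P => by
      obtain ⟨k, hk⟩ := P.2
      exact (hall k _ _ hk).trans (hb.loc A).core_le
    have hinv : ∀ g : X, (∃ k, Near T₀ P₀ k (cj g P₀) P₀) → g ∈ normalizer (E : Set X) := by
      rintro g ⟨j, hj⟩
      refine mem_normalizer_fintype fun x hx => ?_
      have : cj g E ≤ E := by
        rw [cj, Subgroup.map_iSup]
        refine iSup_le fun P => ?_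
        obtain ⟨k, hk⟩ := P.2
        have hcat : ∀ (j : ℕ) {P R M : Subgroup X}, Near T₀ P₀ j R M → Near T₀ P₀ k P R →
            ∃ i, Near T₀ P₀ i P M := by
          intro j
          induction j with
          | zero => rintro P R M ⟨-, rfl⟩ h; exact ⟨k, h⟩
          | succ j ih =>
            rintro P R M h1 h2
            obtain ⟨N, hN1, hN2⟩ := h1.symm
            obtain ⟨i, hi⟩ := ih hN2.symm h2
            exact ⟨i + 1, hi.snoc hN1.symm⟩
        obtain ⟨i, hi⟩ := hcat j hj (hk.conj g)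
        refine le_trans (le_of_eq (cj_Vv g p P.1)) ?_
        exact le_iSup (fun P : {P : Subgroup X // ∃ k, Near T₀ P₀ k P P₀} => Vv p P.1) ⟨_, i, hi⟩
      exact this (conj_mem_cj hx)
    have hE : E = ⊥ := A.free E hET
      (fun g hg => hinv g ⟨0, by rw [cj_centralizer_le hg]; exact ⟨⟨_, hb⟩, rfl⟩⟩)
      (fun g hg => hinv g ⟨1, P₀, ⟨T₀, hb.turn hg, hb⟩, ⟨⟨_, hb⟩, rfl⟩⟩)
    have := (hb.loc A).index_center
    rw [le_bot_iff.1 (hsub.trans hE.le), relIndex_bot_right] at this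
    exact absurd A.one_lt (by omega)
  refine ⟨Nat.find hex, fun k hk P R hPR => ?_, Nat.find_spec hex, ?_⟩
  · have := Nat.find_min hex hk
    push Not at this
    exact this P R hPR
  · by_contra h0
    obtain ⟨P, R, hPR, hne⟩ := Nat.find_spec hex
    rw [show Nat.find hex = 0 by omega] at hPR
    obtain ⟨-, rfl⟩ := hPR
    exact hne (Vv_le_Qv p P)

variable (hb : HasB p T₀ P₀ b)
include hb

theorem Amalgam.comm_below {k : ℕ} (hk : k < b) (h : Near T₀ P₀ k P R) {v w : X}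
    (hv : v ∈ Vv p P) (hw : w ∈ Vv p R) : v * w = w * v :=
  Vv_comm_Qv hw (hb.below k hk P R h hv)

/-- In a pair at distance `b` the first `V` lies in every edge at the last step. -/
theorem Amalgam.le_edge (h : Near T₀ P₀ (b - 1) M R) (hT : Edge T₀ P₀ T M) :
    Vv p R ≤ T :=
  (hb.below (b - 1) (by have := hb.pos; omega) R M h.symm).trans (hT.loc A).core_le

omit A in
theorem near_succ {k : ℕ} (h : Adj T₀ P₀ P M) (h' : Near T₀ P₀ k M R) :
    Near T₀ P₀ (k + 1) P R := ⟨M, h, h'⟩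

theorem Amalgam.near_b (h : Adj T₀ P₀ P M) (h' : Near T₀ P₀ (b - 1) M R) :
    Near T₀ P₀ b P R := by
  have := near_succ hb h h'
  rwa [Nat.sub_add_cancel hb.pos] at this

theorem Amalgam.split (h : Near T₀ P₀ b P R) :
    ∃ M, Adj T₀ P₀ P M ∧ Near T₀ P₀ (b - 1) M R := by
  rw [← Nat.sub_add_cancel hb.pos] at h
  exact h

/-- Criticality is symmetric. -/
theorem Amalgam.crit_symm (h : Crit p T₀ P₀ b P R) : Crit p T₀ P₀ b R P := by
  refine ⟨h.1.symm, fun hle => h.2 ?_⟩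
  obtain ⟨M, ⟨T, hT1, hT2⟩, hM⟩ := A.split hb h.1.symm
  refine le_trans (le_inf (A.le_edge hb hM hT2) fun v hv => ?_) (hT1.loc A).cent_V.le
  exact mem_centralizer_iff.2 fun w hw => (Vv_comm_Qv hv (hle hw))

theorem Amalgam.exists_not_core (h : Crit p T₀ P₀ b P R) :
    ∃ x ∈ Vv p R, x ∉ Qv p P :=
  SetLike.not_le_iff_exists.1 (A.crit_symm hb h).2

/-- The two ends of a critical pair see each other. -/
theorem Amalgam.crit_inf (h : Crit p T₀ P₀ b P R) (h1 : Edge T₀ P₀ T P) (h2 : Edge T₀ P₀ T M)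
    (hM : Near T₀ P₀ (b - 1) M R) {T' M' : Subgroup X} (h1' : Edge T₀ P₀ T' R)
    (h2' : Edge T₀ P₀ T' M') (hM' : Near T₀ P₀ (b - 1) M' P) :
    Vv p R ⊓ Qv p P = Zt T' := by
  have hP := h1.loc A
  have hR := h1'.loc A
  have hVT : Vv p R ≤ T := A.le_edge hb hM h2
  have hVT' : Vv p P ≤ T' := A.le_edge hb hM' h2'
  refine le_antisymm ?_ ?_
  · rintro v ⟨hv, hv'⟩
    obtain ⟨x, hx, hxR⟩ := SetLike.not_le_iff_exists.1 h.2
    refine hR.fix x (hVT' hx) hxR v hv ?_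
    rw [comm_eq_one (Vv_comm_Qv hx hv').symm]
    exact one_mem _
  · intro v hv
    refine mem_inf.2 ⟨hR.center_le_V hv, hP.cent_V.le (mem_inf.2 ⟨hVT (hR.center_le_V hv), ?_⟩)⟩
    exact mem_centralizer_iff.2 fun w hw => mem_Zt_comm hv (hVT' hw)

/-- The edge at the start of a critical pair is covered. -/
theorem Amalgam.crit_cover (h : Crit p T₀ P₀ b P R) (h1 : Edge T₀ P₀ T P) (h2 : Edge T₀ P₀ T M)
    (hM : Near T₀ P₀ (b - 1) M R) :
    ∀ t ∈ T, ∃ x ∈ Vv p R, ∃ y ∈ Qv p P, x * y = t := by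
  obtain ⟨M', ⟨T', h1', h2'⟩, hM'⟩ := A.split hb h.1.symm
  have hP := h1.loc A
  have hR := h1'.loc A
  have hVT : Vv p R ≤ T := A.le_edge hb hM h2
  have hnorm : Vv p R ≤ normalizer (Qv p P : Set X) := hVT.trans (hP.le.trans hP.norm_core)
  have hidx : (Qv p P).relIndex (Vv p R) = q := by
    rw [← inf_relIndex_left, A.crit_inf hb h h1 h2 hM h1' h2' hM', hR.index_center]
  have hle : Vv p R ⊔ Qv p P ≤ T := sup_le hVT hP.core_le
  have heq : (Vv p R ⊔ Qv p P).relIndex T = 1 := by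
    have hmul := relIndex_mul_relIndex (Qv p P) (Vv p R ⊔ Qv p P) T le_sup_right hle
    haveI : ((Qv p P).subgroupOf (Vv p R ⊔ Qv p P)).Normal :=
      (normal_subgroupOf_iff_le_normalizer le_sup_right).2 (sup_le hnorm le_normalizer)
    have e : (Qv p P).relIndex (Vv p R ⊔ Qv p P) = q := by
      rw [← hidx, ← relIndex_subgroupOf (le_sup_left : Vv p R ≤ Vv p R ⊔ Qv p P), relIndex,
        ← relIndex_top_right, ← subgroupOf_self (H := Vv p R ⊔ Qv p P),
        subgroupOf_sup le_sup_left le_sup_right, relIndex_sup_right]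
    rw [e, hP.index_core] at hmul
    exact Nat.eq_of_mul_eq_mul_left (lt_trans Nat.one_pos A.one_lt) (hmul.trans (mul_one q).symm)
  intro t ht
  exact (Cfsg.Lib.Core.mem_sup_of_le_normalizer hnorm).1 (relIndex_eq_one.1 heq ht)

theorem Amalgam.crit_comm_mem (h : Crit p T₀ P₀ b P R) (h1 : Edge T₀ P₀ T P) (h2 : Edge T₀ P₀ T M)
    (hM : Near T₀ P₀ (b - 1) M R) {v w : X} (hv : v ∈ Vv p P) (hw : w ∈ Vv p R) :
    ⁅v, w⁆ ∈ Zt T ⊓ Vv p R := by
  have hP := h1.loc A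
  have hVT : Vv p R ≤ T := A.le_edge hb hM h2
  obtain ⟨M', ⟨T', h1', h2'⟩, hM'⟩ := A.split hb h.1.symm
  have hR := h1'.loc A
  have hmemP : ⁅v, w⁆ ∈ Vv p P := comm_mem_of_le' (hP.le.trans hP.norm_V) (hVT hw) hv
  have hmemR : ⁅v, w⁆ ∈ Vv p R := comm_mem_of_le (hR.le.trans hR.norm_V) (A.le_edge hb hM' h2' hv) hw
  refine mem_inf.2 ⟨mem_inf.2 ⟨hVT hmemR, mem_centralizer_iff.2 fun t ht => ?_⟩, hmemR⟩
  obtain ⟨x, hx, y, hy, rfl⟩ := A.crit_cover hb h h1 h2 hM t ht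
  have e1 : y * ⁅v, w⁆ = ⁅v, w⁆ * y := Vv_comm_Qv hmemP hy
  have e2 : x * ⁅v, w⁆ = ⁅v, w⁆ * x := Vv_comm_Qv hmemR (Vv_le_Qv p R hx)
  rw [mul_assoc, e1, ← mul_assoc, e2, mul_assoc]

/-- The action on `Z(O_p)` is quadratic along every edge. -/
theorem Amalgam.quad (hT : Edge T₀ P₀ T P) {v t : X} (hv : v ∈ Vv p P) (ht : t ∈ T) :
    ⁅t, v⁆ ∈ Zt T := by
  obtain ⟨P₁, R₁, hc⟩ := hb.attained
  obtain ⟨M, ⟨T₁, h1, h2⟩, hM⟩ := A.split hb hc.1
  obtain ⟨g, rfl, rfl⟩ := h1.trans hT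
  rw [← cj_Vv, mem_cj] at hv
  rw [mem_cj] at ht
  rw [← cj_Zt, mem_cj]
  obtain ⟨x, hx, y, hy, hxy⟩ := A.crit_cover hb hc h1 h2 hM _ ht
  have key : ⁅g⁻¹ * t * g, g⁻¹ * v * g⁆ ∈ Zt T₁ := by
    rw [← hxy, comm_mul_left, comm_eq_one (Vv_comm_Qv hv hy), mul_one, mul_inv_cancel, one_mul,
      ← commutatorElement_inv (g⁻¹ * v * g) x]
    exact inv_mem (mem_inf.1 (A.crit_comm_mem hb hc h1 h2 hM hv hx)).1
  rwa [show ⁅g⁻¹ * t * g, g⁻¹ * v * g⁆ = g⁻¹ * ⁅t, v⁆ * g by simp [commutatorElement_def, mul_assoc]] at key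

/-- The module `Z(O_p)` is irreducible modulo the centre: a single element moves onto `Z(T)`. -/
theorem Amalgam.quad_onto (hT : Edge T₀ P₀ T P) {u : X} (hu : u ∈ T) (huQ : u ∉ Qv p P)
    {z : X} (hz : z ∈ Zt T) : ∃ v ∈ Vv p P, ∃ d ∈ Zt P, ⁅u, v⁆ * d = z := by
  have hP := hT.loc A
  let f : ↥(Vv p P) →* X :=
    { toFun := fun v => ⁅u, (v : X)⁆
      map_one' := by simp
      map_mul' := fun v w => by
        show ⁅u, (v : X) * (w : X)⁆ = _
        have hm := A.quad hb hT w.2 hu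
        rw [comm_mul_right, Vv_comm_Qv (hP.center_le_V hm) (Vv_le_Qv p P v.2)]
        simp [mul_assoc] }
  have hrange : f.range ≤ Zt T := by rintro _ ⟨v, rfl⟩; exact A.quad hb hT v.2 hu
  have hker : f.ker = (Zt T).subgroupOf (Vv p P) := by
    ext v
    rw [MonoidHom.mem_ker, mem_subgroupOf]
    refine ⟨fun h => hP.fix u hu huQ v v.2 ?_, fun h => comm_eq_one (mem_Zt_comm h hu)⟩
    show ⁅u, (v : X)⁆ ∈ Zt P
    rw [show ⁅u, (v : X)⁆ = f v from rfl, h]
    exact one_mem _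
  have hcard : Nat.card f.range = q := by
    rw [← Subgroup.index_ker, hker]; exact hP.index_center
  have hinf : f.range ⊓ Zt P = ⊥ := by
    refine (eq_bot_iff_forall _).2 ?_
    rintro _ ⟨⟨v, rfl⟩, hd⟩
    have : v ∈ f.ker := by
      rw [hker, mem_subgroupOf]
      exact hP.fix u hu huQ v v.2 hd
    exact this
  have hn : Zt P ≤ normalizer (f.range : Set X) := fun d hd => mem_normalizer_fintype fun x hx => by
    rw [← mem_Zt_comm hd (hP.le (Zt_le T (hrange hx))), mul_inv_cancel_right]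
    exact hx
  have hsup := card_sup_mul_inf hn
  rw [hinf, card_bot, mul_one, hcard] at hsup
  have hle : f.range ⊔ Zt P ≤ Zt T := sup_le hrange hP.D_le_center
  have hidx : (Zt P).relIndex (Zt T) = q := by
    have hm := relIndex_mul_relIndex _ _ _ hP.D_le_center hP.center_le_V
    rw [hP.index_center, hP.index_D] at hm
    exact Nat.eq_of_mul_eq_mul_right (lt_trans Nat.one_pos A.one_lt) hm
  have heq : f.range ⊔ Zt P = Zt T := by
    refine eq_of_le_of_card_ge hle ?_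
    rw [hsup, ← Cfsg.Lib.Core.card_mul_relIndex hP.D_le_center, hidx, mul_comm]
  rw [← heq] at hz
  obtain ⟨a, ⟨v, rfl⟩, d, hd, rfl⟩ := (Cfsg.Lib.Core.mem_sup_of_le_normalizer
    (A := f.range) (B := Zt P) (fun x hx => mem_normalizer_fintype fun d hd => by
      rw [mem_Zt_comm hd (hP.le (Zt_le T (hrange hx))), mul_inv_cancel_right]
      exact hd)).1 hz
  exact ⟨v, v.2, d, hd, rfl⟩

end

end Cfsg.Lib.Local.PushingUp
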