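import Cfsg.Agent.Lib.Local.PushingUp.Lines
import Cfsg.Agent.Lib.Local.PushingUp.Critical
import Mathlib.Algebra.Module.End
import Mathlib.Data.Nat.Choose.Basic

/-!
Sections as additive modules, and the action of a braid of two opposite elements on a natural section.
-/

set_option autoImplicit false
set_option linter.style.haveILetI false

universe u

namespace Cfsg.Lib.Local.PushingUp

open Subgroup
open scoped commutatorElement

variable {X : Type u} [Group X]

/-- An abelian section as an additive group with the action of `P`. -/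
theorem exists_module {P U C : Subgroup X} (hU : P ≤ normalizer (U : Set X))
    (hC : P ≤ normalizer (C : Set X)) (hCU : C ≤ U) (hUP : U ≤ P) (hcomm : ⁅U, U⁆ ≤ C) :
    ∃ (M : Type u) (_ : AddCommGroup M) (m : ↥U → M) (ρ : ↥P →* AddMonoid.End M),
      Function.Surjective m ∧ (∀ a c : ↥U, m (a * c) = m a + m c) ∧
      (∀ a : ↥U, m a = 0 ↔ (a : X) ∈ C) ∧
      ∀ (g : ↥P) (a c : ↥U), (c : X) = (g : X) * (a : X) * (g : X)⁻¹ → ρ g (m a) = m c := by
  haveI hn : (C.subgroupOf U).Normal :=
    (normal_subgroupOf_iff_le_normalizer hCU).2 (hUP.trans hC)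
  let Q := ↥U ⧸ C.subgroupOf U
  let mk : ↥U →* Q := QuotientGroup.mk' _
  letI : CommGroup Q := { (inferInstance : Group Q) with
    mul_comm := fun a c => by
      obtain ⟨a, rfl⟩ := QuotientGroup.mk'_surjective (C.subgroupOf U) a
      obtain ⟨c, rfl⟩ := QuotientGroup.mk'_surjective (C.subgroupOf U) c
      refine commutatorElement_eq_one_iff_mul_comm.1 ?_
      rw [← map_commutatorElement]
      exact (QuotientGroup.eq_one_iff _).2 (mem_subgroupOf.2 (hcomm (commutator_mem_commutator a.2 c.2))) }
  let cg : ↥P → ↥U →* ↥U := fun g =>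
    { toFun := fun a => ⟨(g : X) * (a : X) * (g : X)⁻¹, conj_mem_of_le hU g.2 a.2⟩
      map_one' := Subtype.ext (by simp)
      map_mul' := fun a c => Subtype.ext (by simp [mul_assoc]) }
  have hcg : ∀ g : ↥P, C.subgroupOf U ≤ (mk.comp (cg g)).ker := fun g a ha =>
    (QuotientGroup.eq_one_iff _).2 (mem_subgroupOf.2 (conj_mem_of_le hC g.2 (mem_subgroupOf.1 ha)))
  let act : ↥P → Q →* Q := fun g => QuotientGroup.lift _ (mk.comp (cg g)) (hcg g)
  have hact : ∀ g a, act g (mk a) = mk (cg g a) := fun g a => rfl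
  refine ⟨Additive Q, inferInstance, fun a => Additive.ofMul (mk a),
    { toFun := fun g => MonoidHom.toAdditive (act g)
      map_one' := ?_
      map_mul' := ?_ }, ?_, ?_, ?_, ?_⟩
  · refine AddMonoidHom.ext fun v => ?_
    obtain ⟨a, ha⟩ := QuotientGroup.mk'_surjective (C.subgroupOf U) v.toMul
    apply Additive.toMul.injective
    show act 1 v.toMul = v.toMul
    rw [← ha]
    exact congrArg mk (Subtype.ext (by simp [cg]))
  · intro g g'
    refine AddMonoidHom.ext fun v => ?_
    obtain ⟨a, ha⟩ := QuotientGroup.mk'_surjective (C.subgroupOf U) v.toMul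
    apply Additive.toMul.injective
    show act (g * g') v.toMul = act g (act g' v.toMul)
    rw [← ha]
    exact congrArg mk (Subtype.ext (by simp [cg, mul_assoc]))
  · intro v
    obtain ⟨a, ha⟩ := QuotientGroup.mk'_surjective (C.subgroupOf U) v.toMul
    exact ⟨a, congrArg Additive.ofMul ha⟩
  · intro a c; exact congrArg Additive.ofMul (map_mul mk a c)
  · intro a
    exact (Additive.ofMul.injective.eq_iff' rfl).trans ((QuotientGroup.eq_one_iff _).trans mem_subgroupOf)
  · intro g a c hc
    exact congrArg Additive.ofMul ((hact g a).trans (congrArg mk (Subtype.ext hc.symm)))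

theorem natCast_smul_mod {M : Type*} [AddCommGroup M] {p : ℕ} {v : M} (hv : p • v = 0) {i j : ℕ}
    (h : i % p = j % p) : i • v = j • v := by
  rw [← Nat.mod_add_div i p, ← Nat.mod_add_div j p, h, add_nsmul, add_nsmul, mul_nsmul, mul_nsmul,
    hv, nsmul_zero, nsmul_zero]

/-- The braid computation on a natural section. -/
theorem braid_action {M : Type*} [AddCommGroup M] {p : ℕ} (hp : ∀ v : M, p • v = 0)
    (A B : AddMonoid.End M) (W W' : M → Prop) (hWadd : ∀ a c, W a → W c → W (a + c))
    (hWn : ∀ (i : ℕ) a, W a → W (i • a)) (hWneg : ∀ a, W a → W (-a))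
    (hW'add : ∀ a c, W' a → W' c → W' (a + c)) (hW'n : ∀ (i : ℕ) a, W' a → W' (i • a))
    (hdisj : ∀ a, W a → W' a → a = 0)
    (hA : ∀ a, W a → A a = a) (hB : ∀ a, W' a → B a = a)
    (hAq : ∀ a, W (A a - a)) (hBq : ∀ a, W' (B a - a))
    {r s : ℕ} (hrs : r * s % p = 1) (hline : ∀ a, W' a → W ((A ^ s * B ^ r * A ^ s) a))
    {a : M} (ha : W' a) :
    (A ^ s * B ^ r * A ^ s) a = s • (A a - a) ∧ (A ^ s * B ^ r * A ^ s) (A a - a) = -(r • a) := by
  have hApow : ∀ (v : M) (k : ℕ), (A ^ k) v = v + k • (A v - v) := by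
    intro v k
    induction k with
    | zero => simp
    | succ k ih =>
      rw [pow_succ', AddMonoid.End.coe_mul, Function.comp_apply, ih, map_add, map_nsmul,
        hA _ (hAq v), succ_nsmul]
      abel
  have hBpow : ∀ (v : M) (k : ℕ), (B ^ k) v = v + k • (B v - v) := by
    intro v k
    induction k with
    | zero => simp
    | succ k ih =>
      rw [pow_succ', AddMonoid.End.coe_mul, Function.comp_apply, ih, map_add, map_nsmul,
        hB _ (hBq v), succ_nsmul]
      abel
  have hmul : ∀ v, (A ^ s * B ^ r * A ^ s) v = (A ^ s) ((B ^ r) ((A ^ s) v)) := fun v => rfl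
  set δ := A a - a with hδ
  set e := B δ - δ with he
  have hBa : (B ^ r) a = a := by rw [hBpow, hB a ha, sub_self, nsmul_zero, add_zero]
  have hAδ : ∀ k : ℕ, (A ^ k) δ = δ := fun k => by
    rw [hApow, hA _ (hAq a), sub_self, nsmul_zero, add_zero]
  have e1 : (A ^ s * B ^ r * A ^ s) a =
      (a + (r * s) • e) + (2 * s) • δ + (r * s * s) • (A e - e) := by
    rw [hmul, hApow a, ← hδ, map_add, map_nsmul, hBa, hBpow δ, ← he, map_add, map_nsmul, map_add, map_nsmul,
      hAδ, hApow a, hApow e, ← hδ]
    simp only [smul_add, smul_smul, two_mul, add_smul]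
    rw [show s * r = r * s from mul_comm s r, show s * (r * s) = r * s * s by ring]
    abel
  have h0 : a + (r * s) • e = 0 := by
    refine hdisj _ ?_ (hW'add _ _ ha (hW'n _ _ (hBq δ)))
    have h1 := hline a ha
    rw [e1] at h1
    have h2 := hWadd _ _ (hWadd _ _ h1 (hWneg _ (hWn (r * s * s) _ (hAq e))))
      (hWneg _ (hWn (2 * s) _ (hAq a)))
    rw [← hδ] at h2
    convert h2 using 1
    abel
  have hone : ∀ v : M, (r * s) • v = v := fun v => by
    conv_rhs => rw [← one_nsmul v]
    refine natCast_smul_mod (hp v) ?_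
    rw [hrs]
    rcases p with _ | _ | k
    · rfl
    · simp [Nat.mod_one] at hrs
    · rw [Nat.mod_eq_of_lt (by omega)]
  rw [hone] at h0
  have hee : e = -a := eq_neg_of_add_eq_zero_right h0
  have hf : A e - e = -δ := by rw [hee, map_neg, hδ]; abel
  refine ⟨?_, ?_⟩
  · rw [e1, hf, hone, hee, add_neg_cancel, zero_add, two_mul, add_nsmul, smul_neg, mul_smul, hone]
    abel
  · rw [hmul, hAδ, hBpow, ← he, map_add, map_nsmul, hAδ, hApow, hf, hee, smul_add, smul_neg, smul_neg, smul_neg,
      smul_smul, hone]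
    abel

/-- A unipotent endomorphism of depth three has order `p`. -/
theorem pow_prime_eq_one {M : Type*} [AddCommGroup M] {p : ℕ} (hp : p.Prime) (h2 : p ≠ 2)
    (hM : ∀ v : M, p • v = 0) (η : AddMonoid.End M) (h3 : η ^ 3 = 0) : (1 + η) ^ p = 1 := by
  have hform : ∀ k : ℕ, (1 + η) ^ k = 1 + k • η + k.choose 2 • η ^ 2 := by
    intro k
    induction k with
    | zero => simp
    | succ k ih =>
      rw [pow_succ, ih, show (k + 1).choose 2 = k.choose 2 + k by
        rw [Nat.choose_succ_succ', Nat.choose_one_right, add_comm]]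
      have e : η ^ 2 * η = 0 := by rw [← pow_succ, h3]
      simp only [mul_add, add_mul, mul_one, one_mul, smul_mul_assoc, e, smul_zero, add_zero, succ_nsmul,
        add_nsmul, ← pow_two]
      rw [show k.choose 2 • (0 : AddMonoid.End M) = 0 from smul_zero _]
      abel
  have hz : ∀ θ : AddMonoid.End M, ∀ i, p ∣ i → i • θ = 0 := by
    rintro θ i ⟨j, rfl⟩
    ext v
    show (p * j) • θ v = 0
    rw [mul_nsmul', hM]
  rw [hform, hz _ _ dvd_rfl, hz _ _ (hp.dvd_choose_self two_ne_zero (lt_of_le_of_ne hp.two_le (Ne.symm h2))),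
    add_zero, add_zero]

end Cfsg.Lib.Local.PushingUp
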