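import Cfsg.Agent.Lib.Local.PushingUp.Module

/-!
The `q + 1` classes of Sylow subgroups in a rank one group, and the elements moving them.
-/

set_option autoImplicit false
set_option linter.style.haveILetI false

namespace Cfsg.Lib.Local.PushingUp

open Subgroup
open Cfsg.Lib.Linear.SLTwoNatural (u l w d)
open scoped Pointwise

section PSL
variable {F : Type*} [Field F] [Fintype F]

local notation "PSL2" => Matrix.ProjectiveSpecialLinearGroup (Fin 2) F

theorem std_sup_opp_zero : std F ⊔ (std F).map (MulAut.conj (opp (0 : F))).toMonoidHom = ⊤ := by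
  set H := std F ⊔ (std F).map (MulAut.conj (opp (0 : F))).toMonoidHom with hH
  have hu : ∀ a : F, proj (u a) ∈ H := fun a => mem_sup_left (mem_std.2 ⟨a, rfl⟩)
  have hl : ∀ a : F, proj (l a) ∈ H := fun a => by
    refine mem_sup_right ⟨proj (u (-a)), mem_std.2 ⟨-a, rfl⟩, ?_⟩
    show opp 0 * proj (u (-a)) * (opp 0)⁻¹ = proj (l a)
    rw [opp, Cfsg.Lib.Linear.SLTwoNatural.u_zero, one_mul, ← map_inv, ← map_mul, ← map_mul]
    congr 1
    rw [← Cfsg.Lib.Linear.SLTwoNatural.l_mul_w, mul_inv_cancel_right]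
  refine top_le_iff.1 fun x _ => ?_
  obtain ⟨g, rfl⟩ := proj_surjective x
  refine Cfsg.Lib.Linear.SLTwoNatural.gen_induction (P := fun g => proj g ∈ H) hu ?_
    (fun a c ha hc => by rw [map_mul]; exact mul_mem ha hc) g
  have e := Cfsg.Lib.Linear.SLTwoNatural.braid (1 : Fˣ)
  rw [Cfsg.Lib.Linear.SLTwoNatural.d_one, one_mul] at e
  rw [← e, map_mul, map_mul]
  exact mul_mem (mul_mem (hu _) (hl _)) (hu _)

theorem conj_map_mul (a c : PSL2) (H : Subgroup PSL2) :
    (H.map (MulAut.conj c).toMonoidHom).map (MulAut.conj a).toMonoidHom =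
      H.map (MulAut.conj (a * c)).toMonoidHom := by
  rw [Subgroup.map_map]; congr 1; ext; simp [mul_assoc]

theorem opp_eq (s : F) : opp s = proj (u s) * opp 0 := by
  rw [opp, opp, Cfsg.Lib.Linear.SLTwoNatural.u_zero, one_mul, ← map_mul]

theorem conj_u_std (s : F) : (std F).map (MulAut.conj (proj (u s))).toMonoidHom = std F :=
  Cfsg.Lib.Core.map_conj_eq_of_mem_normalizer (le_normalizer (mem_std.2 ⟨s, rfl⟩))

theorem std_sup_conj_opp (s : F) : std F ⊔ (std F).map (MulAut.conj (opp s)).toMonoidHom = ⊤ := by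
  have h := congrArg (Subgroup.map (MulAut.conj (proj (u s))).toMonoidHom) (std_sup_opp_zero (F := F))
  rwa [Subgroup.map_sup, conj_u_std, conj_map_mul, ← opp_eq,
    Subgroup.map_top_of_surjective _ (MulAut.conj (proj (u s))).surjective] at h

theorem d_normalizes (p : ℕ) [Fact p.Prime] [CharP F p] (t : Fˣ) :
    (std F).map (MulAut.conj (proj (d t))).toMonoidHom = std F := by
  refine Cfsg.Lib.Core.map_conj_eq_of_mem_normalizer ((normalizer_std p).2 ?_)
  simp [Cfsg.Lib.Linear.SLTwoNatural.d_coe]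

theorem conj_dw_std (p : ℕ) [Fact p.Prime] [CharP F p] (t : Fˣ) :
    (std F).map (MulAut.conj (proj (d t * w F))).toMonoidHom =
      (std F).map (MulAut.conj (opp (0 : F))).toMonoidHom := by
  rw [Cfsg.Lib.Linear.SLTwoNatural.d_mul_w, map_mul, ← conj_map_mul, d_normalizes p, opp,
    Cfsg.Lib.Linear.SLTwoNatural.u_zero, one_mul]

theorem conj_dw_opp (p : ℕ) [Fact p.Prime] [CharP F p] (t : Fˣ) :
    ((std F).map (MulAut.conj (opp (0 : F))).toMonoidHom).map (MulAut.conj (proj (d t * w F))).toMonoidHom =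
      std F := by
  rw [conj_map_mul, opp, Cfsg.Lib.Linear.SLTwoNatural.u_zero, one_mul, ← map_mul, mul_assoc,
    Cfsg.Lib.Linear.SLTwoNatural.w_mul_w, Cfsg.Lib.Linear.SLTwoNatural.d_mul, d_normalizes p]

end PSL

variable {G : Type*} [Group G] [Finite G] {p : ℕ} [Fact p.Prime] {S : Sylow p G} {F : Type} [Field F]
  [Fintype F] {n : ℕ} {K : Subgroup G} [K.Normal]

section
variable (h : RankOne S F n K)
include h

local notation "PSL2" => Matrix.ProjectiveSpecialLinearGroup (Fin 2) F

/-- A projection sending `S` to the standard subgroup. -/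
theorem RankOne.exists_proj_std : ∃ π : G →* PSL2,
    Function.Surjective π ∧ π.ker = K ∧ (S : Subgroup G).map π = std F := by
  haveI := h.charP
  obtain ⟨π, hπ, hker⟩ := h.exists_proj
  obtain ⟨c, hc⟩ := MulAction.exists_smul_eq PSL2 (S.mapSurjective (f := π) hπ)
    (Cfsg.Lib.Dickson.stdSylow (F := F) p)
  refine ⟨(MulAut.conj c).toMonoidHom.comp π, (MulAut.conj c).surjective.comp hπ, ?_, ?_⟩
  · rw [← hker]
    ext x
    simp [MonoidHom.mem_ker]
  · rw [← Subgroup.map_map, ← Sylow.coe_mapSurjective (hf := hπ),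
      show std F = ((Cfsg.Lib.Dickson.stdSylow (F := F) p : Sylow p PSL2) : Subgroup PSL2) from rfl, ← hc,
      Sylow.coe_subgroup_smul]
    rfl

/-- The class of a conjugate of `S`. -/
theorem RankOne.exists_label :
    ∃ lab : G → Option F, Function.Surjective lab ∧
      ∀ a c : G, lab a ≠ lab c ↔
        (S : Subgroup G).map (MulAut.conj a).toMonoidHom ⊔ (S : Subgroup G).map (MulAut.conj c).toMonoidHom = ⊤ := by
  classical
  haveI := h.charP
  obtain ⟨π, hπ, hker, hS⟩ := h.exists_proj_std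
  let img : Option F → Subgroup PSL2 := fun o =>
    o.casesOn (std F) fun s => (std F).map (MulAut.conj (opp s)).toMonoidHom
  have himg : Function.Injective img := by
    intro a c hac
    cases a with
    | none =>
      cases c with
      | none => rfl
      | some t => exact absurd hac.symm (conj_opp_ne p t)
    | some s =>
      cases c with
      | none => exact absurd hac (conj_opp_ne p s)
      | some t => rw [conj_opp_inj p hac]
  have hconj : ∀ a : G, ((S : Subgroup G).map (MulAut.conj a).toMonoidHom).map π =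
      (std F).map (MulAut.conj (π a)).toMonoidHom := fun a => by
    rw [← hS, Subgroup.map_map, Subgroup.map_map]
    congr 1; ext; simp
  have hex : ∀ a : G, ∃ o : Option F, img o = (std F).map (MulAut.conj (π a)).toMonoidHom := by
    intro a
    have hP : ((π a • Cfsg.Lib.Dickson.stdSylow (F := F) p : Sylow p PSL2) : Subgroup PSL2) =
        (std F).map (MulAut.conj (π a)).toMonoidHom := by
      rw [Sylow.coe_subgroup_smul]; rfl
    rcases sylow_eq p (π a • Cfsg.Lib.Dickson.stdSylow (F := F) p) with e | ⟨s, e⟩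
    · exact ⟨none, e.symm.trans hP⟩
    · exact ⟨some s, e.symm.trans hP⟩
  choose lab hlab using hex
  refine ⟨lab, fun o => ?_, fun a c => ⟨fun hne => ?_, fun he hl => ?_⟩⟩
  · obtain ⟨z, hz⟩ : ∃ z : PSL2, img o = (std F).map (MulAut.conj z).toMonoidHom := by
      cases o with
      | none => exact ⟨1, by show std F = _; rw [map_one]; exact (Subgroup.map_id _).symm⟩
      | some s => exact ⟨opp s, rfl⟩
    obtain ⟨a, rfl⟩ := hπ z
    exact ⟨a, himg ((hlab a).trans hz.symm)⟩
  · -- distinct classes generate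
    set H := (S : Subgroup G).map (MulAut.conj a).toMonoidHom ⊔ (S : Subgroup G).map (MulAut.conj c).toMonoidHom
      with hH
    have hne' : (std F).map (MulAut.conj (π a)).toMonoidHom ≠ (std F).map (MulAut.conj (π c)).toMonoidHom :=
      fun e => hne (himg ((hlab a).trans (e.trans (hlab c).symm)))
    have hgen : std F ⊔ (std F).map (MulAut.conj ((π a)⁻¹ * π c)).toMonoidHom = ⊤ := by
      obtain ⟨o, ho⟩ : ∃ o, img o = (std F).map (MulAut.conj ((π a)⁻¹ * π c)).toMonoidHom := by
        refine ⟨lab (a⁻¹ * c), (hlab _).trans ?_⟩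
        rw [map_mul, map_inv]
      cases o with
      | none =>
        exfalso
        apply hne'
        have := congrArg (Subgroup.map (MulAut.conj (π a)).toMonoidHom) ho
        rwa [conj_map_mul, mul_inv_cancel_left] at this
      | some s => rw [← ho]; exact std_sup_conj_opp s
    have hmap : H.map π = ⊤ := by
      have := congrArg (Subgroup.map (MulAut.conj (π a)).toMonoidHom) hgen
      rw [Subgroup.map_sup, conj_map_mul, mul_inv_cancel_left,
        Subgroup.map_top_of_surjective _ (MulAut.conj (π a)).surjective, ← hconj, ← hconj,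
        ← Subgroup.map_sup] at this
      exact this
    by_contra hHne
    have hK : H ⊔ K = ⊤ := by rw [← hker, ← comap_map_eq, hmap, comap_top]
    -- conjugate back to `S`
    set f := (MulAut.conj a⁻¹).toMonoidHom with hf
    have hfs : Function.Surjective f := (MulAut.conj a⁻¹).surjective
    have hSH : (S : Subgroup G) ≤ H.map f := fun s hs => ⟨a * s * a⁻¹, mem_sup_left ⟨s, hs, rfl⟩, by
      show a⁻¹ * (a * s * a⁻¹) * a⁻¹⁻¹ = s; group⟩
    have hH' : H.map f ≠ ⊤ := fun e => hHne (map_injective (MulAut.conj a⁻¹).injective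
      (e.trans (Subgroup.map_top_of_surjective _ hfs).symm))
    refine h.sup_ne_top hSH le_sup_right hH' h.ker_sup_ne_top (top_le_iff.1 ?_)
    have := congrArg (Subgroup.map f) hK
    rw [Subgroup.map_sup, Subgroup.map_top_of_surjective _ hfs,
      Cfsg.Lib.Core.map_conj_eq_of_mem_normalizer (H := K) (by rw [normalizer_eq_top]; exact mem_top _)] at this
    rw [← this]
    exact sup_le_sup_left le_sup_left _
  · -- generating conjugates have distinct classes
    have e := congrArg (Subgroup.map π) he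
    rw [Subgroup.map_sup, hconj, hconj, ← hlab, ← hlab, hl, sup_idem, hlab,
      Subgroup.map_top_of_surjective _ hπ] at e
    apply Cfsg.Lib.Dickson.sylow_not_normal_psl p (π c • Cfsg.Lib.Dickson.stdSylow (F := F) p)
    rw [Sylow.coe_subgroup_smul, show MulAut.conj (π c) • ((Cfsg.Lib.Dickson.stdSylow (F := F) p :
      Sylow p PSL2) : Subgroup PSL2) = (std F).map (MulAut.conj (π c)).toMonoidHom from rfl, e]
    infer_instance

/-- The elements moving two opposite classes, and their effect on `x`. -/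
theorem RankOne.braid {g x : G}
    (hg : (S : Subgroup G) ⊔ (S : Subgroup G).map (MulAut.conj g).toMonoidHom = ⊤)
    (hx : x ∈ (S : Subgroup G)) (hxQ : x ∉ Cfsg.pCore p G) :
    ∃ y ∈ (S : Subgroup G).map (MulAut.conj g).toMonoidHom,
      (∀ r s : ℕ, (r * s : F) = 1 →
        (S : Subgroup G).map (MulAut.conj (x ^ s * y ^ r * x ^ s)).toMonoidHom ⊔
          (S : Subgroup G).map (MulAut.conj g).toMonoidHom ≠ ⊤ ∧
        (S : Subgroup G).map (MulAut.conj (x ^ s * y ^ r * x ^ s * g)).toMonoidHom ⊔ (S : Subgroup G) ≠ ⊤) ∧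
      (∀ r : ℕ, (r * 2 : F) = 1 →
        x ^ 2 * y ^ r * x ^ 2 * (x * y * x) * x * (x ^ 2 * y ^ r * x ^ 2 * (x * y * x))⁻¹ * (x ^ 4)⁻¹ ∈ K) := by
  haveI := h.charP
  obtain ⟨π₀, hπ₀, hker₀, hS₀⟩ := h.exists_proj_std
  have hconj₀ : ∀ (π : G →* PSL2) (a : G), (S : Subgroup G).map π = std F →
      ((S : Subgroup G).map (MulAut.conj a).toMonoidHom).map π =
      (std F).map (MulAut.conj (π a)).toMonoidHom := fun π a hS => by
    rw [← hS, Subgroup.map_map, Subgroup.map_map]
    congr 1; ext; simp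
  have himg : (std F).map (MulAut.conj (π₀ g)).toMonoidHom ≠ std F := by
    intro e
    have := congrArg (Subgroup.map π₀) hg
    rw [Subgroup.map_sup, hconj₀ π₀ g hS₀, e, hS₀, sup_idem, Subgroup.map_top_of_surjective _ hπ₀] at this
    apply Cfsg.Lib.Dickson.sylow_not_normal_psl p (Cfsg.Lib.Dickson.stdSylow (F := F) p)
    rw [show ((Cfsg.Lib.Dickson.stdSylow (F := F) p : Sylow p PSL2) : Subgroup PSL2) = std F from rfl, this]
    infer_instance
  obtain ⟨s₀, hs₀⟩ : ∃ s₀, (std F).map (MulAut.conj (π₀ g)).toMonoidHom =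
      (std F).map (MulAut.conj (opp s₀)).toMonoidHom := by
    have hP : ((π₀ g • Cfsg.Lib.Dickson.stdSylow (F := F) p : Sylow p PSL2) : Subgroup PSL2) =
        (std F).map (MulAut.conj (π₀ g)).toMonoidHom := by
      rw [Sylow.coe_subgroup_smul]; rfl
    rcases sylow_eq p (π₀ g • Cfsg.Lib.Dickson.stdSylow (F := F) p) with e | ⟨s, e⟩
    · exact absurd (hP.symm.trans e) himg
    · exact ⟨s, hP.symm.trans e⟩
  -- normalise the projection
  set π : G →* PSL2 := (MulAut.conj (proj (u s₀))⁻¹).toMonoidHom.comp π₀ with hπdef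
  have hker : π.ker = K := by
    rw [← hker₀]; ext z
    simp only [MonoidHom.mem_ker, hπdef, MonoidHom.comp_apply, MulEquiv.coe_toMonoidHom,
      EmbeddingLike.map_eq_one_iff]
  have hπ : Function.Surjective π := (MulAut.conj (proj (u s₀))⁻¹).surjective.comp hπ₀
  have hS : (S : Subgroup G).map π = std F := by
    rw [hπdef, ← Subgroup.map_map, hS₀]
    exact Cfsg.Lib.Core.map_conj_eq_of_mem_normalizer (le_normalizer (inv_mem (mem_std.2 ⟨s₀, rfl⟩)))
  have hSg : ((S : Subgroup G).map (MulAut.conj g).toMonoidHom).map π =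
      (std F).map (MulAut.conj (opp (0 : F))).toMonoidHom := by
    rw [hπdef, ← Subgroup.map_map, hconj₀ π₀ g hS₀, hs₀, conj_map_mul, opp_eq s₀, inv_mul_cancel_left]
  obtain ⟨a, ha⟩ := mem_std.1 (hS ▸ mem_map_of_mem π hx)
  have ha0 : a ≠ 0 := by
    rintro rfl
    rw [Cfsg.Lib.Linear.SLTwoNatural.u_zero, map_one] at ha
    exact hxQ (h.inf_le_pCore h.ker_sup_ne_top ⟨hx, hker ▸ MonoidHom.mem_ker.2 ha.symm⟩)
  obtain ⟨y, hy, hπy⟩ : proj (l (-a⁻¹)) ∈ ((S : Subgroup G).map (MulAut.conj g).toMonoidHom).map π := by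
    rw [hSg]
    refine ⟨proj (u a⁻¹), mem_std.2 ⟨_, rfl⟩, ?_⟩
    show opp 0 * proj (u a⁻¹) * (opp 0)⁻¹ = _
    rw [opp, Cfsg.Lib.Linear.SLTwoNatural.u_zero, one_mul, ← map_inv, ← map_mul, ← map_mul]
    congr 1
    rw [show u a⁻¹ = u (-(-a⁻¹)) by rw [neg_neg], ← Cfsg.Lib.Linear.SLTwoNatural.l_mul_w, mul_inv_cancel_right]
  have hupow : ∀ (b : F) (k : ℕ), u b ^ k = u ((k : F) * b) := fun b k => by
    induction k with
    | zero => simp [Cfsg.Lib.Linear.SLTwoNatural.u_zero]
    | succ k ih =>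
      rw [pow_succ, ih, Cfsg.Lib.Linear.SLTwoNatural.u_mul]; congr 1; push_cast; ring
  have hlpow : ∀ (b : F) (k : ℕ), l b ^ k = l ((k : F) * b) := fun b k => by
    have e : ∀ c : F, l c = w F * u (-c) * (w F)⁻¹ := fun c => by
      rw [← Cfsg.Lib.Linear.SLTwoNatural.l_mul_w, mul_inv_cancel_right]
    rw [e, conj_pow, hupow, e, mul_neg]
  have hw : ∀ r s : ℕ, (hrs : (r * s : F) = 1) → ∃ t : Fˣ, (t : F) = s * a ∧
      π (x ^ s * y ^ r * x ^ s) = proj (d t * w F) := by
    intro r s hrs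
    have hs0 : (s : F) ≠ 0 := fun e => by rw [e, mul_zero] at hrs; exact zero_ne_one hrs
    refine ⟨Units.mk0 _ (mul_ne_zero hs0 ha0), rfl, ?_⟩
    rw [map_mul, map_mul, map_pow, map_pow, ← ha, hπy, ← map_pow, ← map_pow, hupow, hlpow, ← map_mul,
      ← map_mul, ← Cfsg.Lib.Linear.SLTwoNatural.braid]
    congr 3
    congr 1
    show (r : F) * -a⁻¹ = -((Units.mk0 ((s : F) * a) _)⁻¹ : Fˣ)
    rw [Units.val_inv_eq_inv_val, Units.val_mk0, mul_inv, show (s : F)⁻¹ = r from inv_eq_of_mul_eq_one_left hrs]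
    ring
  refine ⟨y, hy, fun r s hrs => ⟨fun e => ?_, fun e => ?_⟩, fun r hr => ?_⟩
  · obtain ⟨t, -, ht⟩ := hw r s hrs
    have := congrArg (Subgroup.map π) e
    rw [Subgroup.map_sup, hconj₀ π _ hS, ht, hSg, conj_dw_std p, sup_idem,
      Subgroup.map_top_of_surjective _ hπ] at this
    apply Cfsg.Lib.Dickson.sylow_not_normal_psl p (opp (0 : F) • Cfsg.Lib.Dickson.stdSylow (F := F) p)
    rw [Sylow.coe_subgroup_smul, show MulAut.conj (opp (0 : F)) • ((Cfsg.Lib.Dickson.stdSylow (F := F) p :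
      Sylow p PSL2) : Subgroup PSL2) = (std F).map (MulAut.conj (opp (0 : F))).toMonoidHom from rfl, this]
    infer_instance
  · obtain ⟨t, -, ht⟩ := hw r s hrs
    have := congrArg (Subgroup.map π) e
    have h2 : ((S : Subgroup G).map (MulAut.conj g).toMonoidHom).map π =
        (std F).map (MulAut.conj (π g)).toMonoidHom := hconj₀ π g hS
    rw [Subgroup.map_sup, hconj₀ π _ hS, hS, map_mul, ht, ← conj_map_mul, ← h2, hSg, conj_dw_opp p, sup_idem,
      Subgroup.map_top_of_surjective _ hπ] at this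
    apply Cfsg.Lib.Dickson.sylow_not_normal_psl p (Cfsg.Lib.Dickson.stdSylow (F := F) p)
    rw [show ((Cfsg.Lib.Dickson.stdSylow (F := F) p : Sylow p PSL2) : Subgroup PSL2) = std F from rfl, this]
    infer_instance
  · obtain ⟨t₂, ht₂, e₂⟩ := hw r 2 (by exact_mod_cast hr)
    obtain ⟨t₁, ht₁, e₁⟩ := hw 1 1 (by simp)
    rw [pow_one, pow_one] at e₁
    have hh : π (x ^ 2 * y ^ r * x ^ 2 * (x * y * x)) = proj (d (t₂ * t₁⁻¹ * -1)) := by
      rw [map_mul, e₂, e₁, ← map_mul]
      congr 1
      rw [mul_assoc, ← mul_assoc (w F), ← inv_inv t₁, ← Cfsg.Lib.Linear.SLTwoNatural.d_mul_w t₁⁻¹, inv_inv, mul_assoc,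
        Cfsg.Lib.Linear.SLTwoNatural.w_mul_w, Cfsg.Lib.Linear.SLTwoNatural.d_mul,
        Cfsg.Lib.Linear.SLTwoNatural.d_mul, mul_assoc]
    rw [← hker, MonoidHom.mem_ker]
    rw [map_mul, map_mul, map_inv, map_mul, hh, map_inv, map_pow, ← ha, ← map_inv, ← map_mul, ← map_mul,
      ← map_pow, hupow, mul_inv_eq_one]
    congr 1
    rw [mul_inv_eq_iff_eq_mul, Cfsg.Lib.Linear.SLTwoNatural.u_mul_d]
    congr 2
    rw [show t₂ * t₁⁻¹ * -1 = Units.mk0 (-2 : F) (by
      intro e
      have : (2 : F) = 0 := by linear_combination -e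
      rw [this, mul_zero] at hr
      exact zero_ne_one hr) from Units.ext (by
        simp [ht₂, ht₁]
        field_simp)]
    rw [Units.val_inv_eq_inv_val, Units.val_mk0]
    have h2 : (2 : F) ≠ 0 := fun e => by rw [e, mul_zero] at hr; exact zero_ne_one hr
    field_simp
    norm_num

end

end Cfsg.Lib.Local.PushingUp
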