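import Cfsg.Agent.Lib.Dickson.Orders
import Cfsg.Agent.Lib.Dickson.CentralizerCard
import Cfsg.Agent.Lib.Linear.SLTwoNatural

/-!
The `q + 1` Sylow subgroups of `PSL₂(q)` in the defining characteristic, and the two opposite root
groups.
-/

set_option autoImplicit false

namespace Cfsg.Lib.Local.PushingUp

open Matrix Subgroup
open Cfsg.Lib.Linear.SLTwoNatural (u l w d)

variable {F : Type*} [Field F] [Fintype F]

local notation "SL2" => Matrix.SpecialLinearGroup (Fin 2) F
local notation "PSL2" => Matrix.ProjectiveSpecialLinearGroup (Fin 2) F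

/-- The image of a matrix. -/
def proj : SL2 →* PSL2 := QuotientGroup.mk' (Subgroup.center SL2)

theorem proj_surjective : Function.Surjective (proj (F := F)) := QuotientGroup.mk'_surjective _

/-- The upper root group. -/
def std (F : Type*) [Field F] [Fintype F] : Subgroup (Matrix.ProjectiveSpecialLinearGroup (Fin 2) F) :=
  (Cfsg.Lib.Linear.Two.UT F).map proj

/-- The element moving the upper root group to the one indexed by `s`. -/
def opp (s : F) : PSL2 := proj (u s * w F)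

theorem mem_std {x : PSL2} : x ∈ std F ↔ ∃ a : F, proj (u a) = x := by
  constructor
  · rintro ⟨_, ⟨a, rfl⟩, rfl⟩
    exact ⟨a.toAdd, rfl⟩
  · rintro ⟨a, rfl⟩
    exact ⟨u a, ⟨Multiplicative.ofAdd a, rfl⟩, rfl⟩

theorem normalizer_std (p : ℕ) [Fact p.Prime] [CharP F p] {g : SL2} :
    proj g ∈ normalizer (std F : Set PSL2) ↔ g 1 0 = 0 := by
  have h := Cfsg.Lib.Dickson.normalizer_stdSylow (F := F) p
  rw [Cfsg.Lib.Dickson.stdSylow_coe] at h
  rw [std, show (proj (F := F)) = QuotientGroup.mk' (Subgroup.center SL2) from rfl, h]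
  refine ⟨?_, fun hg => ⟨g, hg, rfl⟩⟩
  rintro ⟨b, hb, he⟩
  obtain ⟨z, hz, hz'⟩ := (QuotientGroup.mk'_eq_mk' _).mp he
  obtain ⟨z01, z10, z11⟩ := Cfsg.Lib.Dickson.mem_center_sl hz
  rw [← hz']
  simp [Matrix.mul_apply, Fin.sum_univ_two, z10, Cfsg.Lib.Dickson.mem_borelSL.1 hb]

theorem conj_opp_ne (p : ℕ) [Fact p.Prime] [CharP F p] (s : F) :
    (std F).map (MulAut.conj (opp s)).toMonoidHom ≠ std F := by
  intro h
  have h1 : opp s ∈ normalizer (std F : Set PSL2) :=
    Subgroup.mem_normalizer_fintype fun x hx => h ▸ ⟨x, hx, rfl⟩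
  rw [opp, normalizer_std p] at h1
  simp [Matrix.mul_apply, Fin.sum_univ_two, Matrix.SpecialLinearGroup.coe_mul, Cfsg.Lib.Linear.SLTwoNatural.u_coe, Cfsg.Lib.Linear.SLTwoNatural.w_coe] at h1

theorem conj_opp_inj (p : ℕ) [Fact p.Prime] [CharP F p] {s t : F}
    (h : (std F).map (MulAut.conj (opp s)).toMonoidHom = (std F).map (MulAut.conj (opp t)).toMonoidHom) :
    s = t := by
  have h1 : (opp s)⁻¹ * opp t ∈ normalizer (std F : Set PSL2) := by
    refine Subgroup.mem_normalizer_fintype fun x hx => ?_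
    obtain ⟨y, hy, he⟩ := h.ge ⟨x, hx, rfl⟩
    have : (opp s)⁻¹ * opp t * x * ((opp s)⁻¹ * opp t)⁻¹ = y := by
      have he' : opp s * y * (opp s)⁻¹ = opp t * x * (opp t)⁻¹ := he
      rw [_root_.mul_inv_rev, inv_inv]
      calc (opp s)⁻¹ * opp t * x * ((opp t)⁻¹ * opp s) = (opp s)⁻¹ * (opp t * x * (opp t)⁻¹) * opp s := by group
        _ = y := by rw [← he']; group
    rw [this]; exact hy
  have e : (opp s)⁻¹ * opp t = proj ((w F)⁻¹ * u (t - s) * w F) := by
    rw [opp, opp, ← map_inv, ← map_mul]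
    congr 1
    rw [_root_.mul_inv_rev, Cfsg.Lib.Linear.SLTwoNatural.u_inv, show t - s = -s + t by abel,
      ← Cfsg.Lib.Linear.SLTwoNatural.u_mul]
    group
  rw [e, normalizer_std p] at h1
  have : -(t - s) = 0 := by
    simpa [Matrix.mul_apply, Fin.sum_univ_two, Matrix.SpecialLinearGroup.coe_mul, Matrix.SpecialLinearGroup.coe_inv, Cfsg.Lib.Linear.SLTwoNatural.u_coe, Cfsg.Lib.Linear.SLTwoNatural.w_coe, Matrix.adjugate_fin_two] using h1
  linear_combination this

/-- Every Sylow subgroup is the upper root group or one of the conjugates. -/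
theorem sylow_eq (p : ℕ) [Fact p.Prime] [CharP F p] (P : Sylow p PSL2) :
    (P : Subgroup PSL2) = std F ∨
      ∃ s : F, (P : Subgroup PSL2) = (std F).map (MulAut.conj (opp s)).toMonoidHom := by
  obtain ⟨c, hc⟩ := MulAction.exists_smul_eq PSL2 (Cfsg.Lib.Dickson.stdSylow (F := F) p) P
  have hP : (P : Subgroup PSL2) = (std F).map (MulAut.conj c).toMonoidHom := by
    rw [← hc, Sylow.coe_subgroup_smul]; rfl
  obtain ⟨g, rfl⟩ := proj_surjective c
  have hfix : ∀ h : SL2, h 1 0 = 0 → (std F).map (MulAut.conj (proj h)).toMonoidHom = std F := fun h hh => by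
    have := (normalizer_std p).2 hh
    apply SetLike.coe_injective
    ext x
    refine ⟨fun ⟨y, hy, e⟩ => e ▸ (Subgroup.mem_normalizer_iff.1 this y).1 hy, fun hx => ?_⟩
    exact ⟨(proj h)⁻¹ * x * proj h, (Subgroup.mem_normalizer_iff.1 this _).2 (by simpa [mul_assoc] using hx),
      by show proj h * ((proj h)⁻¹ * x * proj h) * (proj h)⁻¹ = x; group⟩
  by_cases hg : g 1 0 = 0
  · exact Or.inl (hP.trans (hfix g hg))
  · refine Or.inr ⟨g 0 0 / g 1 0, hP.trans ?_⟩
    have hb : ((u (g 0 0 / g 1 0) * w F)⁻¹ * g) 1 0 = 0 := by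
      simp [Matrix.mul_apply, Fin.sum_univ_two, Matrix.SpecialLinearGroup.coe_mul, Matrix.SpecialLinearGroup.coe_inv, Cfsg.Lib.Linear.SLTwoNatural.u_coe, Cfsg.Lib.Linear.SLTwoNatural.w_coe, Matrix.adjugate_fin_two]
      field_simp
      ring
    conv_lhs => rw [show g = (u (g 0 0 / g 1 0) * w F) * ((u (g 0 0 / g 1 0) * w F)⁻¹ * g) by group,
      map_mul, map_mul, show ∀ a b : MulAut PSL2, (a * b).toMonoidHom = a.toMonoidHom.comp b.toMonoidHom
        from fun a b => rfl, ← Subgroup.map_map, hfix _ hb]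
    rfl

/-- `PSL₂(q)` has trivial `p`-core in the defining characteristic. -/
theorem eq_bot_of_normal (p : ℕ) [Fact p.Prime] [CharP F p] {N : Subgroup PSL2} (hN : N.Normal)
    (hp : IsPGroup p N) : N = ⊥ := by
  have hstd : ∀ x ∈ N, x ∈ std F := by
    intro x hx
    obtain ⟨P, hP⟩ := hp.exists_le_sylow
    obtain ⟨c, hc⟩ := MulAction.exists_smul_eq PSL2 P (Cfsg.Lib.Dickson.stdSylow (F := F) p)
    have : std F = (P : Subgroup PSL2).map (MulAut.conj c).toMonoidHom := by
      rw [show std F = ((Cfsg.Lib.Dickson.stdSylow (F := F) p : Sylow p PSL2) : Subgroup PSL2) from rfl, ← hc,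
        Sylow.coe_subgroup_smul]; rfl
    rw [this]
    exact ⟨c⁻¹ * x * c, hP (by simpa using hN.conj_mem x hx c⁻¹), by
      show c * (c⁻¹ * x * c) * c⁻¹ = x; group⟩
  refine (Subgroup.eq_bot_iff_forall _).2 fun x hx => ?_
  obtain ⟨a, rfl⟩ := mem_std.1 (hstd x hx)
  obtain ⟨b, hb⟩ := mem_std.1 (hstd _ (hN.conj_mem _ hx (proj (w F))))
  rw [← map_inv, ← map_mul, ← map_mul] at hb
  obtain ⟨z, hz, hz'⟩ := (QuotientGroup.mk'_eq_mk' _).mp hb
  obtain ⟨z01, z10, z11⟩ := Cfsg.Lib.Dickson.mem_center_sl hz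
  have e := congrArg (fun m : SL2 => m 1 0) hz'
  simp [Matrix.mul_apply, Fin.sum_univ_two, Matrix.SpecialLinearGroup.coe_mul, Matrix.SpecialLinearGroup.coe_inv, Cfsg.Lib.Linear.SLTwoNatural.u_coe, Cfsg.Lib.Linear.SLTwoNatural.w_coe, Matrix.adjugate_fin_two, z10] at e
  rw [show a = 0 by linear_combination e, Cfsg.Lib.Linear.SLTwoNatural.u_zero, map_one]

end Cfsg.Lib.Local.PushingUp
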