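import Cfsg.Agent.Lib.Local.Baumann.Main
import Cfsg.Agent.Lib.Local.PushingUp.PSL

/-!
Rank one groups: the pair of conjugates on an arbitrary abelian normal section.
-/

set_option autoImplicit false
set_option linter.style.haveILetI false

namespace Cfsg.Lib.Local.PushingUp

open Subgroup Cfsg.Lib.Local.Baumann
open scoped commutatorElement

variable {G : Type*} [Group G] [Finite G] {p : ℕ} [Fact p.Prime]

/-- `S` is in a unique maximal subgroup and `G / K` is `PSL₂(q)`. -/
structure RankOne (S : Sylow p G) (F : Type) [Field F] [Fintype F] (n : ℕ) (K : Subgroup G)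
    [K.Normal] : Prop where
  uniq : ∃! M : Subgroup G, IsCoatom M ∧ (S : Subgroup G) ≤ M
  pos : 1 ≤ n
  card : Fintype.card F = p ^ n
  iso : Nonempty (G ⧸ K ≃* Matrix.ProjectiveSpecialLinearGroup (Fin 2) F)

variable {S : Sylow p G} {F : Type} [Field F] [Fintype F] {n : ℕ} {K : Subgroup G} [K.Normal]

section
variable (h : RankOne S F n K)
include h

theorem RankOne.charP : CharP F p := by
  obtain ⟨q, hq⟩ := CharP.exists F
  obtain ⟨m, hqp, hm⟩ := FiniteField.card F q
  have hd : p ∣ q ^ (m : ℕ) := by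
    rw [← hm, h.card]; exact dvd_pow_self p (by have := h.pos; omega)
  rw [(Nat.prime_dvd_prime_iff_eq Fact.out hqp).1 ((Fact.out : p.Prime).dvd_of_dvd_pow hd)]
  exact hq

/-- Two proper overgroups of `S` do not generate `G`. -/
theorem RankOne.sup_ne_top {H₁ H₂ : Subgroup G} (h₁ : (S : Subgroup G) ≤ H₁) (h₂ : (S : Subgroup G) ≤ H₂)
    (n₁ : H₁ ≠ ⊤) (n₂ : H₂ ≠ ⊤) : H₁ ⊔ H₂ ≠ ⊤ := by
  obtain ⟨M, ⟨hM, -⟩, huniq⟩ := h.uniq
  have key : ∀ H : Subgroup G, (S : Subgroup G) ≤ H → H ≠ ⊤ → H ≤ M := by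
    intro H hH hne
    obtain ⟨M', hM', hle⟩ := (eq_top_or_exists_le_coatom H).resolve_left hne
    exact hle.trans (huniq M' ⟨hM', hH.trans hle⟩).le
  exact fun e => hM.1 (top_le_iff.1 (e.ge.trans (sup_le (key _ h₁ n₁) (key _ h₂ n₂))))

/-- A normal subgroup which does not cover `G` with `S` meets `S` in `O_p(G)`. -/
theorem RankOne.inf_le_pCore {N : Subgroup G} [N.Normal] (hN : N ⊔ (S : Subgroup G) ≠ ⊤) :
    (S : Subgroup G) ⊓ N ≤ Cfsg.pCore p G := by
  obtain ⟨T, hT⟩ := exists_sylow_inf S N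
  have hmap : (T : Subgroup ↥N).map N.subtype = (S : Subgroup G) ⊓ N := by
    rw [hT, subgroupOf_map_subtype]
  have hfr := Sylow.normalizer_sup_eq_top T
  rw [hmap] at hfr
  have hSN : (S : Subgroup G) ≤ normalizer (((S : Subgroup G) ⊓ N : Subgroup G) : Set G) := fun s hs => by
    refine mem_normalizer_fintype fun x hx => mem_inf.2
      ⟨mul_mem (mul_mem hs (mem_inf.1 hx).1) (inv_mem hs), ?_⟩
    exact (inferInstance : N.Normal).conj_mem x (mem_inf.1 hx).2 s
  by_cases htop : normalizer (((S : Subgroup G) ⊓ N : Subgroup G) : Set G) = ⊤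
  · exact Cfsg.Lib.Core.le_pCore' (normalizer_eq_top_iff.1 htop) (S.2.to_le inf_le_left)
  · refine absurd ?_ (h.sup_ne_top hSN le_sup_right htop hN)
    exact top_le_iff.1 (hfr.ge.trans (sup_le le_sup_left (le_sup_left.trans le_sup_right)))

/-- The kernel of the rank one quotient does not cover `G` with `S`. -/
theorem RankOne.ker_sup_ne_top : K ⊔ (S : Subgroup G) ≠ ⊤ := by
  intro e
  obtain ⟨ε⟩ := h.iso
  haveI := h.charP
  let π : G →* Matrix.ProjectiveSpecialLinearGroup (Fin 2) F := ε.toMonoidHom.comp (QuotientGroup.mk' K)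
  have hπ : Function.Surjective π := ε.surjective.comp (QuotientGroup.mk'_surjective K)
  let P := S.mapSurjective (f := π) hπ
  have hK : K.map π = ⊥ := (Subgroup.map_eq_bot_iff K).2 fun x hx => by
    show ε (QuotientGroup.mk' K x) = 1
    rw [QuotientGroup.mk'_apply, (QuotientGroup.eq_one_iff x).2 hx, map_one]
  have htop : (P : Subgroup (Matrix.ProjectiveSpecialLinearGroup (Fin 2) F)) = ⊤ := by
    have := congrArg (Subgroup.map π) e
    rwa [Subgroup.map_sup, hK, bot_sup_eq, Subgroup.map_top_of_surjective π hπ] at this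
  exact Cfsg.Lib.Dickson.sylow_not_normal_psl p P (htop ▸ inferInstance)

/-- The two conjugates and the element of order prime to `p`. -/
theorem RankOne.exists_pair {V : Subgroup G} [V.Normal] (hVp : IsPGroup p V)
    (hab : ∀ a ∈ V, ∀ b ∈ V, a * b = b * a)
    (hc : centralizer (V : Set G) ⊔ (S : Subgroup G) ≠ ⊤) {u : G}
    (huS : u ∈ (S : Subgroup G)) (huQ : u ∉ Cfsg.pCore p G) {X : Subgroup G} (hXV : X ≤ V)
    (hX : X.relIndex V ≤ p ^ n) (hfix : ∀ x ∈ X, u * x * u⁻¹ = x) :
    ∃ g y : G, V ⊓ centralizer ({y} : Set G) = X ⊓ X.map (MulAut.conj g).toMonoidHom ∧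
      (X ⊓ X.map (MulAut.conj g).toMonoidHom).relIndex V = p ^ (2 * n) ∧
      ∀ v ∈ V, v ^ p ∈ X ⊓ X.map (MulAut.conj g).toMonoidHom := by
  set C := centralizer (V : Set G) with hC
  have hNV : ∀ x : G, x ∈ normalizer (V : Set G) := fun x => by rw [normalizer_eq_top]; exact mem_top x
  have huC : u ∉ C := fun huC => huQ (h.inf_le_pCore hc ⟨huS, huC⟩)
  obtain ⟨ku, hku⟩ := S.2 ⟨u, huS⟩
  have hku' : u ^ p ^ ku = 1 := congrArg Subtype.val hku
  -- data attached to a conjugating element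
  have data : ∀ g : G, X.map (MulAut.conj g).toMonoidHom ≤ V ∧
      (X.map (MulAut.conj g).toMonoidHom).relIndex V ≤ p ^ n ∧
      (∀ x ∈ X.map (MulAut.conj g).toMonoidHom, g * u * g⁻¹ * x * (g * u * g⁻¹)⁻¹ = x) ∧
      (∃ k, (g * u * g⁻¹) ^ p ^ k = 1) := by
    intro g
    have hVg : V.map (MulAut.conj g).toMonoidHom = V := Cfsg.Lib.Core.map_conj_eq_of_mem_normalizer (hNV g)
    refine ⟨(map_mono hXV).trans hVg.le, ?_, ?_, ⟨ku, by rw [conj_pow, hku']; simp⟩⟩
    · conv_lhs => rw [← hVg]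
      rw [relIndex_map_map_of_injective _ _ (MulAut.conj g).injective]
      exact hX
    · rintro _ ⟨x, hx, rfl⟩
      show g * u * g⁻¹ * (g * x * g⁻¹) * (g * u * g⁻¹)⁻¹ = g * x * g⁻¹
      conv_rhs => rw [← hfix x hx]
      group
  rcases (show n = 1 ∨ 2 ≤ n by have := h.pos; omega) with hn1 | hn2
  · subst hn1
    set mk := QuotientGroup.mk' C with hmk
    obtain ⟨g, hg⟩ : ∃ g : G, ¬ IsPGroup p ↥((zpowers (mk u)) ⊔
        (zpowers (mk u)).map (MulAut.conj (mk g)).toMonoidHom) := by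
      by_contra hall
      push Not at hall
      obtain ⟨N, hNn, hNp, hle⟩ := Cfsg.Lib.Invol.baerSuzuki (zpowers (mk u))
        ((IsPGroup.of_equiv (S.2.map mk) (MulEquiv.refl _)).to_le (zpowers_le.2 (mem_map_of_mem mk huS)))
        (fun q => by
          obtain ⟨g, rfl⟩ := QuotientGroup.mk'_surjective C q
          exact hall g)
      have hNS : N ≤ (S : Subgroup G).map mk := by
        have := (Cfsg.Lib.Core.le_pCore' hNn hNp).trans
          (Cfsg.Lib.Core.pCore_le_sylow (S.mapSurjective (f := mk) (QuotientGroup.mk'_surjective C)))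
        exact this
      haveI := hNn
      have hle' : N.comap mk ⊔ (S : Subgroup G) ≠ ⊤ := by
        intro e
        apply hc
        refine top_le_iff.1 (e.ge.trans (sup_le ?_ le_sup_right))
        refine (comap_mono hNS).trans (le_of_eq ?_)
        rw [comap_map_eq, hmk, QuotientGroup.ker_mk', sup_comm]
      exact huQ (h.inf_le_pCore hle' ⟨huS, mem_comap.2 (hle (mem_zpowers _))⟩)
    set H := closure ({u, g * u * g⁻¹} : Set G) with hH
    have hmap : (zpowers (mk u)) ⊔ (zpowers (mk u)).map (MulAut.conj (mk g)).toMonoidHom = H.map mk := by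
      rw [hH, MonoidHom.map_closure, Set.image_pair, MonoidHom.map_zpowers, zpowers_eq_closure,
        zpowers_eq_closure, ← Subgroup.closure_union]
      congr 1
    rw [hmap] at hg
    obtain ⟨⟨_, w, hw, rfl⟩, hnot⟩ : ∃ z : ↥(H.map mk), ∀ k, z ^ p ^ k ≠ 1 := by
      by_contra hall
      push Not at hall
      exact hg hall
    obtain ⟨a, m, hm, hwm⟩ := Nat.exists_eq_pow_mul_and_not_dvd (orderOf_pos w).ne' p
      (Fact.out : p.Prime).ne_one
    set y := w ^ p ^ a with hy
    have hyord : orderOf y = m := by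
      rw [hy, orderOf_pow' _ (pow_ne_zero a (Fact.out : p.Prime).ne_zero), hwm,
        Nat.gcd_eq_right (dvd_mul_right _ _), Nat.mul_div_cancel_left _ (pow_pos (Fact.out : p.Prime).pos a)]
    have hyC : y ∉ C := fun hyC => hnot a (Subtype.ext (by
      show mk w ^ p ^ a = 1
      rw [← map_pow]
      exact (QuotientGroup.eq_one_iff _).2 hyC))
    obtain ⟨d1, d2, d3, d4⟩ := data g
    obtain ⟨e1, e2, e3⟩ := fixed_inf_eq hVp hab ⟨ku, hku'⟩ d4 (hNV u) (hNV _) hXV d1
      (by rw [pow_one] at hX; exact hX) (by rw [pow_one] at d2; exact d2) hfix d3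
      (y := y) (pow_mem hw _) (by rw [hyord]; exact ((Fact.out : p.Prime).coprime_iff_not_dvd.2 hm).symm)
      (fun hfixy => hyC (mem_centralizer_iff.2 fun v hv => (mul_inv_eq_iff_eq_mul.1 (hfixy v hv)).symm))
    exact ⟨g, y, e1, by rw [e2], e3⟩
  · haveI := h.charP
    obtain ⟨ε⟩ := h.iso
    let π : G →* Matrix.ProjectiveSpecialLinearGroup (Fin 2) F := ε.toMonoidHom.comp (QuotientGroup.mk' K)
    have hπ : Function.Surjective π := ε.surjective.comp (QuotientGroup.mk'_surjective K)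
    have hker : π.ker = K := by
      ext x
      rw [MonoidHom.mem_ker]
      show ε (QuotientGroup.mk' K x) = 1 ↔ x ∈ K
      rw [EmbeddingLike.map_eq_one_iff, QuotientGroup.mk'_apply, QuotientGroup.eq_one_iff]
    obtain ⟨r, e, hr, hrp, hD, hpair⟩ := Cfsg.Lib.Local.Baumann.exists_pair (F := F) p n hn2 h.card
    have hup : π u ^ p = 1 := Cfsg.Lib.Local.Baumann.sylow_pow_eq_one p (S.mapSurjective (f := π) hπ) (mem_map_of_mem π huS)
    have hu1 : π u ≠ 1 := fun h1 => huQ (h.inf_le_pCore h.ker_sup_ne_top ⟨huS, hker ▸ h1⟩)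
    obtain ⟨c, hcdvd⟩ := hpair (π u) hup hu1
    obtain ⟨c', rfl⟩ := hπ c
    set g := c'⁻¹ with hgdef
    set w := u * (g * u * g⁻¹) with hw
    have hπw : π w = π u * ((π c')⁻¹ * π u * π c') := by
      rw [hw, hgdef, inv_inv, map_mul, map_mul, map_mul, map_inv]
    rw [← hπw] at hcdvd
    obtain ⟨d, hd⟩ := hcdvd
    obtain ⟨j, m, hm, hom⟩ := Nat.exists_eq_pow_mul_and_not_dvd (orderOf_pos (w ^ d)).ne' r hr.ne_one
    set y := (w ^ d) ^ m with hy
    have hd0 : d ≠ 0 := by
      rintro rfl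
      exact (orderOf_pos (π w)).ne' (hd.trans (mul_zero _))
    have hπwd : orderOf (π (w ^ d)) = r ^ (e + 1) := by
      rw [map_pow, orderOf_pow' _ hd0, hd, Nat.gcd_eq_right (dvd_mul_left _ _),
        Nat.mul_div_cancel _ (Nat.pos_of_ne_zero hd0)]
    have hm0 : m ≠ 0 := fun h0 => hm (h0 ▸ dvd_zero r)
    have hyord : orderOf y = r ^ j := by
      rw [hy, orderOf_pow' _ hm0, hom, Nat.gcd_eq_right (dvd_mul_left _ _),
        Nat.mul_div_cancel _ (Nat.pos_of_ne_zero hm0)]
    have hπy : orderOf (π y) = r ^ (e + 1) := by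
      rw [hy, map_pow, orderOf_pow' _ hm0, hπwd,
        (Nat.Coprime.pow_left _ ((hr.coprime_iff_not_dvd).2 hm)).gcd_eq_one, Nat.div_one]
    have hCmap : C.map π = ⊥ := by
      haveI : (C.map π).Normal := (inferInstance : C.Normal).map π hπ
      haveI : IsSimpleGroup (Matrix.ProjectiveSpecialLinearGroup (Fin 2) F) :=
        Cfsg.Lib.Dickson.isSimpleGroup_psl_two (by
          rw [h.card]
          calc 4 ≤ 2 ^ 2 := le_rfl
            _ ≤ p ^ 2 := Nat.pow_le_pow_left (Fact.out : p.Prime).two_le 2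
            _ ≤ p ^ n := Nat.pow_le_pow_right (Fact.out : p.Prime).pos hn2)
      refine ((‹(C.map π).Normal›).eq_bot_or_eq_top).resolve_right fun htop => ?_
      refine h.sup_ne_top le_sup_right le_sup_right hc h.ker_sup_ne_top (top_le_iff.1 ?_)
      have : C ⊔ K = ⊤ := by
        rw [← hker, ← comap_map_eq, htop, comap_top]
      rw [← this]
      exact sup_le (le_sup_left.trans le_sup_left) (le_sup_left.trans le_sup_right)
    have hne : y ^ r ^ e ∉ C := fun hmem => by
      have h1 : π (y ^ r ^ e) = 1 := by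
        have := mem_map_of_mem π hmem
        rwa [hCmap, mem_bot] at this
      rw [map_pow] at h1
      have h2 := Nat.le_of_dvd (pow_pos hr.pos _) (hπy ▸ orderOf_dvd_of_pow_eq_one h1)
      exact absurd h2 (not_le.2 (Nat.pow_lt_pow_right hr.one_lt (Nat.lt_succ_self e)))
    obtain ⟨d1, d2, d3, -⟩ := data g
    have hyH : y ∈ closure ({u, g * u * g⁻¹} : Set G) := by
      refine pow_mem (pow_mem (mul_mem (subset_closure ?_) (subset_closure ?_)) _) _
      · exact Set.mem_insert _ _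
      · exact Set.mem_insert_of_mem _ rfl
    obtain ⟨e1, e2, e3⟩ := fixed_inf_eq_of_large hVp hab hr hrp hD hXV hX d2 hfix d3 hyH (hNV y)
      hyord hne
    exact ⟨g, y, e1, e2, e3⟩

theorem RankOne.exists_proj : ∃ π : G →* Matrix.ProjectiveSpecialLinearGroup (Fin 2) F,
    Function.Surjective π ∧ π.ker = K := by
  obtain ⟨ε⟩ := h.iso
  refine ⟨ε.toMonoidHom.comp (QuotientGroup.mk' K), ε.surjective.comp (QuotientGroup.mk'_surjective K), ?_⟩
  ext x
  rw [MonoidHom.mem_ker]
  show ε (QuotientGroup.mk' K x) = 1 ↔ x ∈ K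
  rw [EmbeddingLike.map_eq_one_iff, QuotientGroup.mk'_apply, QuotientGroup.eq_one_iff]

theorem RankOne.pCore_le_ker : Cfsg.pCore p G ≤ K := by
  haveI := h.charP
  obtain ⟨π, hπ, hker⟩ := h.exists_proj
  have := eq_bot_of_normal p ((inferInstance : (Cfsg.pCore p G).Normal).map π hπ)
    ((Cfsg.Lib.Core.pCore_isPGroup p G).map π)
  rwa [Subgroup.map_eq_bot_iff, hker] at this

/-- Some two conjugates of `S` generate `G`. -/
theorem RankOne.exists_gen :
    ∃ g : G, (S : Subgroup G) ⊔ (S : Subgroup G).map (MulAut.conj g).toMonoidHom = ⊤ := by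
  by_contra hall
  push Not at hall
  obtain ⟨M, ⟨hM, hSM⟩, huniq⟩ := h.uniq
  have hNM : normalClosure ((S : Subgroup G) : Set G) ≤ M := by
    rw [normalClosure, closure_le]
    intro z hz
    obtain ⟨s, hs, hzs⟩ := Group.mem_conjugatesOfSet_iff.1 hz
    obtain ⟨c, rfl⟩ := isConj_iff.1 hzs
    obtain ⟨M', hM', hle⟩ := (eq_top_or_exists_le_coatom _).resolve_left (hall c)
    have e := huniq M' ⟨hM', le_sup_left.trans hle⟩
    exact e ▸ hle (mem_sup_right ⟨s, hs, rfl⟩)
  have hne : normalClosure ((S : Subgroup G) : Set G) ⊔ (S : Subgroup G) ≠ ⊤ := fun e =>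
    hM.1 (top_le_iff.1 (e.ge.trans (sup_le hNM hSM)))
  refine h.ker_sup_ne_top ?_
  rw [sup_eq_left.2 ?_]
  · haveI := h.charP
    obtain ⟨π, hπ, hker⟩ := h.exists_proj
    exfalso
    have hSQ := h.inf_le_pCore hne
    have hS : (S : Subgroup G).map π = ⊥ := (Subgroup.map_eq_bot_iff _).2 (hker ▸
      ((le_inf le_rfl le_normalClosure).trans (hSQ.trans h.pCore_le_ker)))
    apply Cfsg.Lib.Dickson.sylow_not_normal_psl p (S.mapSurjective (f := π) hπ)
    rw [Sylow.coe_mapSurjective, hS]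
    infer_instance
  · exact ((le_inf le_rfl le_normalClosure).trans (h.inf_le_pCore hne)).trans h.pCore_le_ker

omit h in
theorem quot_pCore {B : Subgroup G} [B.Normal] (hB : B ≤ Cfsg.pCore p G) :
    Cfsg.pCore p (G ⧸ B) = (Cfsg.pCore p G).map (QuotientGroup.mk' B) := by
  refine le_antisymm ?_ (Cfsg.Lib.Core.map_pCore_le _ (QuotientGroup.mk'_surjective B))
  refine le_trans (le_of_eq (Subgroup.map_comap_eq_self_of_surjective
    (QuotientGroup.mk'_surjective B) _).symm) (map_mono ?_)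
  refine Cfsg.Lib.Core.le_pCore' (inferInstance) ?_
  refine IsPGroup.comap_of_ker_isPGroup (Cfsg.Lib.Core.pCore_isPGroup p _) _ ?_
  rw [QuotientGroup.ker_mk']
  exact (Cfsg.Lib.Core.pCore_isPGroup p G).to_le hB

theorem RankOne.quot {B : Subgroup G} [B.Normal] (hB : B ≤ Cfsg.pCore p G) :
    RankOne (S.mapSurjective (QuotientGroup.mk'_surjective B)) F n (K.map (QuotientGroup.mk' B)) where
  uniq := by
    obtain ⟨M, ⟨hM, hSM⟩, huniq⟩ := h.uniq
    have hBS : B ≤ (S : Subgroup G) := hB.trans (Cfsg.Lib.Core.pCore_le_sylow S)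
    have hsurj := QuotientGroup.mk'_surjective B
    have key : ∀ M' : Subgroup (G ⧸ B), IsCoatom M' →
        IsCoatom (M'.comap (QuotientGroup.mk' B)) := fun M' hM' =>
      Subgroup.isCoatom_comap_of_surjective hsurj hM'
    refine ⟨M.map (QuotientGroup.mk' B), ⟨?_, ?_⟩, ?_⟩
    · have e : (M.map (QuotientGroup.mk' B)).comap (QuotientGroup.mk' B) = M := by
        rw [comap_map_eq, QuotientGroup.ker_mk', sup_eq_left.2 (hBS.trans hSM)]
      refine ⟨fun h0 => hM.1 ?_, fun N hN => ?_⟩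
      · rw [← e, h0, comap_top]
      · have h1 := hM.2 (N.comap (QuotientGroup.mk' B))
          (e.ge.trans_lt ((comap_lt_comap_of_surjective hsurj).2 hN))
        rw [← map_comap_eq_self_of_surjective hsurj N, h1, map_top_of_surjective _ hsurj]
    · rw [Sylow.coe_mapSurjective]; exact map_mono hSM
    · rintro M' ⟨hM', hSM'⟩
      rw [Sylow.coe_mapSurjective, map_le_iff_le_comap] at hSM'
      rw [← huniq _ ⟨key M' hM', hSM'⟩, map_comap_eq_self_of_surjective hsurj]
  pos := h.pos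
  card := h.card
  iso := by
    obtain ⟨ε⟩ := h.iso
    exact ⟨(QuotientGroup.quotientQuotientEquivQuotient B K (hB.trans h.pCore_le_ker)).trans ε⟩

end

/-- The elements of `A` fixed modulo `B` by all elements of `M`. -/
def fixMod (A B : Subgroup G) [B.Normal] (M : Set G) : Subgroup G :=
  A ⊓ (centralizer (QuotientGroup.mk' B '' M)).comap (QuotientGroup.mk' B)

omit [Finite G] in
theorem mem_fixMod {A B : Subgroup G} [B.Normal] {M : Set G} {a : G} :
    a ∈ fixMod A B M ↔ a ∈ A ∧ ∀ g ∈ M, ⁅g, a⁆ ∈ B := by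
  rw [fixMod, mem_inf, mem_comap, mem_centralizer_iff]
  refine and_congr_right fun _ => ⟨fun H g hg => ?_, fun H x hx => ?_⟩
  · refine (QuotientGroup.eq_one_iff _).1 ?_
    show QuotientGroup.mk' B ⁅g, a⁆ = 1
    rw [map_commutatorElement, commutatorElement_eq_one_iff_mul_comm]
    exact H _ ⟨g, hg, rfl⟩
  · obtain ⟨g, hg, rfl⟩ := hx
    refine commutatorElement_eq_one_iff_mul_comm.1 ?_
    rw [← map_commutatorElement]
    exact (QuotientGroup.eq_one_iff _).2 (H g hg)

section
variable (h : RankOne S F n K)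
include h

/-- The pair of conjugates on a section. -/
theorem RankOne.section_pair {A B X Y : Subgroup G} [A.Normal] [B.Normal] (hAp : IsPGroup p A)
    (hBA : B ≤ A) (hA : ⁅A, A⁆ ≤ B) (hBY : B ≤ Y) (hYA : Y ≤ A)
    (hYS : (S : Subgroup G) ≤ normalizer (Y : Set G)) (hY : ¬ Y.Normal) {u : G}
    (huS : u ∈ (S : Subgroup G)) (huQ : u ∉ Cfsg.pCore p G) (hBX : B ≤ X) (hXA : X ≤ A)
    (hX : X.relIndex A ≤ p ^ n) (hfix : ∀ x ∈ X, ⁅u, x⁆ ∈ B) :
    ∃ g y : G, (X ⊓ X.map (MulAut.conj g).toMonoidHom).relIndex A = p ^ (2 * n) ∧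
      fixMod A B {y} = X ⊓ X.map (MulAut.conj g).toMonoidHom := by
  have hAQ : A ≤ Cfsg.pCore p G := Cfsg.Lib.Core.le_pCore' inferInstance hAp
  have hBQ := hBA.trans hAQ
  set mk := QuotientGroup.mk' B with hmk
  have hsurj : Function.Surjective mk := QuotientGroup.mk'_surjective B
  have hcomap : ∀ {Z : Subgroup G}, B ≤ Z → (Z.map mk).comap mk = Z := fun hZ => by
    rw [comap_map_eq, hmk, QuotientGroup.ker_mk', sup_eq_left.2 hZ]
  haveI : (A.map mk).Normal := (inferInstance : A.Normal).map mk hsurj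
  have hab : ∀ a ∈ A.map mk, ∀ b ∈ A.map mk, a * b = b * a :=
    Cfsg.Lib.Core.commutator_eq_bot_iff_forall.1 (by
      rw [← map_commutator, Subgroup.map_eq_bot_iff, hmk, QuotientGroup.ker_mk']; exact hA)
  have hc : centralizer (A.map mk : Set (G ⧸ B)) ⊔
      ((S.mapSurjective hsurj : Sylow p (G ⧸ B)) : Subgroup (G ⧸ B)) ≠ ⊤ := by
    intro e
    apply hY
    refine normalizer_eq_top_iff.1 (top_le_iff.1 ?_)
    have e' := congrArg (Subgroup.comap mk) e
    rw [comap_top, Sylow.coe_mapSurjective] at e'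
    rw [← e']
    intro g hg
    rw [mem_comap] at hg
    obtain ⟨c, hc, z, hz, hcz⟩ := (mem_sup_of_normal_left
      (s := centralizer (A.map mk : Set (G ⧸ B)))).1 hg
    obtain ⟨s, hs, rfl⟩ := hz
    obtain ⟨c', rfl⟩ := hsurj c
    have hc' : c' ∈ normalizer (Y : Set G) := mem_normalizer_fintype fun x hx => by
      have h1 : mk ⁅c', x⁆ = 1 := by
        rw [map_commutatorElement, commutatorElement_eq_one_iff_mul_comm]
        exact (mem_centralizer_iff.1 hc _ (mem_map_of_mem mk (hYA hx))).symm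
      have h2 := mul_mem (hBY ((QuotientGroup.eq_one_iff _).1 h1)) hx
      rwa [commutatorElement_def, inv_mul_cancel_right] at h2
    have hd : (c' * s)⁻¹ * g ∈ normalizer (Y : Set G) := by
      have hB : (c' * s)⁻¹ * g ∈ B := by
        refine (QuotientGroup.eq_one_iff _).1 ?_
        show mk ((c' * s)⁻¹ * g) = 1
        rw [map_mul, map_inv, map_mul, hcz, inv_mul_cancel]
      exact le_normalizer (hBY hB)
    have := mul_mem (mul_mem hc' (hYS hs)) hd
    rwa [mul_inv_cancel_left] at this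
  have huQ' : mk u ∉ Cfsg.pCore p (G ⧸ B) := fun hu => huQ (by
    rw [quot_pCore hBQ] at hu
    rw [← hcomap hBQ]; exact hu)
  obtain ⟨g', y', e1, e2, -⟩ := (h.quot hBQ).exists_pair (hAp.map mk) hab hc
    (by rw [Sylow.coe_mapSurjective]; exact mem_map_of_mem mk huS) huQ' (map_mono hXA)
    (by
      rw [relIndex_map_map, hmk, QuotientGroup.ker_mk', sup_eq_left.2 hBX, sup_eq_left.2 hBA]
      exact hX)
    (by
      rintro _ ⟨x, hx, rfl⟩
      have h1 : mk ⁅u, x⁆ = 1 := (QuotientGroup.eq_one_iff _).2 (hfix x hx)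
      rw [map_commutatorElement, commutatorElement_eq_one_iff_mul_comm] at h1
      exact mul_inv_eq_iff_eq_mul.2 h1)
  obtain ⟨g, rfl⟩ := hsurj g'
  obtain ⟨y, rfl⟩ := hsurj y'
  set Xg := X.map (MulAut.conj g).toMonoidHom with hXg
  have hBXg : B ≤ Xg := fun b hb => ⟨g⁻¹ * b * g, hBX (by
    simpa using (inferInstance : B.Normal).conj_mem b hb g⁻¹), by
      show g * (g⁻¹ * b * g) * g⁻¹ = b; group⟩
  have hXgmap : (X.map mk).map (MulAut.conj (mk g)).toMonoidHom = Xg.map mk := by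
    rw [hXg, map_map, map_map]
    congr 1
  rw [hXgmap] at e1 e2
  have hinf : X.map mk ⊓ Xg.map mk = (X ⊓ Xg).map mk := by
    refine le_antisymm ?_ (map_inf_le X Xg mk)
    rintro z ⟨⟨x, hx, rfl⟩, hz⟩
    have hxg : x ∈ Xg := by rw [← hcomap hBXg]; exact hz
    exact ⟨x, ⟨hx, hxg⟩, rfl⟩
  rw [hinf] at e1 e2
  rw [relIndex_map_map, hmk, QuotientGroup.ker_mk', sup_eq_left.2 (le_inf hBX hBXg),
    sup_eq_left.2 hBA] at e2
  refine ⟨g, y, e2, ?_⟩
  rw [← hcomap (le_inf hBX hBXg), ← e1, comap_inf, hcomap hBA, fixMod, Set.image_singleton]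

/-- A section on which `S` has a fixed subgroup of index at most `q`. -/
theorem RankOne.section_natural {A B X Y : Subgroup G} [A.Normal] [B.Normal] (hAp : IsPGroup p A)
    (hBA : B ≤ A) (hA : ⁅A, A⁆ ≤ B) (hBY : B ≤ Y) (hYA : Y ≤ A)
    (hYS : (S : Subgroup G) ≤ normalizer (Y : Set G)) (hY : ¬ Y.Normal)
    (hBX : B ≤ X) (hXA : X ≤ A) (hX : X.relIndex A ≤ p ^ n)
    (hfix : ∀ s ∈ (S : Subgroup G), ∀ x ∈ X, ⁅s, x⁆ ∈ B) :
    ∃ C : Subgroup G, C.Normal ∧ B ≤ C ∧ C ≤ X ∧ C = fixMod A B Set.univ ∧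
      C.relIndex A = p ^ (2 * n) ∧ X.relIndex A = p ^ n ∧ ¬ X.Normal ∧
      (∀ u ∈ (S : Subgroup G), u ∉ Cfsg.pCore p G → ∀ a ∈ A, ⁅u, a⁆ ∈ C → a ∈ X) ∧
      (∀ g : G, (S : Subgroup G) ⊔ (S : Subgroup G).map (MulAut.conj g).toMonoidHom = ⊤ →
        X ⊓ X.map (MulAut.conj g).toMonoidHom = C ∧ X ⊔ X.map (MulAut.conj g).toMonoidHom = A) := by
  have hne : ∀ {U W : Subgroup G}, U.relIndex W ≠ 0 := fun {U W} => index_ne_zero_of_finite
  have hXconj : ∀ g : G, (X.map (MulAut.conj g).toMonoidHom).relIndex A = X.relIndex A := fun g => by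
    conv_lhs => rw [← Cfsg.Lib.Core.map_conj_eq_of_mem_normalizer (H := A) (g := g)
      (by rw [normalizer_eq_top]; exact mem_top g)]
    rw [relIndex_map_map_of_injective _ _ (MulAut.conj g).injective]
  set C := fixMod A B Set.univ with hC
  obtain ⟨g₀, hg₀⟩ := h.exists_gen
  -- an element outside the core
  obtain ⟨u₀, hu₀S, hu₀Q⟩ : ∃ u ∈ (S : Subgroup G), u ∉ Cfsg.pCore p G := by
    refine SetLike.not_le_iff_exists.1 fun hle => ?_
    refine h.ker_sup_ne_top (top_le_iff.1 (hg₀.ge.trans (sup_le le_sup_right ?_)))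
    refine ((map_mono (hle.trans h.pCore_le_ker)).trans (le_of_eq ?_)).trans le_sup_left
    exact Cfsg.Lib.Core.map_conj_eq_of_mem_normalizer (by rw [normalizer_eq_top]; exact mem_top g₀)
  -- the index of a subgroup fixed by an element outside the core
  have idx : ∀ {X' : Subgroup G}, B ≤ X' → X' ≤ A → X'.relIndex A ≤ p ^ n →
      ∀ u ∈ (S : Subgroup G), u ∉ Cfsg.pCore p G → (∀ x ∈ X', ⁅u, x⁆ ∈ B) →
      X'.relIndex A = p ^ n ∧ ∃ y, (fixMod A B {y}).relIndex A = p ^ (2 * n) := by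
    intro X' h1 h2 h3 u hu hu' h4
    obtain ⟨g, y, e1, e2⟩ := h.section_pair hAp hBA hA hBY hYA hYS hY hu hu' h1 h2 h3 h4
    refine ⟨le_antisymm h3 ?_, y, e2 ▸ e1⟩
    have h5 : p ^ (2 * n) ≤ X'.relIndex A * X'.relIndex A := by
      refine e1.ge.trans (relIndex_inf_le.trans (le_of_eq ?_))
      congr 1
      conv_lhs => rw [← Cfsg.Lib.Core.map_conj_eq_of_mem_normalizer (H := A) (g := g)
        (by rw [normalizer_eq_top]; exact mem_top g)]
      rw [relIndex_map_map_of_injective _ _ (MulAut.conj g).injective]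
    by_contra hlt
    push Not at hlt
    have := Nat.mul_lt_mul_of_lt_of_lt hlt hlt
    rw [← pow_add, ← two_mul] at this
    omega
  obtain ⟨hXq, y, hy⟩ := idx hBX hXA hX u₀ hu₀S hu₀Q (fun x hx => hfix u₀ hu₀S x hx)
  have hCy : C ≤ fixMod A B {y} := fun a ha => by
    rw [hC, mem_fixMod] at ha
    exact mem_fixMod.2 ⟨ha.1, fun g _ => ha.2 g (Set.mem_univ g)⟩
  have hgenC : ∀ g : G, (S : Subgroup G) ⊔ (S : Subgroup G).map (MulAut.conj g).toMonoidHom = ⊤ →
      X ⊓ X.map (MulAut.conj g).toMonoidHom = C ∧ C.relIndex A = p ^ (2 * n) := by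
    intro g hg
    have hle : X ⊓ X.map (MulAut.conj g).toMonoidHom ≤ C := by
      rintro a ⟨ha, ha'⟩
      rw [hC, mem_fixMod]
      refine ⟨hXA ha, fun x _ => ?_⟩
      have hx : x ∈ (centralizer ({QuotientGroup.mk' B a} : Set (G ⧸ B))).comap (QuotientGroup.mk' B) := by
        have hbase : ∀ s z, ⁅s, z⁆ ∈ B → QuotientGroup.mk' B s * QuotientGroup.mk' B z =
            QuotientGroup.mk' B z * QuotientGroup.mk' B s := fun s z hz => by
          refine commutatorElement_eq_one_iff_mul_comm.1 ?_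
          rw [← map_commutatorElement]; exact (QuotientGroup.eq_one_iff _).2 hz
        refine (hg.ge.trans (sup_le ?_ ?_)) (mem_top x)
        · intro s hs
          exact mem_comap.2 (mem_centralizer_singleton_iff.2 (hbase s a (hfix s hs a ha)))
        · rintro _ ⟨s, hs, rfl⟩
          obtain ⟨z, hz, rfl⟩ := ha'
          refine mem_comap.2 (mem_centralizer_singleton_iff.2 (hbase _ _ ?_))
          rw [show (MulAut.conj g).toMonoidHom s = g * s * g⁻¹ from rfl,
            show (MulAut.conj g).toMonoidHom z = g * z * g⁻¹ from rfl,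
            show ⁅g * s * g⁻¹, g * z * g⁻¹⁆ = g * ⁅s, z⁆ * g⁻¹ by simp [commutatorElement_def, mul_assoc]]
          exact (inferInstance : B.Normal).conj_mem _ (hfix s hs z hz) g
      refine (QuotientGroup.eq_one_iff _).1 ?_
      show QuotientGroup.mk' B ⁅x, a⁆ = 1
      rw [map_commutatorElement, commutatorElement_eq_one_iff_mul_comm]
      exact mem_centralizer_singleton_iff.1 hx
    have hup : (X ⊓ X.map (MulAut.conj g).toMonoidHom).relIndex A ≤ p ^ (2 * n) := by
      rw [two_mul, pow_add]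
      exact relIndex_inf_le.trans (le_of_eq (by rw [hXconj, hXq]))
    have m1 := relIndex_mul_relIndex _ _ A (hle.trans hCy) inf_le_left
    rw [hy] at m1
    have h1 : (X ⊓ X.map (MulAut.conj g).toMonoidHom).relIndex (fixMod A B {y}) = 1 := by
      have hpos : 0 < p ^ (2 * n) := pow_pos (Fact.out : p.Prime).pos _
      rw [← m1] at hup
      nlinarith [Nat.pos_of_ne_zero (hne (U := X ⊓ X.map (MulAut.conj g).toMonoidHom) (W := fixMod A B {y}))]
    have e := le_antisymm (hle.trans hCy) (relIndex_eq_one.1 h1)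
    have e' : C = fixMod A B {y} := le_antisymm hCy (e ▸ hle)
    exact ⟨e.trans e'.symm, e' ▸ hy⟩
  obtain ⟨hC0, hCidx⟩ := hgenC g₀ hg₀
  have hCX : C ≤ X := hC0 ▸ inf_le_left
  haveI hCn : C.Normal := ⟨fun a ha x => by
    rw [hC, mem_fixMod] at ha ⊢
    refine ⟨(inferInstance : A.Normal).conj_mem a ha.1 x, fun g _ => ?_⟩
    have := (inferInstance : B.Normal).conj_mem _ (ha.2 (x⁻¹ * g * x) (Set.mem_univ _)) x
    rwa [show x * ⁅x⁻¹ * g * x, a⁆ * x⁻¹ = ⁅g, x * a * x⁻¹⁆ by simp [commutatorElement_def, mul_assoc]] at this⟩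
  have hBC : B ≤ C := fun b hb => by
    rw [hC, mem_fixMod]
    exact ⟨hBA hb, fun g _ => by
      rw [commutatorElement_def]
      exact mul_mem ((inferInstance : B.Normal).conj_mem b hb g) (inv_mem hb)⟩
  have hXn : ¬ X.Normal := fun hXn => by
    have e : X.map (MulAut.conj g₀).toMonoidHom = X :=
      Cfsg.Lib.Core.map_conj_eq_of_mem_normalizer (by rw [normalizer_eq_top]; exact mem_top g₀)
    rw [e, inf_idem] at hC0
    rw [hC0, hCidx] at hXq
    exact absurd ((Nat.pow_right_injective (Fact.out : p.Prime).two_le) hXq) (by have := h.pos; omega)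
  have hXS : (S : Subgroup G) ≤ normalizer (X : Set G) := fun s hs => mem_normalizer_fintype fun x hx => by
    have := mul_mem (hBX (hfix s hs x hx)) hx
    rwa [commutatorElement_def, inv_mul_cancel_right] at this
  refine ⟨C, hCn, hBC, hCX, rfl, hCidx, hXq, hXn, fun u hu hu' a ha hua => ?_, fun g hg => ⟨(hgenC g hg).1, ?_⟩⟩
  · -- the fixed points of one element modulo `C`
    set X' := fixMod A C {u} with hX'
    have hXX' : X ≤ X' := fun x hx => mem_fixMod.2 ⟨hXA hx, by
      rintro g rfl; exact hBC (hfix g hu x hx)⟩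
    have h1 : X'.relIndex A ≤ p ^ n :=
      le_trans (Nat.le_of_dvd (Nat.pos_of_ne_zero hne) (relIndex_dvd_of_le_left A hXX')) hXq.le
    obtain ⟨g, y', e1, -⟩ := h.section_pair hAp (hBC.trans hCX |>.trans hXA |> fun _ => hCX.trans hXA)
      (hA.trans hBC) hCX hXA hXS hXn hu hu' (hCX.trans hXX') inf_le_left h1
      (fun x hx => (mem_fixMod.1 hx).2 u rfl)
    have h5 : p ^ (2 * n) ≤ X'.relIndex A * X'.relIndex A := by
      refine e1.ge.trans (relIndex_inf_le.trans (le_of_eq ?_))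
      congr 1
      conv_lhs => rw [← Cfsg.Lib.Core.map_conj_eq_of_mem_normalizer (H := A) (g := g)
        (by rw [normalizer_eq_top]; exact mem_top g)]
      rw [relIndex_map_map_of_injective _ _ (MulAut.conj g).injective]
    have h6 : X'.relIndex A = p ^ n := by
      refine le_antisymm h1 ?_
      by_contra hlt
      push Not at hlt
      have := Nat.mul_lt_mul_of_lt_of_lt hlt hlt
      rw [← pow_add, ← two_mul] at this
      omega
    have m1 := relIndex_mul_relIndex X X' A hXX' inf_le_left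
    rw [h6, hXq] at m1
    have h7 : X.relIndex X' = 1 :=
      Nat.eq_of_mul_eq_mul_right (pow_pos (Fact.out : p.Prime).pos _) (m1.trans (one_mul _).symm)
    exact relIndex_eq_one.1 h7 (mem_fixMod.2 ⟨ha, by rintro g rfl; exact hua⟩)
  · -- two conjugates span
    set Xg := X.map (MulAut.conj g).toMonoidHom with hXg
    have hXgA : Xg ≤ A := (map_mono hXA).trans (le_of_eq
      (Cfsg.Lib.Core.map_conj_eq_of_mem_normalizer (by rw [normalizer_eq_top]; exact mem_top g)))
    have hAX : A ≤ normalizer (X : Set G) := fun a ha => mem_normalizer_fintype fun x hx => by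
      have := mul_mem (hBX (hA (commutator_mem_commutator ha (hXA hx)))) hx
      rwa [commutatorElement_def, inv_mul_cancel_right] at this
    obtain ⟨e, ei⟩ := hgenC g hg
    refine le_antisymm (sup_le hXA hXgA) ?_
    have hcards := card_sup_mul_inf (hXgA.trans hAX)
    rw [e] at hcards
    have c1 := Cfsg.Lib.Core.card_mul_relIndex hXA
    have c2 := Cfsg.Lib.Core.card_mul_relIndex hXgA
    have c3 := Cfsg.Lib.Core.card_mul_relIndex (hCX.trans hXA)
    rw [hXq] at c1
    rw [hXconj, hXq] at c2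
    rw [ei] at c3
    refine (eq_of_le_of_card_ge (sup_le hXA hXgA) ?_).ge
    have hpos : 0 < Nat.card C := Nat.card_pos
    have key : Nat.card ↥(X ⊔ Xg) * (Nat.card C * p ^ (2 * n)) = Nat.card A * Nat.card A := by
      rw [two_mul, pow_add, ← mul_assoc, hcards]
      calc _ = (Nat.card X * p ^ n) * (Nat.card Xg * p ^ n) := by ring
        _ = _ := by rw [c1, c2]
    rw [c3] at key
    exact (Nat.eq_of_mul_eq_mul_right Nat.card_pos key).ge

end

end Cfsg.Lib.Local.PushingUp
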