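import Cfsg.Agent.Lib.Local.PushingUp.Critical

/-!
The case `b = 1`.
-/

set_option autoImplicit false
set_option linter.style.haveILetI false

namespace Cfsg.Lib.Local.PushingUp

open Subgroup Cfsg.Lib.Local.Baumann
open scoped commutatorElement

variable {X : Type*} [Group X]

theorem pow_mul_central {x y c : X} (hc : ⁅y, x⁆ = c) (hx : c * x = x * c) (hy : c * y = y * c) :
    ∀ m : ℕ, (x * y) ^ m = x ^ m * y ^ m * c ^ (m.choose 2) := by
  have cx : Commute c x := hx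
  have cy : Commute c y := hy
  have hyx : y * x = x * y * c := by
    rw [mul_assoc, show y * c = c * y from cy.symm.eq, ← mul_assoc, ← cx.eq, ← hc]
    simp [commutatorElement_def, mul_assoc]
  have hymx : ∀ m : ℕ, y ^ m * x = x * y ^ m * c ^ m := by
    intro m
    induction m with
    | zero => simp
    | succ m ih =>
      calc y ^ (m + 1) * x = y ^ m * (y * x) := by rw [pow_succ, mul_assoc]
        _ = y ^ m * x * (y * c) := by rw [hyx]; group
        _ = x * y ^ m * (c ^ m * y) * c := by rw [ih]; group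
        _ = x * y ^ m * (y * c ^ m) * c := by rw [(cy.pow_left m).eq]
        _ = _ := by group
  intro m
  induction m with
  | zero => simp
  | succ m ih =>
    rw [pow_succ (x * y), ih]
    have e : m.choose 2 + m = (m + 1).choose 2 := by
      rw [Nat.choose_succ_succ', Nat.choose_one_right, add_comm]
    calc x ^ m * y ^ m * c ^ m.choose 2 * (x * y) = x ^ m * (y ^ m * x) * (c ^ m.choose 2 * y) := by
          rw [show x ^ m * y ^ m * c ^ m.choose 2 * (x * y) = x ^ m * y ^ m * (c ^ m.choose 2 * x) * y by group,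
            (cx.pow_left _).eq, mul_assoc (x ^ m) (y ^ m * x)]
          group
      _ = x ^ m * x * y ^ m * (c ^ (m + m.choose 2) * y) := by rw [hymx, pow_add]; group
      _ = _ := by rw [(cy.pow_left _).eq, pow_succ, pow_succ, ← e, add_comm]; group

section
variable [Finite X] {T₀ P₀ : Subgroup X} {p q : ℕ} [Fact p.Prime] (A : Amalgam p q T₀ P₀)
include A

theorem Amalgam.b_one (hb : HasB p T₀ P₀ 1) :
    (∀ a ∈ T₀, ∀ c ∈ T₀, ⁅a, c⁆ ∈ Zt T₀) ∧ (p ≠ 2 → ∀ t ∈ T₀, t ^ p = 1) ∧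
      (∀ t ∈ T₀, p = 2 → t ^ 4 = 1) ∧ (∀ x ∈ Qv p P₀, ∀ g ∈ P₀, ⁅x, g⁆ ∈ Vv p P₀) := by
  obtain ⟨P₁, R₁, hc₁⟩ := hb.attained
  obtain ⟨M, ⟨T₁, h₁, h₁'⟩, hM₁⟩ := A.split hb hc₁.1
  obtain ⟨-, rfl⟩ := hM₁
  -- transport to the base edge
  obtain ⟨g, hgT, hgP⟩ := h₁.trans Edge.base
  set R := cj g M
  have hT : Edge T₀ P₀ T₀ P₀ := Edge.base
  have hTR : Edge T₀ P₀ T₀ R := hgT ▸ h₁'.conj g
  have hc : Crit p T₀ P₀ 1 P₀ R := ⟨hgP ▸ hc₁.1.conj g, fun hle => hc₁.2 (by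
    have e := cj_mono (g := g⁻¹) hle
    rwa [cj_Vv, cj_Qv, ← hgP, cj_inv_cj, cj_inv_cj] at e)⟩
  have hP := hT.loc A
  have hR := hTR.loc A
  have hM : Near T₀ P₀ (1 - 1) R R := ⟨⟨_, hTR⟩, rfl⟩
  have hM' : Near T₀ P₀ (1 - 1) P₀ P₀ := ⟨⟨_, hT⟩, rfl⟩
  have hinf := A.crit_inf hb hc hT hTR hM hTR hT hM'
  have hcov := A.crit_cover hb hc hT hTR hM
  have hVT : Vv p R ≤ T₀ := A.le_edge hb hM hTR
  have hnormV : T₀ ≤ normalizer (Vv p R : Set X) := hR.le.trans hR.norm_V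
  have hnormQ : T₀ ≤ normalizer (Qv p P₀ : Set X) := hP.le.trans hP.norm_core
  have hQT := hP.core_le
  have hxy : ∀ x ∈ Vv p R, ∀ y ∈ Qv p P₀, ⁅x, y⁆ ∈ Zt T₀ := fun x hx y hy =>
    hinf.le (mem_inf.2 ⟨comm_mem_of_le' hnormV (hQT hy) hx, comm_mem_of_le hnormQ (hVT hx) hy⟩)
  have hZc : ∀ {z t : X}, z ∈ Zt T₀ → t ∈ T₀ → Commute z t := fun hz ht => (mem_Zt_comm hz ht).symm
  -- the derived subgroup of the core
  set D2 : Subgroup X := ⁅Qv p P₀, Qv p P₀⁆ with hD2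
  have hD2Q : D2 ≤ Qv p P₀ := commutator_le.2 fun a ha b hb' => by
    rw [commutatorElement_def]
    exact mul_mem (mul_mem (mul_mem ha hb') (inv_mem ha)) (inv_mem hb')
  have hD2x : ∀ x ∈ Vv p R, ∀ c ∈ D2, x * c = c * x := by
    intro x hx
    suffices h : D2 ≤ centralizer ({x} : Set X) from fun c hc =>
      (mem_centralizer_singleton_iff.1 (h hc)).symm
    refine commutator_le.2 fun a ha b hb' => mem_centralizer_singleton_iff.2 ?_
    have ea : x * a * x⁻¹ = ⁅x, a⁆ * a := by simp [commutatorElement_def, mul_assoc]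
    have eb : x * b * x⁻¹ = ⁅x, b⁆ * b := by simp [commutatorElement_def, mul_assoc]
    have za := hxy x hx a ha
    have zb := hxy x hx b hb'
    have e : ⁅x * a * x⁻¹, x * b * x⁻¹⁆ = ⁅a, b⁆ := by
      rw [ea, eb, comm_mul_left, comm_eq_one ((hZc za (mul_mem (Zt_le _ zb) (hQT hb'))).eq), mul_one,
        comm_mul_right, comm_eq_one ((hZc zb (hQT ha)).symm.eq), one_mul]
      have hab : ⁅a, b⁆ ∈ T₀ := hQT (hD2Q (commutator_mem_commutator ha hb'))
      rw [(hZc zb hab).eq, mul_inv_cancel_right, (hZc za hab).eq, mul_inv_cancel_right]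
    rw [comm_conj] at e
    exact (mul_inv_eq_iff_eq_mul.1 e).symm
  have hD2n : P₀ ≤ normalizer (D2 : Set X) := fun g hg => by
    refine mem_normalizer_of_cj ?_
    rw [hD2, cj, map_commutator, ← cj, cj_eq_of_mem (hP.norm_core hg)]
  set N : Subgroup X := ⁅D2, Qv p P₀⁆ with hN
  have hder : ⁅T₀, T₀⁆ ≤ D2 ⊔ Zt T₀ := by
    refine commutator_le.2 fun a ha c hc' => ?_
    obtain ⟨x, hx, y, hy, rfl⟩ := hcov a ha
    obtain ⟨x', hx', y', hy', rfl⟩ := hcov c hc'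
    have z1 := hxy x' hx' y hy
    have z2 := hxy x hx y' hy'
    have hx0 : ⁅x, x'⁆ = 1 := comm_eq_one (Vv_comm_Qv hx' (Vv_le_Qv p R hx))
    have hcyy : ⁅y, y'⁆ ∈ D2 := commutator_mem_commutator hy hy'
    have z1' : ⁅y, x'⁆ ∈ Zt T₀ := by rw [← commutatorElement_inv x' y]; exact inv_mem z1
    have f1 : x' * ⁅y, y'⁆ * x'⁻¹ = ⁅y, y'⁆ := mul_inv_eq_iff_eq_mul.2 (hD2x x' hx' _ hcyy)
    have f2 : x' * ⁅x, y'⁆ * x'⁻¹ = ⁅x, y'⁆ :=
      mul_inv_eq_iff_eq_mul.2 (hZc z2 (hVT hx')).symm.eq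
    have f3 : x * (⁅y, x'⁆ * ⁅y, y'⁆) * x⁻¹ = ⁅y, x'⁆ * ⁅y, y'⁆ :=
      mul_inv_eq_iff_eq_mul.2
        (((hZc z1' (hVT hx)).symm.mul_right (show Commute x ⁅y, y'⁆ from hD2x x hx _ hcyy))).eq
    rw [comm_mul_left, comm_mul_right x x' y', hx0, one_mul, f2, comm_mul_right y x' y', f1, f3]
    exact mul_mem (mul_mem (mem_sup_right z1') (mem_sup_left hcyy)) (mem_sup_right z2)
  have hNeq : N = ⁅⁅T₀, T₀⁆, T₀⁆ := by
    refine le_antisymm (commutator_mono (commutator_mono hQT hQT) hQT) (commutator_le.2 fun a ha t ht => ?_)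
    obtain ⟨d, hd, z, hz, rfl⟩ := (Cfsg.Lib.Core.mem_sup_of_commute
      (Cfsg.Lib.Core.commutator_eq_bot_iff_forall.2 fun d hd z hz =>
        mem_Zt_comm hz (hQT (hD2Q hd)))).1 (hder ha)
    obtain ⟨x, hx, y, hy, rfl⟩ := hcov t ht
    rw [comm_mul_left, comm_eq_one (hZc hz (mul_mem (hVT hx) (hQT hy))).eq, mul_one, mul_inv_cancel,
      one_mul, comm_mul_right, comm_eq_one (hD2x x hx d hd).symm, one_mul]
    have hm : ⁅d, y⁆ ∈ N := commutator_mem_commutator hd hy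
    have hxn : x ∈ normalizer (N : Set X) := by
      refine mem_normalizer_of_cj ?_
      rw [hN, cj, map_commutator, ← cj, ← cj, cj_eq_of_mem (hnormQ (hVT hx)),
        cj_eq_of_mem (hD2n (hP.le (hVT hx)))]
    exact (mem_normalizer_iff.1 hxn _).1 hm
  have hN0 : N = ⊥ := by
    refine A.free N (hNeq ▸ (commutator_le.2 fun a ha b hb' => ?_)) (fun g hg => ?_) (fun g hg => ?_)
    · have ha' : a ∈ T₀ := (commutator_le.2 fun u hu v hv => by
        rw [commutatorElement_def]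
        exact mul_mem (mul_mem (mul_mem hu hv) (inv_mem hu)) (inv_mem hv)) ha
      rw [commutatorElement_def]
      exact mul_mem (mul_mem (mul_mem ha' hb') (inv_mem ha')) (inv_mem hb')
    · refine mem_normalizer_of_cj ?_
      rw [hN, cj, map_commutator, ← cj, ← cj, cj_eq_of_mem (hP.norm_core hg), cj_eq_of_mem (hD2n hg)]
    · refine mem_normalizer_of_cj ?_
      rw [hNeq, cj, map_commutator, map_commutator, ← cj, cj_eq_of_mem hg]
  have hclass : ∀ a ∈ T₀, ∀ c ∈ T₀, ⁅a, c⁆ ∈ Zt T₀ := by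
    intro a ha c hc'
    refine mem_inf.2 ⟨?_, mem_centralizer_iff.2 fun t ht => ?_⟩
    · rw [commutatorElement_def]
      exact mul_mem (mul_mem (mul_mem ha hc') (inv_mem ha)) (inv_mem hc')
    · have := Cfsg.Lib.Core.commutator_eq_bot_iff_forall.1 (hNeq.symm.trans hN0) _
        (commutator_mem_commutator ha hc') t ht
      exact this.symm
  -- powers
  have hpow : ∀ m : ℕ, (∀ x ∈ Vv p R, ∀ y ∈ Qv p P₀, (x * y) ^ m = y ^ m) → ∀ t ∈ T₀, t ^ m = 1 := by
    intro m hm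
    set W : Subgroup X := Subgroup.closure ((fun t => t ^ m) '' (T₀ : Set X)) with hW
    have hW' : W = Subgroup.closure ((fun t => t ^ m) '' (Qv p P₀ : Set X)) := by
      rw [hW]
      congr 1
      ext z
      constructor
      · rintro ⟨t, ht, rfl⟩
        obtain ⟨x, hx, y, hy, rfl⟩ := hcov t ht
        exact ⟨y, hy, (hm x hx y hy).symm⟩
      · rintro ⟨t, ht, rfl⟩
        exact ⟨t, hQT ht, rfl⟩
    have hinv : ∀ {H : Subgroup X} {g : X}, g ∈ normalizer (H : Set X) →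
        cj g (Subgroup.closure ((fun t => t ^ m) '' (H : Set X))) = Subgroup.closure ((fun t => t ^ m) '' (H : Set X)) := by
      intro H g hg
      rw [cj, MonoidHom.map_closure, Set.image_image]
      conv_rhs => rw [← cj_eq_of_mem hg, cj, coe_map, Set.image_image]
      simp only [map_pow]
    have hW0 : W = ⊥ := A.free W
      ((closure_le _).2 (by rintro _ ⟨t, ht, rfl⟩; exact pow_mem ht m))
      (fun g hg => mem_normalizer_of_cj (by rw [hW']; exact hinv (hP.norm_core hg)))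
      (fun g hg => mem_normalizer_of_cj (hinv hg))
    intro t ht
    exact mem_bot.1 (hW0.le (subset_closure ⟨t, ht, rfl⟩))
  refine ⟨hclass, fun hp2 => hpow p fun x hx y hy => ?_, fun t ht hp2 => hpow 4 (fun x hx y hy => ?_) t ht, ?_⟩
  · have hz : ⁅y, x⁆ ∈ Zt T₀ := hclass y (hQT hy) x (hVT hx)
    rw [pow_mul_central rfl (hZc hz (hVT hx)).eq (hZc hz (hQT hy)).eq, hR.V_pow x hx, one_mul]
    have hd : p ∣ p.choose 2 := Nat.Prime.dvd_choose_self Fact.out two_ne_zero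
      (lt_of_le_of_ne (Fact.out : p.Prime).two_le (Ne.symm hp2))
    obtain ⟨k, hk⟩ := hd
    rw [hk, pow_mul, hP.V_pow _ (hP.center_le_V hz), one_pow, mul_one]
  · have hz : ⁅y, x⁆ ∈ Zt T₀ := hclass y (hQT hy) x (hVT hx)
    have hx2 : x ^ 2 = 1 := by simpa [hp2] using hR.V_pow x hx
    have hz2 : ⁅y, x⁆ ^ 2 = 1 := by simpa [hp2] using hP.V_pow _ (hP.center_le_V hz)
    rw [pow_mul_central rfl (hZc hz (hVT hx)).eq (hZc hz (hQT hy)).eq, show (4 : ℕ) = 2 * 2 from rfl,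
      pow_mul x, hx2, one_pow, one_mul, (show Nat.choose (2 * 2) 2 = 2 * 3 from rfl), pow_mul ⁅y, x⁆, hz2,
      one_pow, mul_one]
  · intro x hx
    obtain ⟨g, hg, hgen⟩ := hP.exists_gen
    let H : Subgroup X :=
      { carrier := {t | t ∈ P₀ ∧ ∀ z ∈ Qv p P₀, ⁅z, t⁆ ∈ Vv p P₀}
        one_mem' := ⟨one_mem _, fun z _ => by simp⟩
        mul_mem' := by
          rintro a c ⟨ha, ha'⟩ ⟨hc', hc''⟩
          refine ⟨mul_mem ha hc', fun z hz => ?_⟩
          rw [comm_mul_right]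
          exact mul_mem (ha' z hz) (conj_mem_of_le hP.norm_V ha (hc'' z hz))
        inv_mem' := by
          rintro a ⟨ha, ha'⟩
          refine ⟨inv_mem ha, fun z hz => ?_⟩
          rw [show ⁅z, a⁻¹⁆ = a⁻¹ * ⁅z, a⁆⁻¹ * a⁻¹⁻¹ by simp [commutatorElement_def, mul_assoc]]
          exact conj_mem_of_le hP.norm_V (inv_mem ha) (inv_mem (ha' z hz)) }
    have hTH : T₀ ≤ H := fun t ht => ⟨hP.le ht, fun z hz => hP.center_le_V (hclass z (hQT hz) t ht)⟩
    have hall : P₀ ≤ H := by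
      refine hgen.ge.trans (sup_le hTH ?_)
      rintro _ ⟨t, ht, rfl⟩
      refine ⟨mul_mem (mul_mem hg (hP.le ht)) (inv_mem hg), fun z hz => ?_⟩
      have hz' := conj_mem_of_le hP.norm_core (inv_mem hg) hz
      rw [show ⁅z, (MulAut.conj g).toMonoidHom t⁆ = g * ⁅g⁻¹ * z * g⁻¹⁻¹, t⁆ * g⁻¹ by
        simp [commutatorElement_def, mul_assoc]]
      exact conj_mem_of_le hP.norm_V hg ((hTH ht).2 _ hz')
    exact fun g hg => (hall hg).2 x hx

end

end Cfsg.Lib.Local.PushingUp
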