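import Cfsg.Agent.Lib.Local.PushingUp.UModule

/-!
`b` is at most `2`.
-/

set_option autoImplicit false
set_option linter.style.haveILetI false
set_option maxHeartbeats 1000000

namespace Cfsg.Lib.Local.PushingUp

open Subgroup Cfsg.Lib.Local.Baumann
open scoped commutatorElement

variable {X : Type*} [Group X]

section
variable [Finite X] {T₀ P₀ : Subgroup X} {T P : Subgroup X} {p q b : ℕ} [Fact p.Prime]
  (A : Amalgam p q T₀ P₀) (hb : HasB p T₀ P₀ b)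
include A hb

/-- A single element outside `O_p` maps onto the fixed points. -/
theorem Amalgam.module_onto (hT : Edge T₀ P₀ T P) {U W C : Subgroup X} (hUP : U ≤ P)
    (hVC : Vv p P ≤ C) (hCW : C ≤ W) (hWU : W ≤ U) (hC : C.relIndex U = q * q)
    (hW : W.relIndex U = q) (hCn : P ≤ normalizer (C : Set X))
    (hcomm : ∀ a ∈ U, ∀ c ∈ U, ⁅a, c⁆ ∈ C) {x : X} (hx : x ∈ T) (hxQ : x ∉ Qv p P)
    (hsec : ∀ a ∈ U, ⁅x, a⁆ ∈ C → a ∈ W) (hfix : ∀ a ∈ W, ⁅x, a⁆ ∈ C)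
    (hquad : ∀ a ∈ U, ⁅x, a⁆ ∈ W) :
    ∀ w ∈ W, ∃ a ∈ U, ∃ c ∈ C, ⁅x, a⁆ * c = w := by
  have hUC : U ≤ normalizer (C : Set X) := hUP.trans hCn
  haveI : (C.subgroupOf U).Normal :=
    (normal_subgroupOf_iff_le_normalizer (hCW.trans hWU)).2 hUC
  let mk := QuotientGroup.mk' (C.subgroupOf U)
  have hmk : ∀ {a : X} (ha : a ∈ U), mk ⟨a, ha⟩ = 1 ↔ a ∈ C := fun ha =>
    (QuotientGroup.eq_one_iff _).trans mem_subgroupOf
  let f : ↥U →* ↥U ⧸ C.subgroupOf U :=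
    { toFun := fun a => mk ⟨⁅x, (a : X)⁆, hWU (hquad a a.2)⟩
      map_one' := (hmk _).2 (by simp)
      map_mul' := fun a c => by
        show mk ⟨⁅x, (a : X) * (c : X)⁆, _⟩ = mk _ * mk _
        have hm : (a : X) * ⁅x, (c : X)⁆ * (a : X)⁻¹ ∈ U :=
          mul_mem (mul_mem a.2 (hWU (hquad c c.2))) (inv_mem a.2)
        have e : mk ⟨(a : X) * ⁅x, (c : X)⁆ * (a : X)⁻¹, hm⟩ = mk ⟨⁅x, (c : X)⁆, hWU (hquad c c.2)⟩ := by
          rw [← mul_inv_eq_one, ← map_inv, ← map_mul]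
          refine (hmk _).2 ?_
          exact hcomm a a.2 _ (hWU (hquad c c.2))
        rw [← e, ← map_mul]
        congr 1
        exact Subtype.ext (comm_mul_right x a c) }
  have hker : f.ker = W.subgroupOf U := by
    ext a
    rw [MonoidHom.mem_ker, mem_subgroupOf]
    exact ⟨fun h => hsec a a.2 ((hmk _).1 h), fun h => (hmk _).2 (hfix a h)⟩
  have hcard : Nat.card f.range = q := by
    rw [← Subgroup.index_ker, hker]; exact hW
  have hle : f.range ≤ (W.subgroupOf U).map mk := by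
    rintro _ ⟨a, rfl⟩
    exact ⟨_, mem_subgroupOf.2 (hquad a a.2), rfl⟩
  have hcard2 : Nat.card ↥((W.subgroupOf U).map mk) = q := by
    rw [← relIndex_bot_left, show (⊥ : Subgroup (↥U ⧸ C.subgroupOf U)) = (⊥ : Subgroup ↥U).map mk from
      (Subgroup.map_bot mk).symm, relIndex_map_map, QuotientGroup.ker_mk', bot_sup_eq,
      sup_eq_left.2 (fun a ha => mem_subgroupOf.2 (hCW (mem_subgroupOf.1 ha))),
      relIndex_subgroupOf hWU]
    have hm := relIndex_mul_relIndex C W U hCW hWU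
    rw [hW, hC] at hm
    exact Nat.eq_of_mul_eq_mul_right (lt_trans Nat.one_pos A.one_lt) hm
  have heq := eq_of_le_of_card_ge hle (hcard2.trans hcard.symm).le
  intro w hw
  obtain ⟨a, ha⟩ := heq.ge ⟨⟨w, hWU hw⟩, mem_subgroupOf.2 hw, rfl⟩
  refine ⟨a, a.2, ⁅x, (a : X)⁆⁻¹ * w, ?_, by group⟩
  have h1 : mk (⟨⁅x, (a : X)⁆, hWU (hquad a a.2)⟩⁻¹ * ⟨w, hWU hw⟩) = 1 := by
    rw [map_mul, map_inv]
    exact inv_mul_eq_one.2 ha
  exact (hmk _).1 h1

/-- `b ≤ 2`. -/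
theorem Amalgam.b_le_two : b ≤ 2 := by
  by_contra hlt
  push Not at hlt
  have h2b : 2 ≤ b := hlt.le
  have hb0 := hb.pos
  obtain ⟨f, e, tr⟩ := A.exists_track hb h2b (b + 1)
  have hE : ∀ i < b + 1 + b, Edge T₀ P₀ (e i) (f i) ∧ Edge T₀ P₀ (e i) (f (i + 1)) := tr.edge
  have nr : ∀ i j k : ℕ, i + k = j → j ≤ b + 1 + b → Near T₀ P₀ k (f i) (f j) := fun i j k h1 h2 =>
    h1 ▸ tr.near hb0 i k (by omega)
  have hTm : Edge T₀ P₀ (e b) (f b) := (hE b (by omega)).1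
  have hTp : Edge T₀ P₀ (e b) (f (b + 1)) := (hE b (by omega)).2
  have hT1 : Edge T₀ P₀ (e (b + 1)) (f (b + 1)) := (hE (b + 1) (by omega)).1
  have hT1' : Edge T₀ P₀ (e (b + 1)) (f (b + 2)) := (hE (b + 1) (by omega)).2
  have hc' : Crit p T₀ P₀ b (f b) (f (b + b)) := tr.crit b (by omega)
  have hc : Crit p T₀ P₀ b (f (b + 1)) (f (b + 1 + b)) := tr.crit (b + 1) le_rfl
  have hR' : Adj T₀ P₀ (f (b + 1 + b)) (f (b + b)) := by
    have := hE (b + b) (by omega)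
    rw [show b + b + 1 = b + 1 + b by omega] at this
    exact ⟨_, this.2, this.1⟩
  obtain ⟨C, hCn, hVC, hCW, hCmem, hCidx, hWidx, -, hsec, -, hquad, -, hUcov, hWfix⟩ := A.UU_struct hb h2b hc'
    hTm hTp (nr (b + 1) (b + b) (b - 1) (by omega) (by omega)) (tr.moved b (by omega)) hc hT1 hT1'
    (nr (b + 2) (b + 1 + b) (b - 1) (by omega) (by omega)) hR'
  set P := f (b + 1)
  set U := UU p T₀ P₀ P with hU
  set W := U ⊓ Qv p (f (b + b))
  have hP := hT1.loc A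
  have hUQ : U ≤ Qv p P := A.UU_le_core hb h2b
  have hUP : U ≤ P := hUQ.trans (Qv_le p P)
  have hDV : Zt P ≤ Vv p P := hP.D_le_center.trans hP.center_le_V
  have hcen : ∀ {z g : X}, z ∈ Zt P → g ∈ P → g * z = z * g := fun hz hg => mem_Zt_comm hz hg
  have hVU : Vv p P ≤ U := Vv_le_UU ⟨_, hT1, hT1⟩
  have hVeps : Vv p (f 2) ≤ Qv p P := hb.below (b - 1) (by omega) _ _ (nr 2 (b + 1) (b - 1) (by omega) (by omega))
  have hL : ∀ {a c : ℕ}, a + 2 = c → c ≤ b + 1 + b → ∀ {v w : X}, v ∈ Vv p (f a) → w ∈ Vv p (f c) →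
      v * w = w * v := fun h1 h2 _ _ hv hw => A.comm_below hb (show 2 < b by omega) (nr _ _ 2 h1 h2) hv hw
  -- first step
  have hfirst : ∀ v ∈ Vv p (f b), ∀ x ∈ Vv p (f (b + 1 + b)), ∀ ε ∈ Vv p (f 2), ⁅⁅v, x⁆, ε⁆ = 1 := by
    intro v hv x hx ε hε
    have hN : Adj T₀ P₀ P (f b) := ⟨_, hTp, hTm⟩
    have hvU : v ∈ U := Vv_le_UU hN hv
    have hxP : x ∈ P := hP.le (A.le_edge hb (nr (b + 2) (b + 1 + b) (b - 1) (by omega) (by omega)) hT1' hx)
    have hεQ : ε ∈ Qv p P := hVeps hε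
    have hu' : x * v⁻¹ * x⁻¹ ∈ U := conj_mem_of_le A.le_normalizer_UU hxP (inv_mem hvU)
    have hw : x⁻¹ * ε * x ∈ Qv p P := by
      simpa using conj_mem_of_le hP.norm_core (inv_mem hxP) hεQ
    set c := ⁅⁅v, x⁆, ε⁆ with hcdef
    have hve : ⁅v, ε⁆ = 1 := comm_eq_one
      (A.comm_below hb (show b - 2 < b by omega) (nr 2 b (b - 2) (by omega) (by omega)) hε hv).symm
    have hcD : ⁅x * v⁻¹ * x⁻¹, ε⁆ ∈ Zt P := A.UU_comm hb h2b hT1 hu' hεQ
    have hc1 : c = ⁅x * v⁻¹ * x⁻¹, ε⁆ := by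
      rw [hcdef, show ⁅v, x⁆ = v * (x * v⁻¹ * x⁻¹) by simp [commutatorElement_def, mul_assoc],
        comm_mul_left, hve, mul_one, hcen hcD (hUP hvU), mul_inv_cancel_right]
    have hD2 : ⁅v⁻¹, x⁻¹ * ε * x⁆ ∈ Zt P := A.UU_comm hb h2b hT1 (inv_mem hvU) hw
    have hc2 : c = ⁅v⁻¹, x⁻¹ * ε * x⁆ := by
      rw [hc1, show ⁅x * v⁻¹ * x⁻¹, ε⁆ = x * ⁅v⁻¹, x⁻¹ * ε * x⁆ * x⁻¹ by
        simp [commutatorElement_def, mul_assoc], hcen hD2 hxP, mul_inv_cancel_right]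
    have hcNm : c ∈ Vv p (f b) := by
      rw [hc2]
      refine comm_mem_of_le' ((hTm.loc A).le.trans (hTm.loc A).norm_V) ?_ (inv_mem hv)
      exact (hTp.loc A).core_le hw
    have hcε : c ∈ Vv p (f 2) := by
      have hE2 : Edge T₀ P₀ (e 2) (f 2) := (hE 2 (by omega)).1
      have hUe : U ≤ e 2 := by
        refine le_trans (iSup_le fun N => ?_) (((hE 2 (by omega)).2).loc A).core_le
        have h3 : Near T₀ P₀ (b - 2) P (f 3) := (nr 3 (b + 1) (b - 2) (by omega) (by omega)).symm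
        exact hb.below (b - 2 + 1) (by omega) _ _ (near_succ (p := p) hb N.2.symm h3)
      refine comm_mem_of_le ((hE2.loc A).le.trans (hE2.loc A).norm_V) (hUe ?_) hε
      rw [show ⁅v, x⁆ = v * (x * v⁻¹ * x⁻¹) by simp [commutatorElement_def, mul_assoc]]
      exact mul_mem hvU hu'
    have hcP : c ∈ Zt P := hc1 ▸ hcD
    have hTprev : Edge T₀ P₀ (e (b - 1)) (f b) := by
      have := (hE (b - 1) (by omega)).2
      rwa [show b - 1 + 1 = b by omega] at this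
    have hc0 : Crit p T₀ P₀ b (f b) (f 0) := A.crit_symm hb (by
      have := tr.crit 0 (Nat.zero_le _)
      rwa [zero_add] at this)
    have hcb : c ∈ Zt (f b) := by
      refine A.mem_D hTprev hTm ?_ hcNm (fun t ht => ?_) (fun t ht => hcen hcP ((hTp.loc A).le ht))
      · have := tr.gen (b - 1) (by omega)
        rwa [show b - 1 + 1 = b by omega] at this
      · obtain ⟨l, hl, y, hy, rfl⟩ := A.crit_cover hb hc0 hTprev (hE (b - 1) (by omega)).1
          (nr 0 (b - 1) (b - 1) (by omega) (by omega)).symm t ht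
        have e1 : y * c = c * y := Vv_comm_Qv hcNm hy
        have e2 : l * c = c * l := hL (rfl : 0 + 2 = 2) (by omega) hl hcε
        rw [mul_assoc, e1, ← mul_assoc, e2, mul_assoc]
    rw [hc2]
    by_cases hwQ : x⁻¹ * ε * x ∈ Qv p (f b)
    · exact comm_eq_one (Vv_comm_Qv (inv_mem hv) hwQ).symm
    · refine comm_eq_one (mem_Zt_comm ((hTm.loc A).fix _ ((hTp.loc A).core_le hw) hwQ _ (inv_mem hv) ?_)
        ((hTp.loc A).core_le hw)).symm
      rw [← commutatorElement_inv v⁻¹]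
      exact inv_mem (hc2 ▸ hcb)
  -- the contradiction
  obtain ⟨g, hg, hgT⟩ := A.other_edge hTp hT1
  obtain ⟨x, hx, hxQ⟩ := A.exists_not_core hb hc
  have hxT : x ∈ e (b + 1) :=
    A.le_edge hb (nr (b + 2) (b + 1 + b) (b - 1) (by omega) (by omega)) hT1' hx
  have hxP : x ∈ P := hP.le hxT
  have honto := A.module_onto hb hT1 hUP hVC hCW inf_le_left hCidx hWidx hCn
    (fun a ha c hc' => hVC (hDV (A.UU_comm hb h2b hT1 ha (hUQ hc')))) hxT hxQ (hsec x hxT hxQ)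
    (fun a ha => hVC (hWfix x hxT a ha)) (hquad x hxT)
  refine (tr.crit 2 (by omega)).2 ?_
  rw [show 2 + b = b + 2 by omega]
  -- `V` of the neighbour centralises `Vv p (f 2)`
  have hN1 : Adj T₀ P₀ P (f (b + 2)) := ⟨_, hT1, hT1'⟩
  have hEle : Vv p (f 2) ≤ e (b + 1) :=
    A.le_edge hb (nr 2 (b + 1) (b - 1) (by omega) (by omega)).symm hT1
  refine le_trans (le_inf hEle fun ε hε => mem_centralizer_iff.2 fun v1 hv1 => ?_) (hT1'.loc A).cent_V.le
  have hεQ : ε ∈ Qv p P := hVeps hε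
  have hv1W : v1 ∈ W := ⟨Vv_le_UU hN1 hv1,
    hb.below (b - 2) (by omega) _ _ (nr (b + 2) (b + b) (b - 2) (by omega) (by omega)) hv1⟩
  obtain ⟨a, ha, c, hc1, hac⟩ := honto v1 hv1W
  obtain ⟨v, hv, w, hw, rfl⟩ := hUcov a ha
  have hvU : v ∈ U := Vv_le_UU ⟨_, hTp, hTm⟩ hv
  set τ := v * ⁅x, w⁆ * v⁻¹ * c with hτdef
  have hτ : τ ∈ C := mul_mem (hVC (conj_mem_of_le hP.norm_V (hUP hvU) (hWfix x hxT w hw))) hc1
  have hv1eq : ⁅x, v⁆ * τ = v1 := by rw [← hac, comm_mul_right, hτdef]; group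
  have hτU : τ ∈ U := ((hCmem τ).1 hτ).1
  set εg := g * ε * g⁻¹ with hεg
  have hεgQ : εg ∈ Qv p P := conj_mem_of_le hP.norm_core hg hεQ
  have hnU : ⁅x, v⁆ ∈ U := comm_mem_of_le A.le_normalizer_UU hxP hvU
  -- the first step
  have hnε : ⁅⁅x, v⁆, ε⁆ = 1 := by
    have h := commutatorElement_eq_one_iff_mul_comm.1 (hfirst v hv x hx ε hε)
    rw [← commutatorElement_inv v x]
    exact comm_eq_one (show Commute ⁅v, x⁆ ε from h).inv_left.eq
  -- `εg` commutes with `v1`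
  have hv1εg : ⁅v1, εg⁆ = 1 := by
    have h1 : Near T₀ P₀ (b - 2) (cj g (f 2)) (cj g (f b)) :=
      (nr 2 b (b - 2) (by omega) (by omega)).conj g
    have h2 : Adj T₀ P₀ (cj g (f b)) (f (b + 2)) := ⟨e (b + 1), hgT ▸ hTm.conj g, hT1'⟩
    have h3 := h1.snoc h2
    exact comm_eq_one (A.comm_below hb (show b - 2 + 1 < b by omega) h3
      (cj_Vv g p (f 2) ▸ conj_mem_cj hε) hv1).symm
  -- `εg` is fixed by `x` modulo elements centralising `U`
  have hnεg : ⁅⁅x, v⁆, εg⁆ = 1 := by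
    have hk : εg⁻¹ * (x⁻¹ * εg * x) ∈ ⁅Qv p P, Qv p P⁆ := by
      have hx' : g⁻¹ * x * g ∈ e b := by rw [← mem_cj, hgT]; exact hxT
      have hcS : Crit p T₀ P₀ b P (f 1) := A.crit_symm hb (by
        have := tr.crit 1 (by omega)
        rwa [show 1 + b = b + 1 by omega] at this)
      obtain ⟨a1, ha1, y, hy, hay⟩ := A.crit_cover hb hcS hTp hTm
        (nr 1 b (b - 1) (by omega) (by omega)).symm _ (inv_mem hx')
      have hεa : ⁅ε⁻¹, a1⁆ = 1 := by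
        refine comm_eq_one (show Commute ε⁻¹ a1 from ?_).eq
        exact (show Commute ε a1 from
          (A.comm_below hb (show 1 < b by omega) (nr 1 2 1 (by omega) (by omega)) ha1 hε).symm).inv_left
      have ha1P : a1 ∈ P := hTp.loc A |>.le <| A.le_edge hb (nr 1 b (b - 1) (by omega) (by omega)).symm hTm ha1
      have hder : P ≤ normalizer ((⁅Qv p P, Qv p P⁆ : Subgroup X) : Set X) := fun z hz => mem_normalizer_of_cj (by
        rw [cj, map_commutator, ← cj, cj_eq_of_mem (hP.norm_core hz)])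
      have key : ⁅ε⁻¹, (g⁻¹ * x * g)⁻¹⁆ ∈ ⁅Qv p P, Qv p P⁆ := by
        rw [← hay, comm_mul_right, hεa, one_mul]
        exact conj_mem_of_le hder ha1P (commutator_mem_commutator (inv_mem hεQ) hy)
      have := conj_mem_of_le hder hg key
      rwa [show g * ⁅ε⁻¹, (g⁻¹ * x * g)⁻¹⁆ * g⁻¹ = εg⁻¹ * (x⁻¹ * εg * x) by
        simp [hεg, commutatorElement_def, mul_assoc]] at this
    have hk' := A.derived_centralizes hb h2b hT1 hvU hk
    have hD : ∀ {u : X}, u ∈ U → ⁅u, εg⁆ ∈ Zt P := fun hu => A.UU_comm hb h2b hT1 hu hεgQ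
    have e1 : ⁅x * v * x⁻¹, εg⁆ = ⁅v, εg⁆ := by
      rw [show ⁅x * v * x⁻¹, εg⁆ = x * ⁅v, εg * (εg⁻¹ * (x⁻¹ * εg * x))⁆ * x⁻¹ by
        simp [commutatorElement_def, mul_assoc], comm_mul_right, comm_eq_one hk'.symm, mul_one, mul_inv_cancel,
        mul_one, hcen (hD hvU) hxP, mul_inv_cancel_right]
    have e2 : ⁅x * v * x⁻¹, εg⁆ * ⁅v⁻¹, εg⁆ = 1 := by
      rw [e1]
      have := comm_mul_left v v⁻¹ εg
      rw [mul_inv_cancel, commutatorElement_one_left, hcen (hD (inv_mem hvU)) (hUP hvU),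
        mul_inv_cancel_right] at this
      rw [hcen (hD (inv_mem hvU)) (hUP (hD hvU |> fun h => hVU (hDV h))), ← this]
    rw [commutatorElement_def x v, comm_mul_left, hcen (hD (inv_mem hvU)) (hP.le hxT |> fun _ =>
      mul_mem (mul_mem hxP (hUP hvU)) (inv_mem hxP)), mul_inv_cancel_right,
      hcen (hD (conj_mem_of_le A.le_normalizer_UU hxP hvU)) (hUP (hVU (hDV (hD (inv_mem hvU)))))]
    exact e2
  -- invariance
  have hτinv : ⁅τ, εg⁆ = ⁅τ, ε⁆ := by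
    have h := ((hCmem τ).1 hτ).2 g⁻¹ (inv_mem hg)
    have hD : ⁅τ, ε⁆ ∈ Zt P := A.UU_comm hb h2b hT1 hτU hεQ
    rw [hεg, show ⁅τ, g * ε * g⁻¹⁆ = g * ⁅⁅g⁻¹, τ⁆ * τ, ε⁆ * g⁻¹ by
      simp [commutatorElement_def, mul_assoc], comm_mul_left,
      comm_eq_one (Vv_comm_Qv h hεQ).symm, mul_one, hcen hD (hP.le (hP.core_le (Vv_le_Qv p P h))),
      mul_inv_cancel_right, hcen hD hg, mul_inv_cancel_right]
  rw [← hv1eq, comm_mul_left, hnεg, mul_one, hτinv] at hv1εg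
  refine commutatorElement_eq_one_iff_mul_comm.1 ?_
  rw [← hv1eq, comm_mul_left, hnε, mul_one]
  exact hv1εg

end

end Cfsg.Lib.Local.PushingUp
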