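import Cfsg.Agent.Lib.Local.PushingUp.BTwoBase
import Cfsg.Agent.Lib.Local.PushingUp.BOne
import Cfsg.Agent.Lib.Local.PushingUp.Act
import Cfsg.Agent.Lib.Local.PushingUp.BigB

/-!
The case `b = 2`: the prime is `3` and the exponent is `9`.
-/

set_option autoImplicit false
set_option linter.style.haveILetI false
set_option maxHeartbeats 1000000

universe u

namespace Cfsg.Lib.Local.PushingUp

open Subgroup
open scoped commutatorElement

variable {X : Type u} [Group X]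

section
variable [Finite X] {T₀ P₀ Nm N R T' T2 U W C : Subgroup X} {g : X} {p q : ℕ} [Fact p.Prime]
  (A : Amalgam p q T₀ P₀) (hb : HasB p T₀ P₀ 2)
include A hb
variable (h : Two p q T₀ P₀ Nm N R T' T2 U W C g)
include h

theorem Two.U_pow {u : X} (hu : u ∈ U) : (p ≠ 2 → u ^ p = 1) ∧ u ^ p ∈ Zt P₀ := by
  have hQP : U ≤ P₀ := (h.U_le A hb).trans (Qv_le p P₀)
  have hD : ∀ d ∈ Zt P₀, d ^ p = 1 := fun d hd =>
    (h.eT.loc A).V_pow d ((h.eT.loc A).center_le_V (h.D_ZT A hb hd))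
  have hmul : ∀ {a c : X}, a ∈ U → c ∈ U → ∀ m : ℕ, (a * c) ^ m = a ^ m * c ^ m * ⁅c, a⁆ ^ m.choose 2 :=
    fun {a c} ha hc m => by
      have hz := h.U_comm A hb hc (h.U_le A hb ha)
      exact pow_mul_central rfl (mem_Zt_comm hz (hQP ha)).symm (mem_Zt_comm hz (hQP hc)).symm m
  have key : u ∈ U ∧ (p ≠ 2 → u ^ p = 1) ∧ u ^ p ∈ Zt P₀ := by
    have hu' : u ∈ ⨆ M : {M : Subgroup X // Adj T₀ P₀ P₀ M}, Vv p M.1 := by
      rw [h.U_def] at hu; exact hu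
    refine Subgroup.iSup_induction (C := fun z => z ∈ U ∧ (p ≠ 2 → z ^ p = 1) ∧ z ^ p ∈ Zt P₀) _ hu' ?_ ?_ ?_
    · intro M z hz
      have hzp : z ^ p = 1 := ((M.2.symm.choose_spec.1).loc A).V_pow z hz
      exact ⟨h.U_def ▸ Vv_le_UU M.2 hz, fun _ => hzp, hzp ▸ one_mem _⟩
    · exact ⟨one_mem _, fun _ => one_pow _, by rw [one_pow]; exact one_mem _⟩
    · rintro a c ⟨ha, ha1, ha2⟩ ⟨hc, hc1, hc2⟩
      have hz := h.U_comm A hb hc (h.U_le A hb ha)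
      refine ⟨mul_mem ha hc, fun hp => ?_, ?_⟩
      · obtain ⟨k, hk⟩ := Nat.Prime.dvd_choose_self (k := 2) (Fact.out : p.Prime) two_ne_zero
          (lt_of_le_of_ne (Fact.out : p.Prime).two_le (Ne.symm hp))
        rw [hmul ha hc, ha1 hp, hc1 hp, hk, pow_mul, hD _ hz, one_pow, mul_one, mul_one]
      · rw [hmul ha hc]
        exact mul_mem (mul_mem ha2 hc2) (pow_mem hz _)
  exact key.2

/-- `p = 2`: the action is quadratic. -/
theorem Two.quadratic_two (hp : p = 2) :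
    ∀ x ∈ Vv p R, ∀ x' ∈ Vv p R, ∀ a ∈ U, ⁅x', ⁅x, a⁆⁆ ∈ Zt P₀ := by
  intro x hx x' hx' a ha
  have hP := h.eT.loc A
  have hxT := h.R_T A hb hx
  by_cases hxQ : x ∈ Qv p P₀
  · have hd : ⁅x, a⁆ ∈ Zt P₀ := by
      rw [← commutatorElement_inv a x]; exact inv_mem (h.U_comm A hb ha hxQ)
    rw [comm_eq_one (mem_Zt_comm hd (hP.le (h.R_T A hb hx')))]
    exact one_mem _
  · set y := ⁅x, a⁆ with hy
    have hyW : y ∈ W := h.quad x hxT a ha
    have hxx : x * x = 1 := by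
      have := (h.eT2R.loc A).V_pow x hx
      rwa [hp, sq] at this
    have hxi : x⁻¹ = x := inv_eq_of_mul_eq_one_right hxx
    have e1 : x * y * x⁻¹ = y⁻¹ := by
      rw [hy, commutatorElement_def]
      calc x * (x * a * x⁻¹ * a⁻¹) * x⁻¹ = (x * x) * a * x⁻¹ * a⁻¹ * x⁻¹ := by group
        _ = a * x⁻¹ * a⁻¹ * x⁻¹ := by rw [hxx, one_mul]
        _ = a * x * a⁻¹ * x⁻¹ := by rw [hxi]
        _ = _ := by group
    have hxy : ⁅x, y⁆ ∈ Zt P₀ := by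
      rw [show ⁅x, y⁆ = x * y * x⁻¹ * y⁻¹ from commutatorElement_def _ _, e1]
      have := inv_mem (h.U_pow A hb (h.W_U A hb hyW)).2
      rw [hp, sq, mul_inv_rev] at this
      exact this
    obtain ⟨v, hv, hvR⟩ := h.lift y hyW
    have hsplit : ∀ z ∈ Vv p R, ⁅z, y⁆ = ⁅z, v⁆ := fun z hz => by
      conv_lhs => rw [show y = v * (v⁻¹ * y) by group]
      rw [comm_mul_right, comm_eq_one (hvR z hz), mul_one, mul_inv_cancel, mul_one]
    have hvZ := hP.fix x hxT hxQ v hv (hsplit x hx ▸ hxy)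
    rw [hsplit x' hx', comm_eq_one (mem_Zt_comm hvZ (h.R_T A hb hx'))]
    exact one_mem _

/-- Polarisation. -/
theorem Two.quadratic_of_sq (hp : p ≠ 2) (hsq : ∀ x ∈ Vv p R, ∀ a ∈ U, ⁅x, ⁅x, a⁆⁆ ∈ Zt P₀) :
    ∀ x ∈ Vv p R, ∀ x' ∈ Vv p R, ∀ a ∈ U, ⁅x', ⁅x, a⁆⁆ ∈ Zt P₀ := by
  intro x hx x' hx' a ha
  have hP := h.eT.loc A
  have hT : ∀ {z : X}, z ∈ Vv p R → z ∈ T₀ := fun hz => h.R_T A hb hz
  have hZc : ∀ {z t : X}, z ∈ Zt T₀ → t ∈ T₀ → t * z * t⁻¹ = z := fun hz ht => by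
    rw [mem_Zt_comm hz ht, mul_inv_cancel_right]
  set y := ⁅x, a⁆
  set y' := ⁅x', a⁆
  have hy : y ∈ W := h.quad x (hT hx) a ha
  have hy' : y' ∈ W := h.quad x' (hT hx') a ha
  have hyT := h.U_T A hb (h.W_U A hb hy)
  have hy'T := h.U_T A hb (h.W_U A hb hy')
  set z1 := ⁅x, y'⁆ with hz1
  set z2 := ⁅x', y⁆ with hz2
  have hz1T : z1 ∈ Zt T₀ := h.fix_R A hb hx hy'
  have hz2T : z2 ∈ Zt T₀ := h.fix_R A hb hx' hy
  have hxx' : x * x' = x' * x := Vv_comm_Qv hx' (Vv_le_Qv p R hx)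
  have e1 : ⁅x * x', a⁆ = z1 * y' * y := by
    rw [comm_mul_left, hz1, commutatorElement_def x y', inv_mul_cancel_right]
  have e2 : ⁅x' * x, a⁆ = z2 * y * y' := by
    rw [comm_mul_left, hz2, commutatorElement_def x' y, inv_mul_cancel_right]
  have hprod : z1 * z2 ∈ Zt P₀ := by
    have hm : x * x' ∈ Vv p R := mul_mem hx hx'
    have hs := hsq _ hm a ha
    rw [e1, mul_assoc z1, comm_mul_right, comm_eq_one (mem_Zt_comm hz1T (hT hm)), one_mul,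
      hZc (h.fix_T A hb (hT hm) (mul_mem hy' hy)) (Zt_le _ hz1T), comm_mul_right,
      hZc (h.fix_T A hb (hT hm) hy) hy'T, comm_mul_left, comm_mul_left x x' y,
      hZc (h.fix_R A hb hx' hy') (hT hx), hZc (h.fix_R A hb hx' hy) (hT hx)] at hs
    have s1 : ⁅x', y'⁆ ∈ Zt P₀ := hsq x' hx' a ha
    have s2 : ⁅x, y⁆ ∈ Zt P₀ := hsq x hx a ha
    have := mul_mem (mul_mem (inv_mem s1) hs) (inv_mem s2)
    rw [show ⁅x', y'⁆⁻¹ * (⁅x', y'⁆ * ⁅x, y'⁆ * (⁅x', y⁆ * ⁅x, y⁆)) * ⁅x, y⁆⁻¹ = z1 * z2 by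
      rw [hz1, hz2]; group] at this
    exact this
  have hd : ⁅y', y⁆ ∈ Zt P₀ := h.U_comm A hb (h.W_U A hb hy') (h.U_le A hb (h.W_U A hb hy))
  have hdiv : z1⁻¹ * z2 ∈ Zt P₀ := by
    rw [hxx', e2] at e1
    -- `z2 y y' = z1 y' y`
    have e3 : z1⁻¹ * z2 = y' * y * y'⁻¹ * y⁻¹ := by
      calc z1⁻¹ * z2 = z1⁻¹ * (z2 * y * y') * y'⁻¹ * y⁻¹ := by group
        _ = _ := by rw [e1]; group
    rw [e3, ← commutatorElement_def]
    exact hd
  have hsq2 : z2 ^ 2 ∈ Zt P₀ := by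
    have := mul_mem hprod hdiv
    rwa [mul_assoc, ← mul_assoc z2, show z2 * z1⁻¹ = z1⁻¹ * z2 from
      (mem_Zt_comm (inv_mem hz1T) (Zt_le _ hz2T)), mul_assoc z1⁻¹, ← mul_assoc, mul_inv_cancel, one_mul,
      ← sq] at this
  have hzp : z2 ^ p = 1 := hP.V_pow _ (hP.center_le_V hz2T)
  have hodd : p % 2 = 1 := (Fact.out : p.Prime).eq_two_or_odd.resolve_left hp
  rw [show z2 = (z2 ^ 2) ^ ((p + 1) / 2) by
    rw [← pow_mul, show 2 * ((p + 1) / 2) = p + 1 by omega, pow_succ, hzp, one_mul]]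
  exact pow_mem hsq2 _

theorem Two.W_edge (a : X) (ha : a ∈ cj g W) (t : X) (ht : t ∈ T') : ⁅t, a⁆ ∈ C := by
  rw [← h.g_edge] at ht
  obtain ⟨a, ha, rfl⟩ := ha
  obtain ⟨t, ht, rfl⟩ := ht
  show ⁅g * t * g⁻¹, g * a * g⁻¹⁆ ∈ C
  rw [comm_conj]
  exact conj_mem_of_le h.C_norm h.g_mem (h.V_C (h.fixW t ht a ha))

theorem Two.split_U : ∀ a ∈ U, ∃ w ∈ W, ∃ w' ∈ cj g W, w * w' = a := by
  intro a ha
  obtain ⟨-, e⟩ := h.gen g h.g_mem (by
    show T₀ ⊔ cj g T₀ = P₀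
    rw [h.g_edge, h.g_gen])
  have hn : W ≤ normalizer (cj g W : Set X) := fun w hw => mem_normalizer_fintype fun z hz => by
    have hzU : z ∈ U := (e ▸ le_sup_right : cj g W ≤ U) hz
    have h1 := h.U_comm A hb (h.W_U A hb hw) (h.U_le A hb hzU)
    have h2 : ⁅w, z⁆ ∈ cj g W := by
      have hC : ⁅w, z⁆ ∈ C := h.V_C ((h.eT.loc A).center_le_V (h.D_ZT A hb h1))
      rw [← cj_eq_of_mem (h.C_norm h.g_mem)] at hC
      exact cj_mono h.C_W hC
    have := mul_mem h2 hz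
    rwa [commutatorElement_def, inv_mul_cancel_right] at this
  exact (Cfsg.Lib.Core.mem_sup_of_le_normalizer hn).1 (e.ge ha)

/-- `p ≥ 5`: the square vanishes. -/
theorem Two.sq_five (hp : 5 ≤ p) : ∀ x ∈ Vv p R, ∀ a ∈ U, ⁅x, ⁅x, a⁆⁆ ∈ Zt P₀ := by
  intro x hx a₀ ha₀
  have hP := h.eT.loc A
  have hxT := h.R_T A hb hx
  have hxP := hP.le hxT
  by_cases hxQ : x ∈ Qv p P₀
  · have hd : ⁅x, a₀⁆ ∈ Zt P₀ := by
      rw [← commutatorElement_inv a₀ x]; exact inv_mem (h.U_comm A hb ha₀ hxQ)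
    rw [comm_eq_one (mem_Zt_comm hd hxP)]
    exact one_mem _
  have hp2 : p ≠ 2 := by omega
  have hgen : T₀ ⊔ T₀.map (MulAut.conj g).toMonoidHom = P₀ := by
    show T₀ ⊔ cj g T₀ = P₀
    rw [h.g_edge, h.g_gen]
  obtain ⟨y, hy, hline, hk⟩ := hP.braid g h.g_mem hgen x hxT hxQ
  have hyT' : y ∈ T' := h.g_edge ▸ hy
  have hyP : y ∈ P₀ := (h.eT'.loc A).le hyT'
  obtain ⟨r, hr⟩ : ∃ r, r * 2 % p = 1 := ⟨(p + 1) / 2, by
    have hodd : p % 2 = 1 := (Fact.out : p.Prime).eq_two_or_odd.resolve_left hp2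
    rw [show (p + 1) / 2 * 2 = p + 1 by omega, Nat.add_mod_left, Nat.one_mod_eq_one]
    omega⟩
  have h11 : 1 * 1 % p = 1 := by rw [Nat.one_mod_eq_one.2 (by omega)]
  have hUP : U ≤ P₀ := (h.U_le A hb).trans (Qv_le p P₀)
  have hUn := h.U_norm A hb
  have hUU : ∀ {B : Subgroup X}, Zt P₀ ≤ B → ⁅U, U⁆ ≤ B := fun hB => commutator_le.2 fun a ha c hc =>
    hB (h.U_comm A hb ha (h.U_le A hb hc))
  have hDV : Zt P₀ ≤ Vv p P₀ := (h.D_ZT A hb).trans hP.center_le_V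
  have hCU : C ≤ U := h.C_W.trans (h.W_U A hb)
  have hDn : P₀ ≤ normalizer (Zt P₀ : Set X) := fun s hs => mem_normalizer_fintype fun d hd => by
    rw [mem_Zt_comm hd hs, mul_inv_cancel_right]; exact hd
  -- lines of the centre
  have hVline := fun {a c : X} (ha : a ∈ P₀) (hc : c ∈ P₀) (hne : cj a T₀ ⊔ cj c T₀ ≠ P₀) =>
    hP.same_line A.one_lt hP.norm_V hDn (h.D_ZT A hb) hP.center_le_V hP.index_D hP.index_center
      hP.gen ha hc hne
  have hUline := fun {a c : X} (ha : a ∈ P₀) (hc : c ∈ P₀) (hne : cj a T₀ ⊔ cj c T₀ ≠ P₀) =>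
    hP.same_line A.one_lt hUn h.C_norm h.C_W (h.W_U A hb) h.C_idx h.W_idx h.gen ha hc hne
  -- the modules
  obtain ⟨M, iM, m, ρ, hm, hmadd, hm0, hρ⟩ := exists_module hUn hDn ((h.D_ZT A hb).trans
    (hP.center_le_V.trans (h.V_C.trans hCU))) hUP (hUU le_rfl)
  obtain ⟨M₁, iM₁, m₁, ρ₁, hm₁, hm₁add, hm₁0, hρ₁⟩ := exists_module hUn h.C_norm hCU hUP
    (hUU (hDV.trans h.V_C))
  obtain ⟨M₂, iM₂, m₂, ρ₂, hm₂, hm₂add, hm₂0, hρ₂⟩ := exists_module hP.norm_V hDn hDV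
    ((Vv_le_Qv p P₀).trans (Qv_le p P₀)) (commutator_le.2 fun a ha c hc => by
      rw [comm_eq_one (A.comm_vV (P := P₀) ⟨_, h.eT⟩ ha hc)]; exact one_mem _)
  set gx : ↥P₀ := ⟨x, hxP⟩
  set gy : ↥P₀ := ⟨y, hyP⟩
  set hh : ↥P₀ := gx ^ 2 * gy ^ r * gx ^ 2 * (gx * gy * gx) with hhh
  have hhc : (hh : X) = x ^ 2 * y ^ r * x ^ 2 * (x * y * x) := rfl
  -- the action on a natural section
  have natural : ∀ {H V B Wl : Subgroup X}, P₀ ≤ normalizer (H : Set X) → P₀ ≤ normalizer (B : Set X) →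
      B ≤ Wl → Wl ≤ H → ∀ {M' : Type u} [AddCommGroup M'] (μ : ↥H → M') (θ : ↥P₀ →* AddMonoid.End M'),
      (∀ a c : ↥H, μ (a * c) = μ a + μ c) → (∀ a : ↥H, μ a = 0 ↔ (a : X) ∈ B) →
      (∀ (s : ↥P₀) (a c : ↥H), (c : X) = (s : X) * (a : X) * (s : X)⁻¹ → θ s (μ a) = μ c) →
      Function.Surjective μ → (∀ v : ↥H, (v : X) ^ p ∈ B) →
      (∀ t ∈ T₀, ∀ a ∈ Wl, ⁅t, a⁆ ∈ B) → (∀ t ∈ T₀, ∀ a ∈ H, ⁅t, a⁆ ∈ Wl) →
      (Wl ⊓ cj g Wl ≤ B) →
      (∀ {a c : X}, a ∈ P₀ → c ∈ P₀ → cj a T₀ ⊔ cj c T₀ ≠ P₀ → cj a Wl = cj c Wl) →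
      ∀ a : ↥H, (a : X) ∈ cj g Wl →
        θ hh (μ a) = -(r • μ a) ∧
        θ hh (θ gx (μ a) - μ a) = -(2 • (θ gx (μ a) - μ a)) := by
    intro H V B Wl hHn hBn hBW hWH M' _ μ θ hμadd hμ0 hθ hμ hexp hfix hq hdisj hl a ha
    have μinj : ∀ a c : ↥H, μ a = μ c → ((a : X) * (c : X)⁻¹) ∈ B := fun a c e => by
      have h2 : μ (a * c⁻¹) + μ c = μ a := by rw [← hμadd]; simp
      rw [e, add_eq_right] at h2
      exact (hμ0 _).1 h2
    have hpM : ∀ v : M', p • v = 0 := fun v => by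
      obtain ⟨a, rfl⟩ := hμ v
      have hpow : ∀ k : ℕ, μ (a ^ k) = k • μ a := by
        intro k
        induction k with
        | zero => rw [pow_zero, zero_nsmul]; exact (hμ0 1).2 (one_mem _)
        | succ k ih => rw [pow_succ, hμadd, ih, succ_nsmul]
      rw [← hpow, hμ0, SubmonoidClass.coe_pow]
      exact hexp a
    have hμ1 : μ 1 = 0 := (hμ0 1).2 (one_mem _)
    have hμinv : ∀ a : ↥H, μ a⁻¹ = -μ a := fun a =>
      eq_neg_of_add_eq_zero_left (by rw [← hμadd, inv_mul_cancel, hμ1])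
    let inW : M' → Prop := fun v => ∃ c : ↥H, (c : X) ∈ Wl ∧ μ c = v
    let inW' : M' → Prop := fun v => ∃ c : ↥H, (c : X) ∈ cj g Wl ∧ μ c = v
    have hsub : ∀ (L : Subgroup X) {v w : M'}, (∃ c : ↥H, (c : X) ∈ L ∧ μ c = v) →
        (∃ c : ↥H, (c : X) ∈ L ∧ μ c = w) → ∃ c : ↥H, (c : X) ∈ L ∧ μ c = v + w := by
      rintro L _ _ ⟨c, hc, rfl⟩ ⟨d, hd, rfl⟩
      exact ⟨c * d, mul_mem hc hd, hμadd c d⟩
    have hsubn : ∀ (L : Subgroup X) (i : ℕ) {v : M'}, (∃ c : ↥H, (c : X) ∈ L ∧ μ c = v) →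
        ∃ c : ↥H, (c : X) ∈ L ∧ μ c = i • v := by
      intro L i v hv
      induction i with
      | zero => exact ⟨1, one_mem _, by rw [hμ1, zero_nsmul]⟩
      | succ i ih => rw [succ_nsmul]; exact hsub L ih hv
    have hact : ∀ (s : ↥P₀) (c : ↥H), ∃ e : ↥H, (e : X) = ⁅(s : X), (c : X)⁆ ∧ θ s (μ c) - μ c = μ e := by
      intro s c
      refine ⟨⟨⁅(s : X), (c : X)⁆, comm_mem_of_le hHn s.2 c.2⟩, rfl, ?_⟩
      rw [hθ s c ⟨(s : X) * c * (s : X)⁻¹, conj_mem_of_le hHn s.2 c.2⟩ rfl, sub_eq_iff_eq_add, ← hμadd]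
      exact congrArg μ (Subtype.ext (by simp [commutatorElement_def]))
    have hWcj : cj g Wl ≤ H := (cj_mono hWH).trans (cj_eq_of_mem (hHn h.g_mem)).le
    have hqy : ∀ c ∈ H, ⁅y, c⁆ ∈ cj g Wl := fun c hc => by
      have hy' : g⁻¹ * y * g ∈ T₀ := mem_cj.1 (by rw [h.g_edge]; exact hyT')
      have := conj_mem_cj (g := g) (hq _ hy' (g⁻¹ * c * g⁻¹⁻¹) (conj_mem_of_le hHn (inv_mem h.g_mem) hc))
      rwa [← comm_conj, show g * (g⁻¹ * y * g) * g⁻¹ = y by group,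
        show g * (g⁻¹ * c * g⁻¹⁻¹) * g⁻¹ = c by group] at this
    have hfy : ∀ c ∈ cj g Wl, ⁅y, c⁆ ∈ B := by
      rintro _ ⟨c, hc, rfl⟩
      have hy' : g⁻¹ * y * g ∈ T₀ := mem_cj.1 (by rw [h.g_edge]; exact hyT')
      have := conj_mem_of_le hBn h.g_mem (hfix _ hy' c hc)
      rwa [← comm_conj, show g * (g⁻¹ * y * g) * g⁻¹ = y by group] at this
    have step : ∀ r' s' : ℕ, r' * s' % p = 1 →
        (θ (gx ^ s' * gy ^ r' * gx ^ s')) (μ a) = s' • (θ gx (μ a) - μ a) ∧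
        (θ (gx ^ s' * gy ^ r' * gx ^ s')) (θ gx (μ a) - μ a) = -(r' • μ a) := by
      intro r' s' hrs
      rw [map_mul, map_mul, map_pow, map_pow]
      refine braid_action hpM (θ gx) (θ gy) inW inW' (fun _ _ => hsub Wl) (fun i _ => hsubn Wl i)
        (fun v hv => ?_) (fun _ _ => hsub _) (fun i _ => hsubn _ i) (fun v hv hv' => ?_) ?_ ?_ ?_ ?_ hrs ?_
        ⟨a, ha, rfl⟩
      · obtain ⟨c, hc, rfl⟩ := hv
        exact ⟨c⁻¹, inv_mem hc, hμinv c⟩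
      · obtain ⟨c, hc, rfl⟩ := hv
        obtain ⟨d, hd, e⟩ := hv'
        have hdc := μinj c d e.symm
        refine (hμ0 c).2 (hdisj ⟨hc, ?_⟩)
        have : (c : X) = (c : X) * (d : X)⁻¹ * d := by group
        rw [this]
        refine mul_mem ?_ hd
        rw [← cj_eq_of_mem (hBn h.g_mem)] at hdc
        exact cj_mono hBW hdc
      · rintro v ⟨c, hc, rfl⟩
        obtain ⟨e, he, he'⟩ := hact gx c
        exact sub_eq_zero.1 (he'.trans ((hμ0 e).2 (he ▸ hfix x hxT c hc)))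
      · rintro v ⟨c, hc, rfl⟩
        obtain ⟨e, he, he'⟩ := hact gy c
        exact sub_eq_zero.1 (he'.trans ((hμ0 e).2 (he ▸ hfy c hc)))
      · intro v
        obtain ⟨c, rfl⟩ := hμ v
        obtain ⟨e, he, he'⟩ := hact gx c
        exact ⟨e, he ▸ hq x hxT c c.2, he'.symm⟩
      · intro v
        obtain ⟨c, rfl⟩ := hμ v
        obtain ⟨e, he, he'⟩ := hact gy c
        exact ⟨e, he ▸ hqy c c.2, he'.symm⟩
      · rintro v ⟨c, hc, rfl⟩
        set w : ↥P₀ := gx ^ s' * gy ^ r' * gx ^ s' with hw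
        have hwg : cj ((w : X) * g) Wl = Wl := by
          have hne := (hline r' s' hrs).2
          have := hl (mul_mem w.2 h.g_mem) (one_mem P₀) (by
            rw [cj_one]
            exact hne)
          rwa [cj_one] at this
        refine ⟨⟨(w : X) * c * (w : X)⁻¹, conj_mem_of_le hHn w.2 c.2⟩, ?_, ?_⟩
        · rw [← hwg, ← cj_cj]
          exact conj_mem_cj hc
        · rw [← hθ w c ⟨(w : X) * c * (w : X)⁻¹, conj_mem_of_le hHn w.2 c.2⟩ rfl, hw, map_mul, map_mul,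
            map_pow, map_pow]
    have s1 := step 1 1 h11
    have s2 := step r 2 hr
    rw [pow_one, pow_one] at s1
    refine ⟨?_, ?_⟩
    · rw [hhh, map_mul, AddMonoid.End.coe_mul, Function.comp_apply, s1.1, one_nsmul, s2.2]
    · rw [hhh, map_mul, AddMonoid.End.coe_mul, Function.comp_apply, s1.2, one_nsmul, map_neg, s2.1]
  -- the two sections
  have natU := natural (V := U) hUn h.C_norm h.C_W (h.W_U A hb) m₁ ρ₁ hm₁add hm₁0 hρ₁ hm₁
    (fun v => by rw [(h.U_pow A hb v.2).1 hp2]; exact one_mem _) (fun t ht a ha => h.V_C (h.fixW t ht a ha))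
    h.quad (h.gen g h.g_mem hgen).1.le (fun ha hc hne => hUline ha hc hne)
  have natV := natural (V := U) hP.norm_V hDn (h.D_ZT A hb) hP.center_le_V m₂ ρ₂ hm₂add hm₂0 hρ₂ hm₂
    (fun v => by rw [hP.V_pow _ v.2]; exact one_mem _)
    (fun t ht a ha => by rw [comm_eq_one (mem_Zt_comm ha ht)]; exact one_mem _)
    (fun t ht a ha => A.quad hb h.eT ha ht) (hP.gen g h.g_mem hgen).1.le
    (fun ha hc hne => hVline ha hc hne)
  -- transfer into `M`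
  have hVU : Vv p P₀ ≤ U := h.V_C.trans hCU
  let ι : ↥(Vv p P₀) → ↥U := fun v => ⟨v, hVU v.2⟩
  have minj : ∀ a c : ↥U, m a = m c ↔ ((a : X) * (c : X)⁻¹) ∈ Zt P₀ := fun a c => by
    rw [← Subgroup.coe_inv, ← Subgroup.coe_mul, ← hm0]
    have h2 : m (a * c⁻¹) + m c = m a := by rw [← hmadd]; simp
    exact ⟨fun e => by rwa [e, add_eq_right] at h2, fun e => by rw [e, zero_add] at h2; exact h2.symm⟩
  have hm1 : m 1 = 0 := (hm0 1).2 (one_mem _)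
  have hmpow : ∀ (a : ↥U) (k : ℕ), m (a ^ k) = k • m a := fun a k => by
    induction k with
    | zero => rw [pow_zero, zero_nsmul, hm1]
    | succ k ih => rw [pow_succ, hmadd, ih, succ_nsmul]
  have hpM : ∀ v : M, p • v = 0 := fun v => by
    obtain ⟨a, rfl⟩ := hm v
    rw [← hmpow, hm0, SubmonoidClass.coe_pow, (h.U_pow A hb a.2).1 hp2]
    exact one_mem _
  have hcomm : ∀ (s : ↥P₀) (a : ↥U), ρ s (m a) - m a =
      m ⟨⁅(s : X), (a : X)⁆, comm_mem_of_le hUn s.2 a.2⟩ := fun s a => by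
    rw [hρ s a ⟨(s : X) * a * (s : X)⁻¹, conj_mem_of_le hUn s.2 a.2⟩ rfl, sub_eq_iff_eq_add, ← hmadd]
    exact congrArg m (Subtype.ext (by simp [commutatorElement_def]))
  set δ : AddMonoid.End M := ρ gx - 1 with hδ
  have hδap : ∀ a : ↥U, δ (m a) = m ⟨⁅x, (a : X)⁆, comm_mem_of_le hUn hxP a.2⟩ := fun a => hcomm gx a
  have hδW : ∀ a : ↥U, (a : X) ∈ W → ∃ z : ↥U, (z : X) ∈ Zt T₀ ∧ δ (m a) = m z := fun a ha =>
    ⟨_, h.fix_R A hb hx ha, hδap a⟩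
  have hδZ : ∀ z : ↥U, (z : X) ∈ Zt T₀ → δ (m z) = 0 := fun z hz => by
    rw [hδap, hm0]
    show ⁅x, (z : X)⁆ ∈ Zt P₀
    rw [comm_eq_one (mem_Zt_comm hz hxT)]
    exact one_mem _
  have hδ3 : δ ^ 3 = 0 := AddMonoidHom.ext fun v => by
    obtain ⟨a, rfl⟩ := hm v
    show δ (δ (δ (m a))) = 0
    obtain ⟨z, hz, e⟩ := hδW ⟨⁅x, (a : X)⁆, comm_mem_of_le hUn hxP a.2⟩ (h.quad x hxT a a.2)
    rw [hδap a, e, hδZ z hz]
  -- the difference between `h x h⁻¹` and `x ^ 4` acts trivially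
  set kk : ↥P₀ := hh * gx * hh⁻¹ * (gx ^ 4)⁻¹ with hkk
  have hC4 : ∀ {M' : Type u} [AddCommGroup M'] (θ : ↥P₀ →* AddMonoid.End M') (v : M'),
      θ gx (θ gx v - v) = θ gx v - v →
      θ hh v = -(r • v) → θ hh (θ gx v - v) = -(2 • (θ gx v - v)) → p • (θ gx v - v) = 0 →
      θ (hh * gx * hh⁻¹) (θ hh v) = θ (gx ^ 4) (θ hh v) ∧
        θ (hh * gx * hh⁻¹) (θ hh (θ gx v - v)) = θ (gx ^ 4) (θ hh (θ gx v - v)) := by
    intro M' _ θ v hfix hv hdv hpd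
    set d := θ gx v - v
    have hpow : ∀ k : ℕ, θ (gx ^ k) v = v + k • d := by
      intro k
      induction k with
      | zero => rw [pow_zero, map_one, zero_nsmul, add_zero]; rfl
      | succ k ih =>
        rw [pow_succ', map_mul, AddMonoid.End.coe_mul, Function.comp_apply, ih, map_add, map_nsmul, hfix,
          succ_nsmul]
        simp only [d]
        abel
    have hdk : ∀ k : ℕ, θ (gx ^ k) d = d := by
      intro k
      induction k with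
      | zero => rw [pow_zero, map_one]; rfl
      | succ k ih => rw [pow_succ', map_mul, AddMonoid.End.coe_mul, Function.comp_apply, ih, hfix]
    have hconj : ∀ w, θ (hh * gx * hh⁻¹) (θ hh w) = θ hh (θ gx w) := fun w => by
      rw [← Function.comp_apply (f := θ (hh * gx * hh⁻¹)), ← AddMonoid.End.coe_mul, ← map_mul,
        inv_mul_cancel_right, map_mul, AddMonoid.End.coe_mul, Function.comp_apply]
    refine ⟨?_, ?_⟩
    · rw [hconj, show θ gx v = v + d by simp [d], map_add, hv, hdv, map_neg, map_nsmul, hpow, nsmul_add,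
        ← mul_nsmul', neg_add, natCast_smul_mod hpd (i := r * 4) (j := 2) (by
          rw [show r * 4 = r * 2 * 2 by ring, Nat.mul_mod, hr, one_mul, Nat.mod_mod])]
    · rw [hconj, hfix, hdv, map_neg, map_nsmul, hdk]
  have hkfix : ∀ {M' : Type u} [AddCommGroup M'] (θ : ↥P₀ →* AddMonoid.End M') (v : M'),
      θ (hh * gx * hh⁻¹) v = θ (gx ^ 4) v → θ kk (θ (gx ^ 4) v) = θ (gx ^ 4) v := fun θ v e => by
    rw [← Function.comp_apply (f := θ kk), ← AddMonoid.End.coe_mul, ← map_mul, hkk, inv_mul_cancel_right, e]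
  -- `kk` is trivial on `U / C`
  have hk1 : ∀ v : M₁, ρ₁ kk v = v := by
    suffices heq : ∀ v : M₁, ρ₁ (hh * gx * hh⁻¹) v = ρ₁ (gx ^ 4) v by
      intro v
      have := hkfix ρ₁ (ρ₁ (gx ^ 4)⁻¹ v) (heq _)
      rwa [← Function.comp_apply (f := ρ₁ (gx ^ 4)), ← AddMonoid.End.coe_mul, ← map_mul, mul_inv_cancel,
        map_one] at this
    intro v
    obtain ⟨v', rfl⟩ : ∃ v', ρ₁ hh v' = v := ⟨ρ₁ hh⁻¹ v, by
      rw [← Function.comp_apply (f := ρ₁ hh), ← AddMonoid.End.coe_mul, ← map_mul, mul_inv_cancel, map_one]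
      rfl⟩
    obtain ⟨a, rfl⟩ := hm₁ v'
    obtain ⟨w, hw, w', hw', hww⟩ := h.split_U A hb a a.2
    have hw'U : w' ∈ U := (cj_mono (h.W_U A hb)).trans (cj_eq_of_mem (hUn h.g_mem)).le hw'
    have hwU := h.W_U A hb hw
    rw [show a = ⟨w, hwU⟩ * ⟨w', hw'U⟩ from Subtype.ext hww.symm, hm₁add, map_add, map_add, map_add]
    have base : ∀ c : ↥U, (c : X) ∈ cj g W →
        ρ₁ (hh * gx * hh⁻¹) (ρ₁ hh (m₁ c)) = ρ₁ (gx ^ 4) (ρ₁ hh (m₁ c)) ∧
        ρ₁ (hh * gx * hh⁻¹) (ρ₁ hh (ρ₁ gx (m₁ c) - m₁ c)) =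
          ρ₁ (gx ^ 4) (ρ₁ hh (ρ₁ gx (m₁ c) - m₁ c)) := by
      intro c hc
      obtain ⟨n1, n2⟩ := natU c hc
      have e : ρ₁ gx (m₁ c) - m₁ c = m₁ ⟨⁅x, (c : X)⁆, comm_mem_of_le hUn hxP c.2⟩ := by
        rw [hρ₁ gx c ⟨x * c * x⁻¹, conj_mem_of_le hUn hxP c.2⟩ rfl, sub_eq_iff_eq_add, ← hm₁add]
        exact congrArg m₁ (Subtype.ext (by simp [commutatorElement_def]))
      refine hC4 ρ₁ _ ?_ n1 n2 ?_
      · rw [e, hρ₁ gx _ ⟨x * ⁅x, (c : X)⁆ * x⁻¹, conj_mem_of_le hUn hxP (comm_mem_of_le hUn hxP c.2)⟩ rfl]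
        have hz : (⟨⁅x, ⁅x, (c : X)⁆⁆, comm_mem_of_le hUn hxP (comm_mem_of_le hUn hxP c.2)⟩ : ↥U).1 ∈ C :=
          h.V_C (h.fixW x hxT _ (h.quad x hxT c c.2))
        have := (hm₁0 _).2 hz
        rw [← add_right_cancel_iff (a := -m₁ ⟨⁅x, (c : X)⁆, comm_mem_of_le hUn hxP c.2⟩), add_neg_cancel,
          ← this, ← sub_eq_add_neg, sub_eq_iff_eq_add, ← hm₁add]
        exact congrArg m₁ (Subtype.ext (by
          show x * ⁅x, (c : X)⁆ * x⁻¹ = ⁅x, ⁅x, (c : X)⁆⁆ * ⁅x, (c : X)⁆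
          rw [commutatorElement_def x ⁅x, (c : X)⁆, inv_mul_cancel_right]))
      · rw [e]
        have hpow : ∀ (k : ℕ) (b : ↥U), m₁ (b ^ k) = k • m₁ b := by
          intro k b
          induction k with
          | zero => rw [pow_zero, zero_nsmul]; exact (hm₁0 1).2 (one_mem _)
          | succ k ih => rw [pow_succ, hm₁add, ih, succ_nsmul]
        rw [← hpow, hm₁0, SubmonoidClass.coe_pow, (h.U_pow A hb (comm_mem_of_le hUn hxP c.2)).1 hp2]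
        exact one_mem _
    congr 1
    · -- an element of `W` is a commutator
      have honto := A.module_onto hb h.eT hUP h.V_C h.C_W (h.W_U A hb) h.C_idx h.W_idx h.C_norm
        (fun b hb' c hc => h.V_C (hDV (h.U_comm A hb hb' (h.U_le A hb hc)))) hxT hxQ (h.sec x hxT hxQ)
        (fun b hb' => h.V_C (h.fixW x hxT b hb')) (h.quad x hxT)
      obtain ⟨b, hb', c, hc, hbc⟩ := honto w hw
      obtain ⟨b1, hb1, b2, hb2, rfl⟩ := h.split_U A hb b hb'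
      have hb2U : b2 ∈ U := (cj_mono (h.W_U A hb)).trans (cj_eq_of_mem (hUn h.g_mem)).le hb2
      have e : m₁ ⟨w, hwU⟩ = ρ₁ gx (m₁ ⟨b2, hb2U⟩) - m₁ ⟨b2, hb2U⟩ := by
        rw [hρ₁ gx ⟨b2, hb2U⟩ ⟨x * b2 * x⁻¹, conj_mem_of_le hUn hxP hb2U⟩ rfl, eq_sub_iff_add_eq, ← hm₁add]
        have hC1 : ⁅x, b1⁆ * (b1 * ⁅x, b2⁆ * b1⁻¹) * c = w := by rw [← hbc, comm_mul_right]
        have key : w * b2 * (x * b2 * x⁻¹)⁻¹ ∈ C := by
          have h1 : ⁅x, b1⁆ ∈ C := h.V_C (h.fixW x hxT b1 hb1)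
          have h2 : b1 * ⁅x, b2⁆ * b1⁻¹ * ⁅x, b2⁆⁻¹ ∈ C := by
            rw [← commutatorElement_def]
            exact h.V_C (hDV (h.U_comm A hb (h.W_U A hb hb1) (h.U_le A hb (comm_mem_of_le hUn hxP hb2U))))
          rw [← hC1, show (x * b2 * x⁻¹)⁻¹ = b2⁻¹ * ⁅x, b2⁆⁻¹ by simp [commutatorElement_def, mul_assoc],
            show ⁅x, b1⁆ * (b1 * ⁅x, b2⁆ * b1⁻¹) * c * b2 * (b2⁻¹ * ⁅x, b2⁆⁻¹) =
              ⁅x, b1⁆ * (b1 * ⁅x, b2⁆ * b1⁻¹ * ⁅x, b2⁆⁻¹) * (⁅x, b2⁆ * c * ⁅x, b2⁆⁻¹) by group]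
          exact mul_mem (mul_mem h1 h2)
            (conj_mem_of_le (hUP.trans h.C_norm) (comm_mem_of_le hUn hxP hb2U) hc)
        have h0 : m₁ (⟨w, hwU⟩ * ⟨b2, hb2U⟩ * ⟨x * b2 * x⁻¹, conj_mem_of_le hUn hxP hb2U⟩⁻¹) = 0 :=
          (hm₁0 _).2 key
        have h1 := hm₁add (⟨w, hwU⟩ * ⟨b2, hb2U⟩ * ⟨x * b2 * x⁻¹, conj_mem_of_le hUn hxP hb2U⟩⁻¹)
          ⟨x * b2 * x⁻¹, conj_mem_of_le hUn hxP hb2U⟩
        rw [h0, zero_add, inv_mul_cancel_right] at h1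
        exact h1
      rw [e]
      exact (base ⟨b2, hb2U⟩ hb2).2
    · exact (base ⟨w', hw'U⟩ hw').1
  have hk2 : ∀ v : M₂, ρ₂ kk v = v := by
    suffices heq : ∀ v : M₂, ρ₂ (hh * gx * hh⁻¹) v = ρ₂ (gx ^ 4) v by
      intro v
      have := hkfix ρ₂ (ρ₂ (gx ^ 4)⁻¹ v) (heq _)
      rwa [← Function.comp_apply (f := ρ₂ (gx ^ 4)), ← AddMonoid.End.coe_mul, ← map_mul, mul_inv_cancel,
        map_one] at this
    intro v
    obtain ⟨v', rfl⟩ : ∃ v', ρ₂ hh v' = v := ⟨ρ₂ hh⁻¹ v, by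
      rw [← Function.comp_apply (f := ρ₂ hh), ← AddMonoid.End.coe_mul, ← map_mul, mul_inv_cancel, map_one]
      rfl⟩
    obtain ⟨a, rfl⟩ := hm₂ v'
    have hVsplit : ∀ b ∈ Vv p P₀, ∃ w ∈ Zt T₀, ∃ w' ∈ cj g (Zt T₀), w * w' = b := fun b hb' => by
      refine (Cfsg.Lib.Core.mem_sup_of_le_normalizer ?_).1 ((hP.gen g h.g_mem hgen).2.ge hb')
      intro w hw
      refine mem_normalizer_fintype fun z hz => ?_
      have hzV : z ∈ Vv p P₀ := (cj_mono hP.center_le_V).trans (cj_eq_of_mem (hP.norm_V h.g_mem)).le hz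
      rw [A.comm_vV (P := P₀) ⟨_, h.eT⟩ (hP.center_le_V hw) hzV, mul_inv_cancel_right]
      exact hz
    obtain ⟨w, hw, w', hw', hww⟩ := hVsplit a a.2
    have hwV := hP.center_le_V hw
    have hw'V : w' ∈ Vv p P₀ := (cj_mono hP.center_le_V).trans (cj_eq_of_mem (hP.norm_V h.g_mem)).le hw'
    rw [show a = ⟨w, hwV⟩ * ⟨w', hw'V⟩ from Subtype.ext hww.symm, hm₂add, map_add, map_add, map_add]
    have e2 : ∀ c : ↥(Vv p P₀), ρ₂ gx (m₂ c) - m₂ c =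
        m₂ ⟨⁅x, (c : X)⁆, comm_mem_of_le hP.norm_V hxP c.2⟩ := fun c => by
      rw [hρ₂ gx c ⟨x * c * x⁻¹, conj_mem_of_le hP.norm_V hxP c.2⟩ rfl, sub_eq_iff_eq_add, ← hm₂add]
      exact congrArg m₂ (Subtype.ext (by simp [commutatorElement_def]))
    have base : ∀ c : ↥(Vv p P₀), (c : X) ∈ cj g (Zt T₀) →
        ρ₂ (hh * gx * hh⁻¹) (ρ₂ hh (m₂ c)) = ρ₂ (gx ^ 4) (ρ₂ hh (m₂ c)) ∧
        ρ₂ (hh * gx * hh⁻¹) (ρ₂ hh (ρ₂ gx (m₂ c) - m₂ c)) =
          ρ₂ (gx ^ 4) (ρ₂ hh (ρ₂ gx (m₂ c) - m₂ c)) := by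
      intro c hc
      obtain ⟨n1, n2⟩ := natV c hc
      refine hC4 ρ₂ _ ?_ n1 n2 ?_
      · refine sub_eq_zero.1 ?_
        rw [e2, e2]
        refine (hm₂0 _).2 ?_
        show ⁅x, ⁅x, (c : X)⁆⁆ ∈ Zt P₀
        rw [comm_eq_one (mem_Zt_comm (A.quad hb h.eT c.2 hxT) hxT)]
        exact one_mem _
      · rw [e2]
        have hpow : ∀ (k : ℕ) (b : ↥(Vv p P₀)), m₂ (b ^ k) = k • m₂ b := by
          intro k b
          induction k with
          | zero => rw [pow_zero, zero_nsmul]; exact (hm₂0 1).2 (one_mem _)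
          | succ k ih => rw [pow_succ, hm₂add, ih, succ_nsmul]
        rw [← hpow, hm₂0, SubmonoidClass.coe_pow, hP.V_pow _ (comm_mem_of_le hP.norm_V hxP c.2)]
        exact one_mem _
    congr 1
    · obtain ⟨b, hb', d, hd, hbd⟩ := A.quad_onto hb h.eT hxT hxQ hw
      obtain ⟨b1, hb1, b2, hb2, rfl⟩ := hVsplit b hb'
      have hb2V : b2 ∈ Vv p P₀ := (cj_mono hP.center_le_V).trans (cj_eq_of_mem (hP.norm_V h.g_mem)).le hb2
      have e : m₂ ⟨w, hwV⟩ = ρ₂ gx (m₂ ⟨b2, hb2V⟩) - m₂ ⟨b2, hb2V⟩ := by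
        have hq := A.quad hb h.eT hb2V hxT
        have hw2 : w = ⁅x, b2⁆ * d := by
          rw [← hbd, comm_mul_right, comm_eq_one (mem_Zt_comm hb1 hxT), one_mul,
            mem_Zt_comm hq (Zt_le _ hb1), mul_inv_cancel_right]
        rw [e2, show (⟨w, hwV⟩ : ↥(Vv p P₀)) = ⟨⁅x, b2⁆, comm_mem_of_le hP.norm_V hxP hb2V⟩ * ⟨d, hDV hd⟩
          from Subtype.ext hw2, hm₂add, (hm₂0 ⟨d, hDV hd⟩).2 hd, add_zero]
      rw [e]
      exact (base ⟨b2, hb2V⟩ hb2).2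
    · exact (base ⟨w', hw'V⟩ hw').1
  -- so its `p`-th power centralises `U / D`
  have hkC : ∀ a : ↥U, ⁅(kk : X), (a : X)⁆ ∈ C := fun a => by
    have := hk1 (m₁ a)
    rw [hρ₁ kk a ⟨(kk : X) * a * (kk : X)⁻¹, conj_mem_of_le hUn kk.2 a.2⟩ rfl] at this
    have h1 := hm₁add ⟨⁅(kk : X), (a : X)⁆, comm_mem_of_le hUn kk.2 a.2⟩ a
    rw [show (⟨⁅(kk : X), (a : X)⁆, comm_mem_of_le hUn kk.2 a.2⟩ * a : ↥U) =
      ⟨(kk : X) * a * (kk : X)⁻¹, conj_mem_of_le hUn kk.2 a.2⟩ from Subtype.ext (by simp [commutatorElement_def]),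
      this, right_eq_add] at h1
    exact (hm₁0 _).1 h1
  have hkD : ∀ v : ↥(Vv p P₀), ⁅(kk : X), (v : X)⁆ ∈ Zt P₀ := fun a => by
    have := hk2 (m₂ a)
    rw [hρ₂ kk a ⟨(kk : X) * a * (kk : X)⁻¹, conj_mem_of_le hP.norm_V kk.2 a.2⟩ rfl] at this
    have h1 := hm₂add ⟨⁅(kk : X), (a : X)⁆, comm_mem_of_le hP.norm_V kk.2 a.2⟩ a
    rw [show (⟨⁅(kk : X), (a : X)⁆, comm_mem_of_le hP.norm_V kk.2 a.2⟩ * a : ↥(Vv p P₀)) =
      ⟨(kk : X) * a * (kk : X)⁻¹, conj_mem_of_le hP.norm_V kk.2 a.2⟩ from Subtype.ext (by simp [commutatorElement_def]),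
      this, right_eq_add] at h1
    exact (hm₂0 _).1 h1
  set η : AddMonoid.End M := ρ kk - 1 with hη
  have hηap : ∀ a : ↥U, η (m a) = m ⟨⁅(kk : X), (a : X)⁆, comm_mem_of_le hUn kk.2 a.2⟩ := fun a => hcomm kk a
  have hη3 : η ^ 3 = 0 := AddMonoidHom.ext fun v => by
    obtain ⟨a, rfl⟩ := hm v
    show η (η (η (m a))) = 0
    rw [hηap, hηap, hηap, hm0]
    exact hkD ⟨_, ((h.C_mem _).1 (hkC a)).2 _ kk.2⟩
  have hkp : ρ (kk ^ p) = 1 := by
    rw [map_pow, show ρ kk = 1 + η by rw [hη]; abel]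
    exact pow_prime_eq_one Fact.out hp2 hpM η hη3
  let Nk : Subgroup ↥P₀ := ρ.ker
  let Ns : Subgroup X := Nk.map P₀.subtype
  have hNs : P₀ ≤ normalizer (Ns : Set X) := fun s hs => mem_normalizer_fintype fun z hz => by
    obtain ⟨z, hz, rfl⟩ := hz
    exact ⟨⟨s, hs⟩ * z * ⟨s, hs⟩⁻¹, (MonoidHom.normal_ker ρ).conj_mem z hz _, rfl⟩
  have hQN : Qv p P₀ ≤ Ns := fun z hz => by
    refine ⟨⟨z, Qv_le p P₀ hz⟩, ?_, rfl⟩
    refine AddMonoidHom.ext fun v => ?_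
    obtain ⟨a, rfl⟩ := hm v
    show ρ ⟨z, Qv_le p P₀ hz⟩ (m a) = m a
    rw [← sub_eq_zero, hcomm, hm0]
    show ⁅z, (a : X)⁆ ∈ Zt P₀
    rw [← commutatorElement_inv (a : X) z]
    exact inv_mem (h.U_comm A hb a.2 hz)
  have hk0 : ρ kk = 1 := by
    have hmem := hk r hr Ns hNs hQN (map_subtype_le _) ⟨kk ^ p, hkp, rfl⟩
    obtain ⟨z, hz, he⟩ := hmem
    rwa [show kk = z from Subtype.ext he.symm]
  -- the computation
  obtain ⟨w, hw, a', ha', rfl⟩ := h.split_U A hb a₀ ha₀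
  have ha'U : a' ∈ U := (cj_mono (h.W_U A hb)).trans (cj_eq_of_mem (hUn h.g_mem)).le ha'
  have hwU := h.W_U A hb hw
  have hgoal : δ (δ (m ⟨a', ha'U⟩)) = 0 := by
    obtain ⟨n1, -⟩ := natU ⟨a', ha'U⟩ ha'
    have hconj : ρ hh * ρ gx = ρ (gx ^ 4) * ρ hh := by
      have e : kk * gx ^ 4 * hh = hh * gx := by rw [hkk]; group
      rw [← map_mul ρ hh, ← map_mul ρ (gx ^ 4), ← e, mul_assoc, map_mul ρ kk, hk0, one_mul]
    have hA4 : ρ (gx ^ 4) - 1 = 4 • δ + 6 • δ ^ 2 := by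
      rw [map_pow, show ρ gx = 1 + δ by rw [hδ]; abel]
      have e1 : ∀ k : ℕ, (1 + δ) ^ k = 1 + k • δ + k.choose 2 • δ ^ 2 := by
        intro k
        induction k with
        | zero => simp
        | succ k ih =>
          rw [pow_succ, ih, show (k + 1).choose 2 = k.choose 2 + k by
            rw [Nat.choose_succ_succ', Nat.choose_one_right, add_comm]]
          have e : δ ^ 2 * δ = 0 := by rw [← pow_succ, hδ3]
          simp only [mul_add, add_mul, mul_one, one_mul, smul_mul_assoc, e, add_zero, succ_nsmul,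
            add_nsmul, ← pow_two]
          rw [show k.choose 2 • (0 : AddMonoid.End M) = 0 from smul_zero _]
          abel
      rw [e1, show Nat.choose 4 2 = 6 from rfl]
      abel
    have hsq : (ρ (gx ^ 4) - 1) * (ρ (gx ^ 4) - 1) = 16 • δ ^ 2 := by
      have e3 : δ * δ ^ 2 = 0 := by rw [← pow_succ', hδ3]
      have e3' : δ ^ 2 * δ = 0 := by rw [← pow_succ, hδ3]
      have e4 : δ ^ 2 * δ ^ 2 = 0 := by rw [pow_two, ← mul_assoc, ← pow_two, e3', zero_mul]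
      rw [hA4, add_mul, mul_add, mul_add]
      simp only [smul_mul_assoc, mul_smul_comm, smul_smul, e3, e3', e4, smul_zero, add_zero]
      rw [show (6 * 4) • (0 : AddMonoid.End M) = 0 from smul_zero _, show (4 * 6) • (0 : AddMonoid.End M) = 0 from smul_zero _, show (6 * 6) • (0 : AddMonoid.End M) = 0 from smul_zero _, add_zero, add_zero, ← pow_two, pow_two δ]
      norm_num
    have hh1 : ρ hh * δ = (ρ (gx ^ 4) - 1) * ρ hh := by
      rw [hδ, mul_sub, hconj, sub_mul, mul_one, one_mul]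
    have hmain : ρ hh * δ ^ 2 = 16 • δ ^ 2 * ρ hh := by
      rw [pow_two, ← mul_assoc, hh1, mul_assoc, hh1, ← mul_assoc, hsq, ← pow_two]
    -- `h` on `a'`
    obtain ⟨c, hc, hcc⟩ : ∃ c : ↥U, (c : X) ∈ C ∧ ρ hh (m ⟨a', ha'U⟩) = -(r • m ⟨a', ha'U⟩) + m c := by
      set e' : ↥U := ⟨(hh : X) * a' * (hh : X)⁻¹, conj_mem_of_le hUn hh.2 ha'U⟩ with he'
      rw [hρ₁ hh ⟨a', ha'U⟩ e' rfl] at n1
      refine ⟨⟨a', ha'U⟩ ^ r * e', ?_, ?_⟩
      · have hp1 : ∀ k : ℕ, m₁ (⟨a', ha'U⟩ ^ k) = k • m₁ ⟨a', ha'U⟩ := by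
          intro k
          induction k with
          | zero => rw [pow_zero, zero_nsmul]; exact (hm₁0 1).2 (one_mem _)
          | succ k ih => rw [pow_succ, hm₁add, ih, succ_nsmul]
        refine (hm₁0 _).1 ?_
        rw [hm₁add, hp1, n1, add_neg_cancel]
      · rw [hρ hh ⟨a', ha'U⟩ e' rfl, hmadd, hmpow]
        abel
    -- `δ²` of `a'`
    obtain ⟨z, hz, hzz⟩ := hδW ⟨⁅x, a'⁆, comm_mem_of_le hUn hxP ha'U⟩ (h.quad x hxT a' ha'U)
    rw [← hδap ⟨a', ha'U⟩] at hzz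
    have hzV := hP.center_le_V hz
    -- `h` on `Z(T)`
    have hhz : ρ hh (m z) = -(2 • m z) := by
      obtain ⟨b, hb', d, hd, hbd⟩ := A.quad_onto hb h.eT hxT hxQ hz
      obtain ⟨b1, hb1, b2, hb2, rfl⟩ : ∃ b1 ∈ Zt T₀, ∃ b2 ∈ cj g (Zt T₀), b1 * b2 = b := by
        refine (Cfsg.Lib.Core.mem_sup_of_le_normalizer ?_).1 ((hP.gen g h.g_mem hgen).2.ge hb')
        intro w' hw'
        refine mem_normalizer_fintype fun z' hz' => ?_
        have hzV' : z' ∈ Vv p P₀ := (cj_mono hP.center_le_V).trans (cj_eq_of_mem (hP.norm_V h.g_mem)).le hz'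
        rw [A.comm_vV (P := P₀) ⟨_, h.eT⟩ (hP.center_le_V hw') hzV', mul_inv_cancel_right]
        exact hz'
      have hb2V : b2 ∈ Vv p P₀ := (cj_mono hP.center_le_V).trans (cj_eq_of_mem (hP.norm_V h.g_mem)).le hb2
      obtain ⟨-, n2⟩ := natV ⟨b2, hb2V⟩ hb2
      have hq := A.quad hb h.eT hb2V hxT
      have hz2 : (z : X) = ⁅x, b2⁆ * d := by
        rw [← hbd, comm_mul_right, comm_eq_one (mem_Zt_comm hb1 hxT), one_mul,
          mem_Zt_comm hq (Zt_le _ hb1), mul_inv_cancel_right]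
      set e1 : ↥(Vv p P₀) := ⟨⁅x, b2⁆, comm_mem_of_le hP.norm_V hxP hb2V⟩
      have he1 : ρ₂ gx (m₂ ⟨b2, hb2V⟩) - m₂ ⟨b2, hb2V⟩ = m₂ e1 := by
        rw [hρ₂ gx ⟨b2, hb2V⟩ ⟨x * b2 * x⁻¹, conj_mem_of_le hP.norm_V hxP hb2V⟩ rfl, sub_eq_iff_eq_add,
          ← hm₂add]
        exact congrArg m₂ (Subtype.ext (by simp [e1, commutatorElement_def]))
      set e2 : ↥(Vv p P₀) := ⟨(hh : X) * ⁅x, b2⁆ * (hh : X)⁻¹, conj_mem_of_le hP.norm_V hh.2 e1.2⟩
      rw [he1, hρ₂ hh e1 e2 rfl] at n2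
      have hmem : (e2 : X) * (e1 : X) * (e1 : X) ∈ Zt P₀ := by
        refine (hm₂0 (e2 * e1 * e1)).1 ?_
        rw [hm₂add, hm₂add, n2, two_nsmul]; abel
      have h1 : m (ι e2) + m (ι e1) + m (ι e1) = 0 := by
        rw [← hmadd, ← hmadd]; exact (hm0 _).2 hmem
      have h2 : m z = m (ι e1) := (minj z (ι e1)).2 (by
        show (z : X) * (⁅x, b2⁆)⁻¹ ∈ Zt P₀
        rw [hz2, mem_Zt_comm hd (hP.le (Zt_le _ hq)), mul_inv_cancel_right]
        exact hd)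
      rw [h2, hρ hh (ι e1) (ι e2) rfl, two_nsmul]
      refine eq_neg_of_add_eq_zero_left ?_
      rw [← h1, add_assoc]
    have happ := congrArg (fun f : AddMonoid.End M => f (m ⟨a', ha'U⟩)) hmain
    simp only [AddMonoid.End.coe_mul, Function.comp_apply, pow_two] at happ
    have hr16 : ∀ v : M, (16 • (δ * δ) : AddMonoid.End M) v = 16 • δ (δ v) := fun v => rfl
    obtain ⟨zc, hzc, hcz⟩ := hδW c (h.C_W hc)
    rw [hr16, hcc, map_add δ, map_add δ, map_neg δ, map_neg δ, map_nsmul δ, map_nsmul δ, hzz, hhz, hcz,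
      hδZ zc hzc, add_zero] at happ
    -- `12 z = 0`
    have h2z : ((r * 2) • m z : M) = m z := by
      conv_rhs => rw [← one_nsmul (m z)]
      exact natCast_smul_mod (hpM _) (by rw [hr, Nat.one_mod_eq_one.2 (by omega)])
    have h12 : 12 • m z = 0 := by
      have h4 := congrArg (fun v : M => 2 • v) happ
      simp only [smul_neg, smul_smul] at h4
      rw [show 2 * (16 * r) = 16 * (r * 2) by ring, mul_smul 16 (r * 2), h2z, neg_inj] at h4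
      rw [show (2 * 2) • m z = 4 • m z from rfl] at h4
      have h5 : (16 : ℕ) • m z = 12 • m z + 4 • m z := by rw [← add_nsmul]
      rw [h5, right_eq_add] at h4
      exact h4
    rw [hzz]
    have hco : Nat.Coprime 12 p := by
      have h2 : Nat.Coprime 2 p := (Nat.coprime_primes Nat.prime_two Fact.out).2 (Ne.symm hp2)
      have h3 : Nat.Coprime 3 p := (Nat.coprime_primes Nat.prime_three Fact.out).2 (by omega)
      exact (Nat.Coprime.mul_left (Nat.Coprime.mul_left h2 h2) h3)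
    exact AddMonoid.addOrderOf_eq_one_iff.1 (Nat.eq_one_of_dvd_coprimes hco
      (addOrderOf_dvd_of_nsmul_eq_zero h12) (addOrderOf_dvd_of_nsmul_eq_zero (hpM _)))
  -- back in the group
  have hw0 : δ (δ (m ⟨w, hwU⟩)) = 0 := by
    obtain ⟨z, hz, e⟩ := hδW ⟨w, hwU⟩ hw
    rw [e, hδZ z hz]
  have hall : δ (δ (m (⟨w, hwU⟩ * ⟨a', ha'U⟩))) = 0 := by
    rw [hmadd, map_add, map_add, hw0, hgoal, add_zero]
  rw [hδap, hδap, hm0] at hall
  exact hall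

/-- The prime is `3`. -/
theorem Two.prime_eq : p = 3 := by
  by_contra hp3
  refine h.not_quadratic A hb ?_
  by_cases hp2 : p = 2
  · exact h.quadratic_two A hb hp2
  · refine h.quadratic_of_sq A hb hp2 (h.sq_five A hb ?_)
    have := (Fact.out : p.Prime).two_le
    have h4 : p ≠ 4 := fun e => by subst e; exact absurd (Fact.out : Nat.Prime 4) (by norm_num)
    omega

/-- A power formula. -/
theorem Two.cube (hp : p = 3) {x y : X} (hx : x ∈ Vv p R) (hy : y ∈ Qv p P₀) :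
    ∃ z ∈ Zt P₀, (x * y) ^ 3 = ⁅x, ⁅x, y⁆⁆ * z * y ^ 3 ∧ ⁅x, ⁅x, y⁆⁆ ∈ Zt T₀ ∧ (x * y) ^ 9 = y ^ 9 := by
  have hP := h.eT.loc A
  have hxT := h.R_T A hb hx
  have hyT := hP.core_le hy
  set w := ⁅x, y⁆ with hw
  have hwW : w ∈ W := by
    obtain ⟨v, hv, r, hr, rfl⟩ := h.cover_Q A hb y hy
    have hvU : v ∈ U := h.U_def ▸ Vv_le_UU ⟨T', h.eT', h.eT'm⟩ hv
    rw [hw, comm_mul_right]
    refine mul_mem (h.quad x hxT v hvU) ?_
    rw [mem_Zt_comm (h.ZN_le A hb (h.star_R A hb hx hr.2)) (h.U_T A hb hvU), mul_inv_cancel_right]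
    exact h.C_W (h.V_C (hP.center_le_V (h.ZN_le A hb (h.star_R A hb hx hr.2))))
  have hwU := h.W_U A hb hwW
  have hwT := h.U_T A hb hwU
  set d := ⁅x, w⁆ with hd
  have hdT : d ∈ Zt T₀ := h.fix_R A hb hx hwW
  set z := ⁅y, w⁆ with hz
  have hzD : z ∈ Zt P₀ := by
    rw [hz, ← commutatorElement_inv w y]; exact inv_mem (h.U_comm A hb hwU hy)
  have hx3 : x ^ 3 = 1 := by
    have := (h.eT2R.loc A).V_pow x hx
    rwa [hp] at this
  have hw3 : w ^ 3 = 1 := by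
    have := (h.U_pow A hb hwU).1 (by omega)
    rwa [hp] at this
  have c1 : ∀ t ∈ T₀, Commute d t := fun t ht => (mem_Zt_comm hdT ht).symm
  have c2 : ∀ t ∈ P₀, Commute z t := fun t ht => (mem_Zt_comm hzD ht).symm
  have hyw : y * w = z * (w * y) := by simp [hz, commutatorElement_def, mul_assoc]
  have e1 : x * y * x⁻¹ = w * y := by simp [hw, commutatorElement_def, mul_assoc]
  have e2 : x * (x * y * x⁻¹) * x⁻¹ = d * w * (w * y) := by
    rw [e1, show x * (w * y) * x⁻¹ = (x * w * x⁻¹) * (x * y * x⁻¹) by group, e1,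
      show x * w * x⁻¹ = d * w by simp [hd, commutatorElement_def, mul_assoc]]
  have hwP : w ∈ P₀ := hP.le hwT
  have hyP : y ∈ P₀ := hP.le hyT
  have hcube : (x * y) ^ 3 = d * z ^ 2 * y ^ 3 := by
    calc (x * y) ^ 3 = (x * y * x⁻¹) * (x * (x * y * x⁻¹) * x⁻¹) * (x ^ 3 * y * (x ^ 3)⁻¹) * x ^ 3 := by
          simp [pow_succ, mul_assoc]
      _ = w * y * (d * w * (w * y)) * y := by rw [e1, ← e1, e2, hx3]; simp [e1]
      _ = d * (w * (y * w) * w * y * y) := by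
          rw [show w * y * (d * w * (w * y)) * y = (w * y * d) * (w * w * y * y) by group,
            ← (c1 _ (mul_mem hwT hyT)).eq]
          group
      _ = d * (z * (w * w * (y * w) * y * y)) := by
          conv_lhs => rw [hyw]
          rw [show w * (z * (w * y)) * w * y * y = (w * z) * (w * y * w * y * y) by group, ← (c2 w hwP).eq]
          group
      _ = d * (z * (w * w * (z * (w * y)) * y * y)) := by rw [hyw]
      _ = d * (z * (z * (w ^ 3 * y ^ 3))) := by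
          rw [show w * w * (z * (w * y)) * y * y = (w * w * z) * (w * y * y * y) by group,
            ← (c2 _ (mul_mem hwP hwP)).eq]
          simp [pow_succ, mul_assoc]
      _ = _ := by rw [hw3, pow_two]; group
  refine ⟨z ^ 2, pow_mem hzD 2, hcube, hdT, ?_⟩
  have hzT : z ^ 2 ∈ Zt T₀ := h.D_ZT A hb (pow_mem hzD 2)
  have hm : d * z ^ 2 ∈ Zt T₀ := mul_mem hdT hzT
  rw [show (9 : ℕ) = 3 * 3 from rfl, pow_mul, hcube,
    (show Commute (d * z ^ 2) (y ^ 3) from (mem_Zt_comm hm (pow_mem hyT 3)).symm).mul_pow, ← pow_mul]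
  have : (d * z ^ 2) ^ 3 = 1 := by
    have := hP.V_pow _ (hP.center_le_V hm)
    rwa [hp] at this
  rw [this, one_mul]

/-- The exponent is `9`. -/
theorem Two.exponent (hp : p = 3) : (∀ t ∈ T₀, t ^ 9 = 1) ∧ ∃ t ∈ T₀, t ^ 3 ≠ 1 := by
  have hP := h.eT.loc A
  constructor
  · set L : Subgroup X := Subgroup.closure ((fun t => t ^ 9) '' (T₀ : Set X)) with hL
    have hinv : ∀ {H : Subgroup X} {s : X}, s ∈ normalizer (H : Set X) →
        cj s (Subgroup.closure ((fun t => t ^ 9) '' (H : Set X))) =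
          Subgroup.closure ((fun t => t ^ 9) '' (H : Set X)) := by
      intro H s hs
      rw [cj, MonoidHom.map_closure, Set.image_image]
      conv_rhs => rw [← cj_eq_of_mem hs, cj, coe_map, Set.image_image]
      simp only [map_pow]
    have hL' : L = Subgroup.closure ((fun t => t ^ 9) '' (Qv p P₀ : Set X)) := by
      rw [hL]
      congr 1
      ext v
      constructor
      · rintro ⟨t, ht, rfl⟩
        obtain ⟨x, hx, y, hy, rfl⟩ := h.cover_T A hb t ht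
        obtain ⟨z, -, -, -, e⟩ := h.cube A hb hp hx hy
        exact ⟨y, hy, e.symm⟩
      · rintro ⟨t, ht, rfl⟩
        exact ⟨t, hP.core_le ht, rfl⟩
    have hL0 : L = ⊥ := A.free L
      ((closure_le _).2 (by rintro _ ⟨t, ht, rfl⟩; exact pow_mem ht 9))
      (fun s hs => mem_normalizer_of_cj (by rw [hL']; exact hinv (hP.norm_core hs)))
      (fun s hs => mem_normalizer_of_cj (hinv hs))
    exact fun t ht => mem_bot.1 (hL0.le (subset_closure ⟨t, ht, rfl⟩))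
  · by_contra hall
    push Not at hall
    refine h.not_quadratic A hb (h.quadratic_of_sq A hb (by omega) fun x hx a ha => ?_)
    have hQ := h.U_le A hb ha
    obtain ⟨z, hz, e, -, -⟩ := h.cube A hb hp hx hQ
    rw [hall _ (mul_mem (h.R_T A hb hx) (h.U_T A hb ha)), hall _ (h.U_T A hb ha), mul_one] at e
    rw [eq_inv_of_mul_eq_one_left e.symm]
    exact inv_mem hz

end

end Cfsg.Lib.Local.PushingUp
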