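import Cfsg.Agent.Lib.Local.PushingUp.Graph

/-!
In a natural section the fixed line depends only on the class of the Sylow subgroup.
-/

set_option autoImplicit false
set_option linter.style.haveILetI false

namespace Cfsg.Lib.Local.PushingUp

open Subgroup

variable {X : Type*} [Group X] [Finite X] {T P U W C : Subgroup X} {p q : ℕ}

theorem LocalData.conj_gen (hP : LocalData p q T P) {a c : X} (ha : a ∈ P) (hc : c ∈ P) :
    cj a T ⊔ cj c T = P ↔ T ⊔ cj (a⁻¹ * c) T = P := by
  have hfix : ∀ {z : X}, z ∈ P → cj z P = P := fun hz => cj_centralizer_le hz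
  constructor <;> intro e
  · have := congrArg (cj a⁻¹) e
    rwa [cj_sup, cj_inv_cj, cj_cj, hfix (inv_mem ha)] at this
  · have := congrArg (cj a) e
    rwa [cj_sup, cj_cj, mul_inv_cancel_left, hfix ha] at this

/-- Same class, same line. -/
theorem LocalData.same_line (hP : LocalData p q T P) (hq : 1 < q) (hUn : P ≤ normalizer (U : Set X))
    (hCn : P ≤ normalizer (C : Set X)) (hCW : C ≤ W) (hWU : W ≤ U) (hC : C.relIndex U = q * q)
    (hW : W.relIndex U = q)
    (hgen : ∀ g ∈ P, T ⊔ T.map (MulAut.conj g).toMonoidHom = P →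
      W ⊓ W.map (MulAut.conj g).toMonoidHom = C ∧ W ⊔ W.map (MulAut.conj g).toMonoidHom = U)
    {a c : X} (ha : a ∈ P) (hc : c ∈ P) (hne : cj a T ⊔ cj c T ≠ P) : cj a W = cj c W := by
  classical
  obtain ⟨lab, hsurj, hlab⟩ := hP.label
  choose rep hrepP hrep using hsurj
  have hsub : ∀ z ∈ P, cj z W ≤ U ∧ C ≤ cj z W := fun z hz => by
    refine ⟨(cj_mono hWU).trans (cj_eq_of_mem (hUn hz)).le, ?_⟩
    conv_lhs => rw [← cj_eq_of_mem (hCn hz)]
    exact cj_mono hCW
  have hdisj : ∀ z ∈ P, ∀ z' ∈ P, lab z ≠ lab z' → cj z W ⊓ cj z' W ≤ C := by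
    intro z hz z' hz' hl x hx
    have hgen' := (hgen _ (mul_mem (inv_mem hz) hz') ((hP.conj_gen hz hz').1 ((hlab z hz z' hz').1 hl))).1
    rw [← cj_eq_of_mem (hCn hz)]
    refine cj_mono (hgen'.le) ?_
    rw [show W.map (MulAut.conj (z⁻¹ * z')).toMonoidHom = cj (z⁻¹ * z') W from rfl, cj, map_inf_eq _ _ _
      (MulAut.conj z).injective, ← cj, ← cj, cj_cj, mul_inv_cancel_left]
    exact hx
  -- the lines cover everything
  have hcover : ∀ x ∈ U, x ∉ C → ∃ o, x ∈ cj (rep o) W := by
    let A := fun o : Option (Fin q) => {x : X // x ∈ cj (rep o) W ∧ x ∉ C}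
    let f : (Σ o, A o) → {x : X // x ∈ U ∧ x ∉ C} := fun z =>
      ⟨z.2.1, (hsub _ (hrepP z.1)).1 z.2.2.1, z.2.2.2⟩
    have hf : Function.Injective f := by
      rintro ⟨o, x, hx⟩ ⟨o', x', hx'⟩ e
      obtain rfl : x = x' := congrArg Subtype.val e
      obtain rfl : o = o' := by
        by_contra ho
        exact hx.2 (hdisj _ (hrepP o) _ (hrepP o') (by rwa [hrep, hrep]) ⟨hx.1, hx'.1⟩)
      rfl
    have hcount : ∀ {H : Subgroup X}, C ≤ H →
        Nat.card {x : X // x ∈ H ∧ x ∉ C} = Nat.card C * (C.relIndex H - 1) := by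
      intro H hH
      have e1 : Nat.card {x : X // x ∈ H ∧ x ∉ C} = ((H : Set X) \ (C : Set X)).ncard := rfl
      rw [e1, Set.ncard_sdiff (fun x hx => hH hx) (Set.toFinite _), Nat.mul_sub, mul_one,
        Cfsg.Lib.Core.card_mul_relIndex hH]
      rfl
    have hCW' : ∀ o, C.relIndex (cj (rep o) W) = q := fun o => by
      have e : C.relIndex (cj (rep o) W) = C.relIndex W := by
        conv_lhs => rw [← cj_eq_of_mem (hCn (hrepP o))]
        exact relIndex_map_map_of_injective _ _ (MulAut.conj (rep o)).injective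
      have hm := relIndex_mul_relIndex C W U hCW hWU
      rw [hW, hC] at hm
      rw [e]
      exact Nat.eq_of_mul_eq_mul_right (lt_trans Nat.one_pos hq) hm
    have hcard : Nat.card {x : X // x ∈ U ∧ x ∉ C} ≤ Nat.card (Σ o, A o) := by
      rw [Nat.card_sigma, hcount (hCW.trans hWU), hC]
      refine le_of_eq ?_
      rw [Finset.sum_congr rfl (fun o _ => (hcount (hsub _ (hrepP o)).2).trans (by rw [hCW' o])),
        Finset.sum_const, Finset.card_univ, Fintype.card_option, Fintype.card_fin, smul_eq_mul]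
      obtain ⟨m, rfl⟩ : ∃ m, q = m + 1 := ⟨q - 1, by omega⟩
      rw [show (m + 1) * (m + 1) - 1 = (m + 1 + 1) * m by
        rw [show (m + 1) * (m + 1) = (m + 1 + 1) * m + 1 by ring, Nat.add_sub_cancel], Nat.add_sub_cancel]
      ring
    intro x hxU hxC
    obtain ⟨⟨o, z⟩, hz⟩ := ((Nat.bijective_iff_injective_and_card f).2
      ⟨hf, le_antisymm (Nat.card_le_card_of_injective f hf) hcard⟩).2 ⟨x, hxU, hxC⟩
    have e : z.1 = x := congrArg Subtype.val hz
    exact ⟨o, e ▸ z.2.1⟩
  -- each line is the representative of its class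
  have hline : ∀ z ∈ P, cj z W = cj (rep (lab z)) W := by
    intro z hz
    refine eq_of_le_of_card_ge (fun x hx => ?_) (le_of_eq (by
      rw [cj, cj, card_map_of_injective (MulAut.conj (rep (lab z))).injective,
        card_map_of_injective (MulAut.conj z).injective]))
    by_cases hxC : x ∈ C
    · exact (hsub _ (hrepP _)).2 hxC
    · obtain ⟨o, ho⟩ := hcover x ((hsub z hz).1 hx) hxC
      obtain rfl : o = lab z := by
        by_contra ho'
        exact hxC (hdisj _ (hrepP o) z hz (by rwa [hrep]) ⟨ho, hx⟩)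
      exact ho
  rw [hline a ha, hline c hc, not_not.1 fun hl => hne ((hlab a ha c hc).1 hl)]

end Cfsg.Lib.Local.PushingUp
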