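import Cfsg.Agent.Lib.Local.PushingUp.UModule
import Cfsg.Agent.Lib.Local.PushingUp.Lines

/-!
The configuration of the case `b = 2`, and the commutator structure of the edge group.
-/

set_option autoImplicit false
set_option linter.style.haveILetI false

namespace Cfsg.Lib.Local.PushingUp

open Subgroup
open scoped commutatorElement

variable {X : Type*} [Group X]

/-- Four consecutive vertices `N', P₀, N, R`. -/
structure Two (p q : ℕ) (T₀ P₀ : Subgroup X) (Nm N R T' T2 U W C : Subgroup X) (g : X) : Prop where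
  crit1 : Crit p T₀ P₀ 2 Nm N
  crit2 : Crit p T₀ P₀ 2 P₀ R
  eT'm : Edge T₀ P₀ T' Nm
  eT' : Edge T₀ P₀ T' P₀
  eT : Edge T₀ P₀ T₀ P₀
  eTN : Edge T₀ P₀ T₀ N
  eT2N : Edge T₀ P₀ T2 N
  eT2R : Edge T₀ P₀ T2 R
  g_mem : g ∈ P₀
  g_edge : cj g T₀ = T'
  g_gen : T₀ ⊔ T' = P₀
  U_def : U = UU p T₀ P₀ P₀
  W_def : W = U ⊓ Qv p N
  C_norm : P₀ ≤ normalizer (C : Set X)
  V_C : Vv p P₀ ≤ C
  C_W : C ≤ W
  C_mem : ∀ a, a ∈ C ↔ a ∈ U ∧ ∀ g ∈ P₀, ⁅g, a⁆ ∈ Vv p P₀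
  C_idx : C.relIndex U = q * q
  W_idx : W.relIndex U = q
  sec : ∀ u ∈ T₀, u ∉ Qv p P₀ → ∀ a ∈ U, ⁅u, a⁆ ∈ C → a ∈ W
  gen : ∀ g ∈ P₀, T₀ ⊔ T₀.map (MulAut.conj g).toMonoidHom = P₀ →
    W ⊓ W.map (MulAut.conj g).toMonoidHom = C ∧ W ⊔ W.map (MulAut.conj g).toMonoidHom = U
  quad : ∀ t ∈ T₀, ∀ a ∈ U, ⁅t, a⁆ ∈ W
  lift : ∀ a ∈ W, ∃ v ∈ Vv p P₀, ∀ x ∈ Vv p R, x * (v⁻¹ * a) = (v⁻¹ * a) * x
  cover : ∀ a ∈ U, ∃ v ∈ Vv p Nm, ∃ w ∈ W, v * w = a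
  fixW : ∀ t ∈ T₀, ∀ a ∈ W, ⁅t, a⁆ ∈ Vv p P₀

section
variable [Finite X] {T₀ P₀ Nm N R T' T2 U W C : Subgroup X} {g : X} {p q : ℕ} [Fact p.Prime]
  (A : Amalgam p q T₀ P₀) (hb : HasB p T₀ P₀ 2)
include A hb

omit A hb in
theorem Track.conj' {b m : ℕ} {f e : ℕ → Subgroup X} (h : Track p T₀ P₀ b f e m) (z : X) :
    Track p T₀ P₀ b (fun i => cj z (f i)) (fun i => cj z (e i)) m where
  edge := fun i hi => ⟨(h.edge i hi).1.conj z, (h.edge i hi).2.conj z⟩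
  crit := fun i hi => ⟨(h.crit i hi).1.conj z, fun hle => (h.crit i hi).2 (by
    rw [← cj_Vv, ← cj_Qv] at hle
    have := cj_mono (g := z⁻¹) hle
    rwa [cj_inv_cj, cj_inv_cj] at this)⟩
  gen := fun i hi => by rw [← cj_sup, h.gen i hi]
  moved := fun i hi hle => h.moved i hi fun x hx => mem_normalizer_of_cj (by
    have := cj_eq_of_mem (hle (conj_mem_cj (g := z) hx))
    rw [← cj_Vv, ← cj_Vv, ← cj_sup, cj_cj, show z * x * z⁻¹ * z = z * x by group, ← cj_cj] at this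
    have := congrArg (cj z⁻¹) this
    rwa [cj_inv_cj, cj_inv_cj] at this)

theorem Amalgam.exists_two : ∃ (Nm N R T' T2 U W C : Subgroup X) (g : X),
    Two p q T₀ P₀ Nm N R T' T2 U W C g := by
  obtain ⟨f', e', tr'⟩ := A.exists_track hb le_rfl 1
  obtain ⟨z, hzT, hzP⟩ := (tr'.edge 1 (by omega)).1.trans (Edge.base (T₀ := T₀) (P₀ := P₀))
  obtain ⟨f, e, tr, he1, hf1⟩ : ∃ f e, Track p T₀ P₀ 2 f e 1 ∧ e 1 = T₀ ∧ f 1 = P₀ :=
    ⟨_, _, tr'.conj' z, hzT, hzP⟩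
  have h0 := tr.edge 0 (by omega)
  have h1 := tr.edge 1 (by omega)
  have h2 := tr.edge 2 (by omega)
  rw [he1] at h1
  rw [show (0 : ℕ) + 1 = 1 from rfl, hf1] at h0
  rw [show (1 : ℕ) + 1 = 2 from rfl, hf1] at h1
  have hgen := tr.gen 0 (by omega)
  rw [show (0 : ℕ) + 1 = 1 from rfl, he1, hf1] at hgen
  have hm := tr.moved 0 (by omega)
  rw [show (0 : ℕ) + 1 = 1 from rfl, hf1] at hm
  have c1 : Crit p T₀ P₀ 2 (f 0) (f 2) := tr.crit 0 (by omega)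
  have c2 : Crit p T₀ P₀ 2 P₀ (f 3) := hf1 ▸ tr.crit 1 le_rfl
  obtain ⟨g, hg, hgT⟩ := A.other_edge h1.1 h0.2
  have hnear : Near T₀ P₀ (2 - 1) P₀ (f 2) := ⟨f 2, ⟨T₀, h1.1, h1.2⟩, ⟨⟨_, h1.2⟩, rfl⟩⟩
  have hM : Near T₀ P₀ (2 - 1) (f 2) (f 3) := ⟨f 3, ⟨e 2, h2.1, h2.2⟩, ⟨⟨_, h2.2⟩, rfl⟩⟩
  obtain ⟨C, d1, d2, d3, d4, d5, d6, -, d8, d9, d10, d11, d12, d13⟩ := A.UU_struct hb le_rfl c1 h0.1 h0.2
    hnear hm c2 h1.1 h1.2 hM ⟨e 2, h2.2, h2.1⟩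
  exact ⟨f 0, f 2, f 3, e 0, e 2, UU p T₀ P₀ P₀, UU p T₀ P₀ P₀ ⊓ Qv p (f 2), C, g,
    ⟨c1, c2, h0.1, h0.2, h1.1, h1.2, h2.1, h2.2, hg, hgT, by rw [sup_comm]; exact hgen, rfl, rfl,
      d1, d2, d3, d4, d5, d6, d8, d9, d10, d11, d12, d13⟩⟩

variable (h : Two p q T₀ P₀ Nm N R T' T2 U W C g)
include h

theorem Two.U_le : U ≤ Qv p P₀ := h.U_def ▸ A.UU_le_core hb le_rfl

theorem Two.U_norm : P₀ ≤ normalizer (U : Set X) := h.U_def ▸ A.le_normalizer_UU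

theorem Two.U_comm {u y : X} (hu : u ∈ U) (hy : y ∈ Qv p P₀) : ⁅u, y⁆ ∈ Zt P₀ :=
  A.UU_comm hb le_rfl h.eT (h.U_def ▸ hu) hy

theorem Two.W_U : W ≤ U := h.W_def ▸ inf_le_left

theorem Two.U_T : U ≤ T₀ := (h.U_le A hb).trans (h.eT.loc A).core_le

theorem Two.R_T : Vv p R ≤ T₀ :=
  A.le_edge hb (⟨R, ⟨T2, h.eT2N, h.eT2R⟩, ⟨⟨_, h.eT2R⟩, rfl⟩⟩ : Near T₀ P₀ (2 - 1) N R) h.eTN

theorem Two.cover_T : ∀ t ∈ T₀, ∃ x ∈ Vv p R, ∃ y ∈ Qv p P₀, x * y = t :=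
  A.crit_cover hb h.crit2 h.eT h.eTN ⟨R, ⟨T2, h.eT2N, h.eT2R⟩, ⟨⟨_, h.eT2R⟩, rfl⟩⟩

theorem Two.cover_Q : ∀ y ∈ Qv p P₀, ∃ v ∈ Vv p Nm, ∃ r ∈ Qv p P₀ ⊓ Qv p N, v * r = y := by
  intro y hy
  have hP := h.eT.loc A
  obtain ⟨v, hv, r, hr, rfl⟩ := A.crit_cover hb (A.crit_symm hb h.crit1) h.eTN h.eT
    ⟨Nm, ⟨T', h.eT', h.eT'm⟩, ⟨⟨_, h.eT'm⟩, rfl⟩⟩ y (hP.core_le hy)
  refine ⟨v, hv, r, ⟨?_, hr⟩, rfl⟩
  have hvQ : v ∈ Qv p P₀ := hb.below 1 one_lt_two _ _ ⟨P₀, ⟨T', h.eT'm, h.eT'⟩, ⟨⟨_, h.eT'⟩, rfl⟩⟩ hv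
  simpa using mul_mem (inv_mem hvQ) hy

theorem Two.ZN_le : Zt N ≤ Zt T₀ := (h.eTN.loc A).D_le_center

theorem Two.star_R {x r : X} (hx : x ∈ Vv p R) (hr : r ∈ Qv p N) : ⁅x, r⁆ ∈ Zt N :=
  A.star hb le_rfl ⟨T2, h.eT2R, h.eT2N⟩ x hx r hr

theorem Two.D_ZT : Zt P₀ ≤ Zt T₀ := (h.eT.loc A).D_le_center

theorem Two.fix_R {x a : X} (hx : x ∈ Vv p R) (ha : a ∈ W) : ⁅x, a⁆ ∈ Zt T₀ :=
  h.ZN_le A hb (h.star_R A hb hx (h.W_def ▸ ha : a ∈ U ⊓ Qv p N).2)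

theorem Two.fix_T {t a : X} (ht : t ∈ T₀) (ha : a ∈ W) : ⁅t, a⁆ ∈ Zt T₀ := by
  obtain ⟨x, hx, y, hy, rfl⟩ := h.cover_T A hb t ht
  have h1 : ⁅y, a⁆ ∈ Zt P₀ := by
    rw [← commutatorElement_inv a y]
    exact inv_mem (h.U_comm A hb (h.W_U A hb ha) hy)
  rw [comm_mul_left, mem_Zt_comm h1 ((h.eT.loc A).le (h.R_T A hb hx)), mul_inv_cancel_right]
  exact mul_mem (h.D_ZT A hb h1) (h.fix_R A hb hx ha)

theorem Two.norm_W : T₀ ≤ normalizer (W : Set X) := fun t ht => mem_normalizer_fintype fun a ha => by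
  have := mul_mem (h.C_W (h.V_C (h.fixW t ht a ha))) ha
  rwa [commutatorElement_def, inv_mul_cancel_right] at this

/-- The derived subgroup of the core is almost centralised by `Z(O_p(R))`. -/
theorem Two.derived_comm {x c : X} (hx : x ∈ Vv p R) (hc : c ∈ ⁅Qv p P₀, Qv p P₀⁆) : ⁅x, c⁆ ∈ Zt P₀ := by
  have hP := h.eT.loc A
  have hxT := h.R_T A hb hx
  have hxP := hP.le hxT
  let H : Subgroup X :=
    { carrier := {c | c ∈ P₀ ∧ ⁅x, c⁆ ∈ Zt P₀}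
      one_mem' := ⟨one_mem _, by simp⟩
      mul_mem' := by
        rintro a c ⟨ha, ha'⟩ ⟨hc, hc'⟩
        refine ⟨mul_mem ha hc, ?_⟩
        rw [comm_mul_right, mem_Zt_comm hc' ha, mul_inv_cancel_right]
        exact mul_mem ha' hc'
      inv_mem' := by
        rintro a ⟨ha, ha'⟩
        refine ⟨inv_mem ha, ?_⟩
        rw [show ⁅x, a⁻¹⁆ = a⁻¹ * ⁅x, a⁆⁻¹ * a by simp [commutatorElement_def, mul_assoc],
          mem_Zt_comm (inv_mem ha') (inv_mem ha), inv_mul_cancel_right]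
        exact inv_mem ha' }
  refine ((commutator_le.2 fun a ha c hc => ?_ : ⁅Qv p P₀, Qv p P₀⁆ ≤ H) hc).2
  have hQP : ∀ {y : X}, y ∈ Qv p P₀ → y ∈ P₀ := fun hy => Qv_le p P₀ hy
  have hac : ⁅a, c⁆ ∈ ⁅Qv p P₀, Qv p P₀⁆ := commutator_mem_commutator ha hc
  have hacP : ⁅a, c⁆ ∈ P₀ := by
    rw [commutatorElement_def]
    exact mul_mem (mul_mem (mul_mem (hQP ha) (hQP hc)) (inv_mem (hQP ha))) (inv_mem (hQP hc))
  refine ⟨hacP, ?_⟩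
  have hw : ∀ {y : X}, y ∈ Qv p P₀ → ⁅x, y⁆ ∈ U := by
    intro y hy
    obtain ⟨v, hv, r, hr, rfl⟩ := h.cover_Q A hb y hy
    have hvU : v ∈ U := h.U_def ▸ Vv_le_UU ⟨T', h.eT', h.eT'm⟩ hv
    have hVU : Vv p P₀ ≤ U := fun z hz => h.W_U A hb (h.C_W (h.V_C hz))
    rw [comm_mul_right]
    refine mul_mem (comm_mem_of_le (h.U_norm A hb) hxP hvU) (conj_mem_of_le (h.U_norm A hb)
      (hP.le (h.U_T A hb hvU)) (hVU (hP.center_le_V (h.ZN_le A hb (h.star_R A hb hx hr.2)))))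
  have wa := hw ha
  have wc := hw hc
  have hB : ⁅x, c⁆ * c ∈ Qv p P₀ := mul_mem (h.U_le A hb wc) hc
  have z1 : ⁅⁅x, a⁆, ⁅x, c⁆ * c⁆ ∈ Zt P₀ := h.U_comm A hb wa hB
  have z2 : ⁅a, ⁅x, c⁆⁆ ∈ Zt P₀ := by
    rw [← commutatorElement_inv]; exact inv_mem (h.U_comm A hb wc ha)
  have hcc : ∀ {u : X}, u ∈ U → u * ⁅a, c⁆ * u⁻¹ = ⁅a, c⁆ := fun hu => by
    rw [← A.derived_centralizes hb le_rfl h.eT (h.U_def ▸ hu) hac, mul_inv_cancel_right]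
  have e : ⁅x * a * x⁻¹, x * c * x⁻¹⁆ = ⁅a, ⁅x, c⁆⁆ * ⁅a, c⁆ * ⁅⁅x, a⁆, ⁅x, c⁆ * c⁆ := by
    rw [show x * a * x⁻¹ = ⁅x, a⁆ * a by simp [commutatorElement_def, mul_assoc],
      show x * c * x⁻¹ = ⁅x, c⁆ * c by simp [commutatorElement_def, mul_assoc], comm_mul_left,
      comm_mul_right a, hcc wc]
    congr 1
    have hb' : ⁅x, a⁆ ∈ P₀ := hQP (h.U_le A hb wa)
    calc ⁅x, a⁆ * (⁅a, ⁅x, c⁆⁆ * ⁅a, c⁆) * ⁅x, a⁆⁻¹
        = (⁅x, a⁆ * ⁅a, ⁅x, c⁆⁆ * ⁅x, a⁆⁻¹) * (⁅x, a⁆ * ⁅a, c⁆ * ⁅x, a⁆⁻¹) := by group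
      _ = _ := by rw [hcc wa, mem_Zt_comm z2 hb', mul_inv_cancel_right]
  rw [comm_conj] at e
  rw [show ⁅x, ⁅a, c⁆⁆ = (x * ⁅a, c⁆ * x⁻¹) * ⁅a, c⁆⁻¹ from commutatorElement_def _ _, e,
    mul_assoc _ _ (⁅a, c⁆⁻¹), ← mem_Zt_comm z1 (inv_mem hacP), ← mul_assoc, mul_assoc ⁅a, ⁅x, c⁆⁆,
    mul_inv_cancel, mul_one]
  exact mul_mem z2 z1

/-- `Z(O_p(R))` centralises the third term of the core. -/
theorem Two.derived3_comm {x c : X} (hx : x ∈ Vv p R) (hc : c ∈ ⁅⁅Qv p P₀, Qv p P₀⁆, Qv p P₀⁆) :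
    x * c = c * x := by
  have hP := h.eT.loc A
  suffices hh : ⁅⁅Qv p P₀, Qv p P₀⁆, Qv p P₀⁆ ≤ centralizer ({x} : Set X) from
    (mem_centralizer_singleton_iff.1 (hh hc)).symm
  refine commutator_le.2 fun d hd y hy => mem_centralizer_singleton_iff.2 ?_
  have hxP := hP.le (h.R_T A hb hx)
  have z := h.derived_comm A hb hx hd
  have hd' : ⁅Qv p P₀, Qv p P₀⁆ ≤ Qv p P₀ := commutator_le.2 fun a ha b hb' => by
    rw [commutatorElement_def]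
    exact mul_mem (mul_mem (mul_mem ha hb') (inv_mem ha)) (inv_mem hb')
  have hdy : ⁅d, y⁆ ∈ ⁅Qv p P₀, Qv p P₀⁆ := commutator_mem_commutator (hd' hd) hy
  have hw : ⁅x, y⁆ ∈ U := by
    obtain ⟨v, hv, r, hr, rfl⟩ := h.cover_Q A hb y hy
    have hvU : v ∈ U := h.U_def ▸ Vv_le_UU ⟨T', h.eT', h.eT'm⟩ hv
    rw [comm_mul_right]
    exact mul_mem (comm_mem_of_le (h.U_norm A hb) hxP hvU) (conj_mem_of_le (h.U_norm A hb)
      (hP.le (h.U_T A hb hvU)) (h.W_U A hb (h.C_W (h.V_C (hP.center_le_V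
        (h.ZN_le A hb (h.star_R A hb hx hr.2)))))))
  have e : ⁅x * d * x⁻¹, x * y * x⁻¹⁆ = ⁅d, y⁆ := by
    have hc1 := A.derived_centralizes hb le_rfl h.eT (h.U_def ▸ hw) hd
    have hc2 := A.derived_centralizes hb le_rfl h.eT (h.U_def ▸ hw) hdy
    rw [show x * d * x⁻¹ = ⁅x, d⁆ * d by simp [commutatorElement_def, mul_assoc],
      show x * y * x⁻¹ = ⁅x, y⁆ * y by simp [commutatorElement_def, mul_assoc], comm_mul_left,
      comm_eq_one (mem_Zt_comm z (Qv_le p P₀ (mul_mem (h.U_le A hb hw) hy))).symm, mul_one,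
      comm_mul_right, comm_eq_one hc1, one_mul, ← hc2, mul_inv_cancel_right,
      ← mem_Zt_comm z (Qv_le p P₀ (hd' hdy)), mul_inv_cancel_right]
  rw [comm_conj] at e
  exact (mul_inv_eq_iff_eq_mul.1 e).symm

theorem Two.derived_le {H : Subgroup X} (hH : T₀ ≤ normalizer (H : Set X))
    (hxv : ∀ x ∈ Vv p R, ∀ v ∈ Vv p Nm, ⁅x, v⁆ ∈ H) (hN : Zt N ≤ H) :
    ⁅T₀, T₀⁆ ≤ ⁅Qv p P₀, Qv p P₀⁆ ⊔ H := by
  have hP := h.eT.loc A
  set L := ⁅Qv p P₀, Qv p P₀⁆ ⊔ H with hLdef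
  have hL : T₀ ≤ normalizer (L : Set X) := fun t ht => mem_normalizer_of_cj (by
    rw [hLdef, cj_sup, cj, map_commutator, ← cj, cj_eq_of_mem (hP.norm_core (hP.le ht)),
      cj_eq_of_mem (hH ht)])
  have hxy : ∀ x ∈ Vv p R, ∀ y ∈ Qv p P₀, ⁅x, y⁆ ∈ H := by
    intro x hx y hy
    obtain ⟨v, hv, r, hr, rfl⟩ := h.cover_Q A hb y hy
    have z := h.star_R A hb hx hr.2
    have hvT : v ∈ T₀ := h.U_T A hb (h.U_def ▸ Vv_le_UU ⟨T', h.eT', h.eT'm⟩ hv)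
    rw [comm_mul_right, mem_Zt_comm (h.ZN_le A hb z) hvT, mul_inv_cancel_right]
    exact mul_mem (hxv x hx v hv) (hN z)
  refine commutator_le.2 fun a ha c hc => ?_
  obtain ⟨x, hx, y, hy, rfl⟩ := h.cover_T A hb a ha
  obtain ⟨x', hx', y', hy', rfl⟩ := h.cover_T A hb c hc
  have hxT := h.R_T A hb hx
  have hxT' := h.R_T A hb hx'
  rw [comm_mul_left, comm_mul_right x x' y', comm_eq_one (Vv_comm_Qv hx' (Vv_le_Qv p R hx)), one_mul,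
    comm_mul_right y x' y']
  refine mul_mem (conj_mem_of_le hL hxT (mul_mem (mem_sup_right ?_)
    (conj_mem_of_le hL hxT' (mem_sup_left (commutator_mem_commutator hy hy')))))
    (conj_mem_of_le hL hxT' (mem_sup_right (hxy x hx y' hy')))
  rw [← commutatorElement_inv x' y]
  exact inv_mem (hxy x' hx' y hy)

theorem Two.gamma3_le {H M : Subgroup X} (hH : T₀ ≤ normalizer (H : Set X)) (hHT : H ≤ T₀)
    (hder : ⁅T₀, T₀⁆ ≤ ⁅Qv p P₀, Qv p P₀⁆ ⊔ H) (hM : M ≤ Zt T₀) (hDM : Zt P₀ ≤ M)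
    (hHM : ∀ a ∈ H, ∀ t ∈ T₀, ⁅a, t⁆ ∈ M) :
    ⁅⁅T₀, T₀⁆, T₀⁆ ≤ ⁅⁅Qv p P₀, Qv p P₀⁆, Qv p P₀⁆ ⊔ M := by
  have hP := h.eT.loc A
  set D3 := ⁅⁅Qv p P₀, Qv p P₀⁆, Qv p P₀⁆ with hD3
  have hD2 : ⁅Qv p P₀, Qv p P₀⁆ ≤ Qv p P₀ := commutator_le.2 fun a ha b hb' => by
    rw [commutatorElement_def]
    exact mul_mem (mul_mem (mul_mem ha hb') (inv_mem ha)) (inv_mem hb')
  refine commutator_le.2 fun c hc t ht => ?_
  obtain ⟨d, hd, a, ha, rfl⟩ := (Cfsg.Lib.Core.mem_sup_of_le_normalizer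
    ((hD2.trans hP.core_le).trans hH)).1 (hder hc)
  obtain ⟨x, hx, y, hy, rfl⟩ := h.cover_T A hb t ht
  have hxT := h.R_T A hb hx
  have hz := hHM a ha _ ht
  rw [comm_mul_left, mem_Zt_comm (hM hz) (hP.core_le (hD2 hd)), mul_inv_cancel_right, comm_mul_right d x y]
  refine mul_mem (mem_sup_right hz) (mul_mem (mem_sup_right (hDM ?_)) ?_)
  · rw [← commutatorElement_inv x d]; exact inv_mem (h.derived_comm A hb hx hd)
  · have hdy : ⁅d, y⁆ ∈ D3 := commutator_mem_commutator hd hy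
    rw [h.derived3_comm A hb hx hdy, mul_inv_cancel_right]
    exact mem_sup_left hdy

/-- The fourth term is trivial. -/
theorem Two.gamma4 : ⁅⁅⁅T₀, T₀⁆, T₀⁆, T₀⁆ = ⊥ := by
  have hP := h.eT.loc A
  have hQT := hP.core_le
  set D2 := ⁅Qv p P₀, Qv p P₀⁆ with hD2d
  set D3 := ⁅D2, Qv p P₀⁆ with hD3d
  have hD2 : D2 ≤ Qv p P₀ := commutator_le.2 fun a ha b hb' => by
    rw [commutatorElement_def]
    exact mul_mem (mul_mem (mul_mem ha hb') (inv_mem ha)) (inv_mem hb')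
  have hD3Q : D3 ≤ Qv p P₀ := commutator_le.2 fun a ha b hb' => by
    rw [commutatorElement_def]
    exact mul_mem (mul_mem (mul_mem (hD2 ha) hb') (inv_mem (hD2 ha))) (inv_mem hb')
  have h3 := h.gamma3_le A hb (h.norm_W A hb) (le_trans (h.W_U A hb) (h.U_T A hb))
    (h.derived_le A hb (h.norm_W A hb) (fun x hx v hv =>
      h.quad x (h.R_T A hb hx) v (h.U_def ▸ Vv_le_UU ⟨T', h.eT', h.eT'm⟩ hv))
      (fun z hz => h.C_W (h.V_C (hP.center_le_V (h.ZN_le A hb hz))))) le_rfl (h.D_ZT A hb)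
    (fun a ha t ht => by rw [← commutatorElement_inv t a]; exact inv_mem (h.fix_T A hb ht ha))
  have heq : ⁅⁅⁅T₀, T₀⁆, T₀⁆, T₀⁆ = ⁅D3, Qv p P₀⁆ := by
    refine le_antisymm (commutator_le.2 fun c hc t ht => ?_)
      (commutator_mono (commutator_mono (commutator_mono hQT hQT) hQT) hQT)
    obtain ⟨d, hd, z, hz, rfl⟩ := (Cfsg.Lib.Core.mem_sup_of_le_normalizer
      (A := D3) (B := Zt T₀) (fun d hd => mem_normalizer_fintype fun z hz => by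
        rw [mem_Zt_comm hz (hQT (hD3Q hd)), mul_inv_cancel_right]; exact hz)).1 (h3 hc)
    obtain ⟨x, hx, y, hy, rfl⟩ := h.cover_T A hb t ht
    rw [comm_mul_left, comm_eq_one (mem_Zt_comm hz (mul_mem (h.R_T A hb hx) (hQT hy))).symm, mul_one,
      mul_inv_cancel, one_mul, comm_mul_right, comm_eq_one (h.derived3_comm A hb hx hd).symm, one_mul]
    refine conj_mem_of_le ?_ (h.R_T A hb hx) (commutator_mem_commutator hd hy)
    intro s hs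
    refine mem_normalizer_of_cj ?_
    rw [hD3d, hD2d, cj, map_commutator, map_commutator, map_commutator, ← cj,
      cj_eq_of_mem (hP.norm_core (hP.le hs))]
  have hle : ⁅⁅⁅T₀, T₀⁆, T₀⁆, T₀⁆ ≤ T₀ := by
    have h0 : ∀ H : Subgroup X, H ≤ T₀ → ⁅H, T₀⁆ ≤ T₀ := fun H hH => commutator_le.2 fun a ha b hb' => by
      rw [commutatorElement_def]
      exact mul_mem (mul_mem (mul_mem (hH ha) hb') (inv_mem (hH ha))) (inv_mem hb')
    exact h0 _ (h0 _ (h0 _ le_rfl))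
  refine A.free _ hle (fun s hs => mem_normalizer_of_cj ?_) (fun s hs => mem_normalizer_of_cj ?_)
  · rw [heq, hD3d, hD2d, cj, map_commutator, map_commutator, map_commutator, ← cj,
      cj_eq_of_mem (hP.norm_core hs)]
  · rw [cj, map_commutator, map_commutator, map_commutator, ← cj, cj_eq_of_mem hs]

/-- The class is not two. -/
theorem Two.gamma3_ne : ⁅⁅T₀, T₀⁆, T₀⁆ ≠ ⊥ := by
  intro h0
  have hP := h.eT.loc A
  obtain ⟨x, hx, hxQ⟩ := A.exists_not_core hb h.crit2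
  obtain ⟨v, hv, hvN⟩ := SetLike.not_le_iff_exists.1 h.crit1.2
  have hvU : v ∈ U := h.U_def ▸ Vv_le_UU ⟨T', h.eT', h.eT'm⟩ hv
  have hxT := h.R_T A hb hx
  refine hvN ((h.W_def ▸ h.sec x hxT hxQ v hvU (h.V_C (hP.center_le_V ?_)) : v ∈ U ⊓ Qv p N)).2
  refine mem_inf.2 ⟨h.U_T A hb (h.W_U A hb (h.quad x hxT v hvU)), mem_centralizer_iff.2 fun t ht => ?_⟩
  exact (Cfsg.Lib.Core.commutator_eq_bot_iff_forall.1 h0 _
    (commutator_mem_commutator hxT (h.U_T A hb hvU)) t ht).symm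

/-- The action is not quadratic modulo the centre. -/
theorem Two.not_quadratic :
    ¬ ∀ x ∈ Vv p R, ∀ x' ∈ Vv p R, ∀ a ∈ U, ⁅x', ⁅x, a⁆⁆ ∈ Zt P₀ := by
  intro hall
  have hP := h.eT.loc A
  have hZc : ∀ {z t : X}, z ∈ Zt T₀ → t ∈ T₀ → t * z * t⁻¹ = z := fun hz ht => by
    rw [mem_Zt_comm hz ht, mul_inv_cancel_right]
  let H : Subgroup X :=
    { carrier := {a | a ∈ W ∧ ∀ x' ∈ Vv p R, ⁅x', a⁆ ∈ Zt P₀}
      one_mem' := ⟨one_mem _, fun x' _ => by simp⟩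
      mul_mem' := by
        rintro a c ⟨ha, ha'⟩ ⟨hc, hc'⟩
        refine ⟨mul_mem ha hc, fun x' hx' => ?_⟩
        rw [comm_mul_right, hZc (h.D_ZT A hb (hc' x' hx')) (h.U_T A hb (h.W_U A hb ha))]
        exact mul_mem (ha' x' hx') (hc' x' hx')
      inv_mem' := by
        rintro a ⟨ha, ha'⟩
        refine ⟨inv_mem ha, fun x' hx' => ?_⟩
        rw [show ⁅x', a⁻¹⁆ = a⁻¹ * ⁅x', a⁆⁻¹ * a⁻¹⁻¹ by simp [commutatorElement_def, mul_assoc],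
          hZc (h.D_ZT A hb (inv_mem (ha' x' hx'))) (inv_mem (h.U_T A hb (h.W_U A hb ha)))]
        exact inv_mem (ha' x' hx') }
  have hH : T₀ ≤ normalizer (H : Set X) := fun t ht => mem_normalizer_fintype fun a ha => by
    refine ⟨conj_mem_of_le (h.norm_W A hb) ht ha.1, fun x' hx' => ?_⟩
    have hz := h.fix_T A hb ht ha.1
    rw [show t * a * t⁻¹ = ⁅t, a⁆ * a by simp [commutatorElement_def, mul_assoc], comm_mul_right,
      comm_eq_one (mem_Zt_comm hz (h.R_T A hb hx')), one_mul, hZc (h.D_ZT A hb (ha.2 x' hx')) (Zt_le _ hz)]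
    exact ha.2 x' hx'
  have hHT : H ≤ T₀ := fun a ha => h.U_T A hb (h.W_U A hb ha.1)
  have h3 := h.gamma3_le A hb hH hHT (h.derived_le A hb hH
      (fun x hx v hv => ⟨h.quad x (h.R_T A hb hx) v (h.U_def ▸ Vv_le_UU ⟨T', h.eT', h.eT'm⟩ hv),
        fun x' hx' => hall x hx x' hx' v (h.U_def ▸ Vv_le_UU ⟨T', h.eT', h.eT'm⟩ hv)⟩)
      (fun z hz => ⟨h.C_W (h.V_C (hP.center_le_V (h.ZN_le A hb hz))), fun x' hx' => by
        rw [comm_eq_one (mem_Zt_comm (h.ZN_le A hb hz) (h.R_T A hb hx'))]; exact one_mem _⟩))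
    (h.D_ZT A hb) le_rfl (fun a ha t ht => by
      obtain ⟨x, hx, y, hy, rfl⟩ := h.cover_T A hb t ht
      have e1 : ⁅a, y⁆ ∈ Zt P₀ := h.U_comm A hb (h.W_U A hb ha.1) hy
      rw [comm_mul_right, mem_Zt_comm e1 (hP.le (h.R_T A hb hx)), mul_inv_cancel_right]
      refine mul_mem ?_ e1
      rw [← commutatorElement_inv x a]
      exact inv_mem (ha.2 x hx))
  refine h.gamma3_ne A hb (A.free _ ?_ (fun s hs => ?_) (fun s hs => mem_normalizer_of_cj ?_))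
  · have h0 : ∀ K : Subgroup X, K ≤ T₀ → ⁅K, T₀⁆ ≤ T₀ := fun K hK => commutator_le.2 fun a ha b hb' => by
      rw [commutatorElement_def]
      exact mul_mem (mul_mem (mul_mem (hK ha) hb') (inv_mem (hK ha))) (inv_mem hb')
    exact h0 _ (h0 _ le_rfl)
  · refine mem_normalizer_fintype fun z hz => ?_
    set D3 := ⁅⁅Qv p P₀, Qv p P₀⁆, Qv p P₀⁆ with hD3
    have hD3n : P₀ ≤ normalizer (D3 : Set X) := fun s hs => mem_normalizer_of_cj (by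
      rw [hD3, cj, map_commutator, map_commutator, ← cj, cj_eq_of_mem (hP.norm_core hs)])
    have hD3T : D3 ≤ ⁅⁅T₀, T₀⁆, T₀⁆ := commutator_mono (commutator_mono hP.core_le hP.core_le) hP.core_le
    have hD3P : D3 ≤ P₀ := by
      refine hD3T.trans (le_trans ?_ hP.le)
      refine commutator_le.2 fun a ha b hb' => ?_
      have haT : a ∈ T₀ := (commutator_le.2 fun u hu v hv => by
        rw [commutatorElement_def]
        exact mul_mem (mul_mem (mul_mem hu hv) (inv_mem hu)) (inv_mem hv) : ⁅T₀, T₀⁆ ≤ T₀) ha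
      rw [commutatorElement_def]
      exact mul_mem (mul_mem (mul_mem haT hb') (inv_mem haT)) (inv_mem hb')
    obtain ⟨c, hc, d, hd, rfl⟩ := (Cfsg.Lib.Core.mem_sup_of_le_normalizer
      (A := D3) (B := Zt P₀) (fun c hc => mem_normalizer_fintype fun d hd => by
        rw [mem_Zt_comm hd (hD3P hc), mul_inv_cancel_right]; exact hd)).1 (h3 hz)
    have hdg : d ∈ ⁅⁅T₀, T₀⁆, T₀⁆ := by
      simpa using mul_mem (inv_mem (hD3T hc)) hz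
    rw [show s * (c * d) * s⁻¹ = (s * c * s⁻¹) * (s * d * s⁻¹) by group, mem_Zt_comm hd hs,
      mul_inv_cancel_right]
    exact mul_mem (hD3T (conj_mem_of_le hD3n hs hc)) hdg
  · rw [cj, map_commutator, map_commutator, ← cj, cj_eq_of_mem hs]

end

end Cfsg.Lib.Local.PushingUp
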