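import Cfsg.Agent.Lib.Local.PushingUp.Module
import Cfsg.Agent.Lib.Local.GlaubermanComplement

/-!
Consequences of the absence of nontrivial characteristic subgroups of `S` normal in `G`, inside `G`.
-/

set_option autoImplicit false
set_option linter.style.haveILetI false

namespace Cfsg.Lib.Local.PushingUp

open Subgroup Cfsg.Lib.Local.Baumann GlaubermanZJ
open scoped commutatorElement

variable {G : Type*} [Group G] [Finite G] {p : ℕ} [Fact p.Prime]

omit [Finite G] in
theorem map_subtype_centralizer {H : Subgroup G} (X : Subgroup ↥H) :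
    (centralizer (X : Set ↥H)).map H.subtype = H ⊓ centralizer (X.map H.subtype : Set G) := by
  ext x
  constructor
  · rintro ⟨y, hy, rfl⟩
    refine ⟨y.2, mem_centralizer_iff.2 ?_⟩
    rintro _ ⟨z, hz, rfl⟩
    exact congrArg Subtype.val (mem_centralizer_iff.1 hy z hz)
  · rintro ⟨hx, hx'⟩
    exact ⟨⟨x, hx⟩, mem_centralizer_iff.2 fun z hz =>
      Subtype.ext (mem_centralizer_iff.1 hx' (z : G) ⟨z, hz, rfl⟩), rfl⟩

omit [Finite G] in
theorem map_subtype_center (H : Subgroup G) :
    (center ↥H).map H.subtype = H ⊓ centralizer (H : Set G) := by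
  rw [← centralizer_univ, ← coe_top, map_subtype_centralizer, ← MonoidHom.range_eq_map, range_subtype]

/-- No nontrivial characteristic subgroup of `S` is normal. -/
def NoCharNormal (S : Sylow p G) : Prop :=
  ∀ T : Subgroup ↥(S : Subgroup G), T ≠ ⊥ → T.Characteristic → ¬ (T.map (S : Subgroup G).subtype).Normal

theorem NoCharNormal.eq_bot {S : Sylow p G} (hd : NoCharNormal S) {T : Subgroup ↥(S : Subgroup G)}
    [hc : T.Characteristic] (h : (T.map (S : Subgroup G).subtype).Normal) : T = ⊥ :=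
  by_contra fun hne => hd T hne hc h

/-- The facts about the rank one group. -/
structure GData (S : Sylow p G) (F : Type) [Field F] [Fintype F] (n : ℕ) (K : Subgroup G)
    [K.Normal] : Prop where
  cent : centralizer (Cfsg.pCore p G : Set G) ≤ Cfsg.pCore p G
  uniq : ∃! M : Subgroup G, IsCoatom M ∧ (S : Subgroup G) ≤ M
  pos : 1 ≤ n
  card : Fintype.card F = p ^ n
  iso : Nonempty (G ⧸ K ≃* Matrix.ProjectiveSpecialLinearGroup (Fin 2) F)
  free : NoCharNormal S

variable {S : Sylow p G} {F : Type} [Field F] [Fintype F] {n : ℕ} {K : Subgroup G} [K.Normal]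

section
variable (h : GData S F n K)
include h

theorem GData.toHyp : Hyp S F n K := ⟨h.cent, h.uniq, h.pos, h.card, h.iso⟩

theorem GData.toRankOne : RankOne S F n K := ⟨h.uniq, h.pos, h.card, h.iso⟩

theorem GData.nontrivial : Nontrivial ↥(S : Subgroup G) := by
  rw [nontrivial_iff_ne_bot]
  intro hS
  haveI := h.toRankOne.charP
  obtain ⟨π, hπ, -⟩ := h.toRankOne.exists_proj
  apply Cfsg.Lib.Dickson.sylow_not_normal_psl p (S.mapSurjective (f := π) hπ)
  rw [Sylow.coe_mapSurjective, hS, Subgroup.map_bot]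
  infer_instance

theorem GData.center_not_normal :
    ¬ ((S : Subgroup G) ⊓ centralizer ((S : Subgroup G) : Set G)).Normal := by
  intro hn
  haveI := h.nontrivial
  rw [← map_subtype_center] at hn
  exact S.2.bot_lt_center.ne' (h.free.eq_bot hn)

theorem GData.not_cover : centralizer (vOf p G : Set G) ⊔ (S : Subgroup G) ≠ ⊤ := fun e =>
  h.center_not_normal (normal_of_le_center (h.toHyp.center_central e))

theorem GData.centralizer_zj_not_normal :
    ¬ ((S : Subgroup G) ⊓ centralizer (Cfsg.centerThompsonAOf (S : Subgroup G) : Set G)).Normal := by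
  intro hn
  haveI := h.nontrivial
  set J₀ := Cfsg.thompsonSubgroupA ↥(S : Subgroup G) with hJ₀
  haveI : J₀.Characteristic := characteristic_iff_map_eq.2 fun e => map_thompsonSubgroupA e
  have hZJ : (J₀ ⊓ centralizer (J₀ : Set ↥(S : Subgroup G))).map (S : Subgroup G).subtype =
      Cfsg.centerThompsonAOf (S : Subgroup G) := by
    rw [map_inf_eq _ _ _ (subtype_injective _), map_subtype_centralizer, Cfsg.centerThompsonAOf,
      Cfsg.thompsonSubgroupAOf, ← inf_assoc, inf_eq_left.2 (map_subtype_le _)]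
  rw [← hZJ, ← map_subtype_centralizer] at hn
  refine (lt_of_lt_of_le S.2.bot_lt_center ?_).ne' (h.free.eq_bot hn)
  exact center_le_centralizer _

theorem GData.zj_ne : ¬ (Cfsg.centerThompsonAOf (S : Subgroup G)).Normal := by
  intro hn
  haveI := h.nontrivial
  set J₀ := Cfsg.thompsonSubgroupA ↥(S : Subgroup G) with hJ₀
  haveI : J₀.Characteristic := characteristic_iff_map_eq.2 fun e => map_thompsonSubgroupA e
  have hZJ : (J₀ ⊓ centralizer (J₀ : Set ↥(S : Subgroup G))).map (S : Subgroup G).subtype =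
      Cfsg.centerThompsonAOf (S : Subgroup G) := by
    rw [map_inf_eq _ _ _ (subtype_injective _), map_subtype_centralizer, Cfsg.centerThompsonAOf,
      Cfsg.thompsonSubgroupAOf, ← inf_assoc, inf_eq_left.2 (map_subtype_le _)]
  rw [← hZJ] at hn
  have hb := h.free.eq_bot hn
  refine centerThompsonAOf_ne_bot S.2 ((nontrivial_iff_ne_bot _).1 h.nontrivial) ?_
  rw [← hZJ, hb, Subgroup.map_bot]

theorem GData.exists_maxAb : ∃ A, IsMaxAbIn (S : Subgroup G) A ∧ ¬ A ≤ Cfsg.pCore p G := by
  by_contra hall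
  push Not at hall
  exact h.zj_ne (h.toHyp.easy hall).1

theorem GData.center_pow {z : G} (hz : z ∈ (S : Subgroup G) ⊓ centralizer ((S : Subgroup G) : Set G)) :
    z ^ p = 1 := by
  haveI := h.nontrivial
  rcases h.toHyp.power_case with hn | hn
  · set P₀ := Subgroup.closure {y : ↥(S : Subgroup G) | ∃ x ∈ center ↥(S : Subgroup G), y = x ^ (p ^ 1)}
    haveI : P₀.Characteristic := by
      refine characteristic_iff_le_map.2 fun e => ?_
      rw [MonoidHom.map_closure]
      refine closure_mono ?_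
      rintro _ ⟨x, hx, rfl⟩
      refine ⟨(e.symm x) ^ (p ^ 1), ⟨e.symm x, ?_, rfl⟩, by simp⟩
      refine mem_center_iff.2 fun g => e.injective ?_
      simpa using mem_center_iff.1 hx (e g)
    have hP : P₀.map (S : Subgroup G).subtype =
        Cfsg.powerClosure p 1 ((S : Subgroup G) ⊓ centralizer ((S : Subgroup G) : Set G)) := by
      rw [MonoidHom.map_closure, Cfsg.powerClosure]
      congr 1
      ext y
      constructor
      · rintro ⟨_, ⟨x, hx, rfl⟩, rfl⟩
        exact ⟨x, map_subtype_center (S : Subgroup G) ▸ mem_map_of_mem _ hx, rfl⟩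
      · rintro ⟨x, hx, rfl⟩
        rw [← map_subtype_center] at hx
        obtain ⟨x', hx', rfl⟩ := hx
        exact ⟨_, ⟨x', hx', rfl⟩, rfl⟩
    rw [← hP] at hn
    have hb := h.free.eq_bot hn
    have : z ^ p ^ 1 ∈ P₀.map (S : Subgroup G).subtype := by
      rw [hP]
      exact subset_closure ⟨z, hz, rfl⟩
    rw [hb, Subgroup.map_bot, mem_bot, pow_one] at this
    exact this
  · exact absurd hn h.centralizer_zj_not_normal

theorem GData.center_le : center G ≤ (S : Subgroup G) ⊓ centralizer ((S : Subgroup G) : Set G) := by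
  refine le_inf (fun z hz => ?_) (center_le_centralizer _)
  exact Cfsg.Lib.Core.pCore_le_sylow S (h.cent (center_le_centralizer _ hz))

theorem GData.center_le_vOf : center G ≤ vOf p G := h.center_le.trans h.toHyp.center_le_vOf

theorem GData.vOf_pow : ∀ v ∈ vOf p G, v ^ p = 1 := by
  obtain ⟨A, hA, hAQ⟩ := h.exists_maxAb
  obtain ⟨-, -, -, -, -, g, -, hV⟩ := h.toHyp.key h.not_cover hA hAQ
  let W : Subgroup G :=
    { carrier := {w | w ∈ vOf p G ∧ w ^ p = 1}
      one_mem' := ⟨one_mem _, one_pow p⟩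
      mul_mem' := by
        rintro a b ⟨ha, ha'⟩ ⟨hb, hb'⟩
        exact ⟨mul_mem ha hb, by
          rw [(show Commute a b from vOf_comm a ha b hb).mul_pow, ha', hb', one_mul]⟩
      inv_mem' := by
        rintro a ⟨ha, ha'⟩
        exact ⟨inv_mem ha, by rw [inv_pow, ha', inv_one]⟩ }
  intro v hv
  refine ((hV.trans (sup_le (fun z hz => ?_) ?_)) hv : v ∈ W).2
  · exact ⟨h.toHyp.center_le_vOf hz, h.center_pow hz⟩
  · rintro _ ⟨z, hz, rfl⟩
    refine ⟨(inferInstance : (vOf p G).Normal).conj_mem z (h.toHyp.center_le_vOf hz) g, ?_⟩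
    show (g * z * g⁻¹) ^ p = 1
    rw [conj_pow, h.center_pow hz, mul_one, mul_inv_cancel]

theorem GData.relIndex_pCore : (Cfsg.pCore p G).relIndex (S : Subgroup G) = p ^ n := by
  obtain ⟨π, hπ, hker⟩ := h.toRankOne.exists_proj
  haveI := h.toRankOne.charP
  have hcard : Nat.card ↥((S : Subgroup G).map π) = p ^ n := by
    have := Cfsg.Lib.Dickson.card_sylow_psl p (S.mapSurjective (f := π) hπ)
    rwa [Sylow.coe_mapSurjective, h.card] at this
  have e : (S : Subgroup G) ⊓ K = Cfsg.pCore p G :=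
    le_antisymm (h.toRankOne.inf_le_pCore h.toRankOne.ker_sup_ne_top)
      (le_inf (Cfsg.Lib.Core.pCore_le_sylow S) h.toRankOne.pCore_le_ker)
  rw [← e, inf_relIndex_left, ← hker, ← hcard]
  exact Subgroup.relIndex_ker (S : Subgroup G) π

theorem GData.center_relIndex :
    ((S : Subgroup G) ⊓ centralizer ((S : Subgroup G) : Set G)).relIndex (vOf p G) ≤ p ^ n := by
  obtain ⟨A, hA, hAQ⟩ := h.exists_maxAb
  obtain ⟨hAQS, hX, hB, -⟩ := h.toHyp.key h.not_cover hA hAQ
  set V := vOf p G
  set Q := Cfsg.pCore p G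
  set Z := (S : Subgroup G) ⊓ centralizer ((S : Subgroup G) : Set G)
  have hAV : A ⊓ Q ⊓ V = Z := by
    rw [← hX, inf_assoc, inf_eq_right.2 (vOf_le (p := p) (G := G))]
    refine le_antisymm (le_inf inf_le_right fun a ha => mem_centralizer_iff.2 fun b hb =>
      congrArg Subtype.val (hA.2.1.is_comm.comm ⟨b, hb⟩ ⟨a, ha.1⟩)) fun x hx => ⟨hA.mem_of_commute
      ((vOf_le.trans (Cfsg.Lib.Core.pCore_le_sylow S)) hx.1)
      fun a ha => (mem_centralizer_iff.1 hx.2 a ha).symm, hx.1⟩
  have hn : V ≤ normalizer ((A ⊓ Q : Subgroup G) : Set G) := fun v hv =>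
    mem_normalizer_fintype fun x hx => by
      rw [← (mem_centralizer_iff.1 hv.2 x hx.2), mul_inv_cancel_right]
      exact hx
  have hc := card_sup_mul_inf hn
  rw [hAV] at hc
  have hle := hA.2.2 _ hB.1 hB.2.1
  have i1 : Nat.card ↥(A ⊓ Q) * Q.relIndex A = Nat.card A := by
    rw [← inf_relIndex_left, Cfsg.Lib.Core.card_mul_relIndex inf_le_left]
  have i2 : Nat.card Z * Z.relIndex V = Nat.card V :=
    Cfsg.Lib.Core.card_mul_relIndex (show Z ≤ V from h.toHyp.center_le_vOf)
  have i3 : Q.relIndex A = p ^ n := by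
    rw [← h.relIndex_pCore]
    show Q.relIndex A = Q.relIndex (S : Subgroup G)
    rw [← hAQS, relIndex_sup_right]
  rw [← i2] at hc
  rw [← i1, i3] at hle
  have e : Nat.card ↥(A ⊓ Q ⊔ V) = Nat.card ↥(A ⊓ Q) * Z.relIndex V := by
    refine Nat.eq_of_mul_eq_mul_right (Nat.card_pos (α := Z)) (hc.trans ?_)
    ring
  rw [e] at hle
  exact Nat.le_of_mul_le_mul_left hle Nat.card_pos

/-- The module `Z(O_p(G))` modulo the centre. -/
theorem GData.vOf_section :
    ((S : Subgroup G) ⊓ centralizer ((S : Subgroup G) : Set G)).relIndex (vOf p G) = p ^ n ∧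
    (center G).relIndex (vOf p G) = p ^ (2 * n) ∧
    (∀ u ∈ (S : Subgroup G), u ∉ Cfsg.pCore p G → ∀ v ∈ vOf p G, ⁅u, v⁆ ∈ center G →
      v ∈ (S : Subgroup G) ⊓ centralizer ((S : Subgroup G) : Set G)) ∧
    (∀ g : G, (S : Subgroup G) ⊔ (S : Subgroup G).map (MulAut.conj g).toMonoidHom = ⊤ →
      ((S : Subgroup G) ⊓ centralizer ((S : Subgroup G) : Set G)) ⊓
        ((S : Subgroup G) ⊓ centralizer ((S : Subgroup G) : Set G)).map (MulAut.conj g).toMonoidHom = center G ∧
      ((S : Subgroup G) ⊓ centralizer ((S : Subgroup G) : Set G)) ⊔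
        ((S : Subgroup G) ⊓ centralizer ((S : Subgroup G) : Set G)).map (MulAut.conj g).toMonoidHom = vOf p G) := by
  set Z := (S : Subgroup G) ⊓ centralizer ((S : Subgroup G) : Set G)
  have hS : (S : Subgroup G) ≤ normalizer (Z : Set G) := fun s hs => mem_normalizer_fintype fun x hx => by
    rw [mem_centralizer_iff.1 hx.2 s hs, mul_inv_cancel_right]; exact hx
  obtain ⟨C, hCn, hBC, hCX, hC, hCidx, hXidx, -, hsec, hgen⟩ := h.toRankOne.section_natural
    (A := vOf p G) (B := center G) (X := Z) (Y := Z)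
    ((Cfsg.Lib.Core.pCore_isPGroup p G).to_le vOf_le) h.center_le_vOf
    (commutator_le.2 fun a ha b hb => by
      rw [commutatorElement_eq_one_iff_mul_comm.2 (vOf_comm a ha b hb)]; exact one_mem _)
    h.center_le h.toHyp.center_le_vOf hS h.center_not_normal h.center_le h.toHyp.center_le_vOf
    h.center_relIndex (fun s hs x hx => by
      rw [commutatorElement_eq_one_iff_mul_comm.2 (mem_centralizer_iff.1 hx.2 s hs)]; exact one_mem _)
  have hCc : C = center G := by
    obtain ⟨g, hg⟩ := h.toRankOne.exists_gen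
    refine le_antisymm ?_ hBC
    rw [← (hgen g hg).1]
    rintro z ⟨hz, w, hw, rfl⟩
    refine mem_center_iff.2 fun x => ?_
    refine mem_centralizer_singleton_iff.1 ((hg.ge.trans (sup_le ?_ ?_)) (mem_top x))
    · exact fun s hs => mem_centralizer_singleton_iff.2 (mem_centralizer_iff.1 hz.2 s hs)
    · rintro _ ⟨s, hs, rfl⟩
      refine mem_centralizer_singleton_iff.2 ?_
      rw [← map_mul, ← map_mul, mem_centralizer_iff.1 hw.2 s hs]
  subst hCc
  exact ⟨hXidx, hCidx, hsec, hgen⟩

theorem GData.inf_centralizer_vOf :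
    (S : Subgroup G) ⊓ centralizer (vOf p G : Set G) = Cfsg.pCore p G :=
  le_antisymm (h.toHyp.inf_le_pCore h.not_cover)
    (le_inf (Cfsg.Lib.Core.pCore_le_sylow S) pCore_le_centralizer_vOf)

end

end Cfsg.Lib.Local.PushingUp
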