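import Cfsg.Agent.Lib.Local.PushingUp.Local

/-!
The graph of conjugates, the parameter `b` and critical pairs.
-/

set_option autoImplicit false
set_option linter.style.haveILetI false

namespace Cfsg.Lib.Local.PushingUp

open Subgroup Cfsg.Lib.Local.Baumann
open scoped commutatorElement

variable {X : Type*} [Group X]

/-- Conjugate of a subgroup. -/
def cj (g : X) (H : Subgroup X) : Subgroup X := H.map (MulAut.conj g).toMonoidHom

theorem mem_cj {g x : X} {H : Subgroup X} : x ∈ cj g H ↔ g⁻¹ * x * g ∈ H := by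
  constructor
  · rintro ⟨y, hy, rfl⟩
    show g⁻¹ * (g * y * g⁻¹) * g ∈ H
    simpa [mul_assoc] using hy
  · exact fun h => ⟨_, h, by show g * (g⁻¹ * x * g) * g⁻¹ = x; group⟩

theorem conj_mem_cj {g x : X} {H : Subgroup X} (h : x ∈ H) : g * x * g⁻¹ ∈ cj g H := ⟨x, h, rfl⟩

theorem cj_cj (g h : X) (H : Subgroup X) : cj g (cj h H) = cj (g * h) H := by
  ext x; simp [mem_cj, mul_assoc]

theorem cj_one (H : Subgroup X) : cj 1 H = H := by
  ext x; simp [mem_cj]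

theorem cj_inv_cj (g : X) (H : Subgroup X) : cj g⁻¹ (cj g H) = H := by
  rw [cj_cj, inv_mul_cancel, cj_one]

theorem cj_cj_inv (g : X) (H : Subgroup X) : cj g (cj g⁻¹ H) = H := by
  rw [cj_cj, mul_inv_cancel, cj_one]

theorem cj_mono {g : X} {H K : Subgroup X} (h : H ≤ K) : cj g H ≤ cj g K := map_mono h

theorem cj_sup (g : X) (H K : Subgroup X) : cj g (H ⊔ K) = cj g H ⊔ cj g K := Subgroup.map_sup _ _ _

theorem cj_eq_of_mem {g : X} {H : Subgroup X} (h : g ∈ normalizer (H : Set X)) : cj g H = H :=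
  Cfsg.Lib.Core.map_conj_eq_of_mem_normalizer h

theorem mem_normalizer_of_cj {g : X} {H : Subgroup X} (h : cj g H = H) : g ∈ normalizer (H : Set X) :=
  Cfsg.Lib.Core.mem_normalizer_iff_map_conj.2 h

theorem cj_Zt (g : X) (T : Subgroup X) : cj g (Zt T) = Zt (cj g T) :=
  (map_Zt (MulAut.conj g).injective T).symm

theorem cj_Qv [Finite X] (g : X) (p : ℕ) [Fact p.Prime] (P : Subgroup X) :
    cj g (Qv p P) = Qv p (cj g P) :=
  (Qv_map (MulAut.conj g).injective p P).symm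

theorem cj_Vv [Finite X] (g : X) (p : ℕ) [Fact p.Prime] (P : Subgroup X) :
    cj g (Vv p P) = Vv p (cj g P) := by
  rw [Vv, Vv, ← cj_Qv]
  exact map_inf_centralizer (MulAut.conj g).injective _ _

theorem cj_centralizer_le {g : X} {H : Subgroup X} (h : g ∈ H) : cj g H = H :=
  cj_eq_of_mem (le_normalizer h)

/-- The ambient data: a vertex, an edge, and freeness. -/
structure Amalgam (p q : ℕ) (T₀ P₀ : Subgroup X) : Prop where
  loc : ∀ g : X, LocalData p q (cj g T₀) (cj g P₀)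
  free : ∀ N : Subgroup X, N ≤ T₀ → P₀ ≤ normalizer (N : Set X) →
    normalizer (T₀ : Set X) ≤ normalizer (N : Set X) → N = ⊥
  one_lt : 1 < q

/-- Incidence. -/
def Edge (T₀ P₀ T P : Subgroup X) : Prop := ∃ g : X, T = cj g T₀ ∧ P = cj g P₀

/-- A vertex. -/
def Vertex (T₀ P₀ P : Subgroup X) : Prop := ∃ T, Edge T₀ P₀ T P

/-- Adjacency. -/
def Adj (T₀ P₀ P R : Subgroup X) : Prop := ∃ T, Edge T₀ P₀ T P ∧ Edge T₀ P₀ T R

/-- Walks of length `k`. -/
def Near (T₀ P₀ : Subgroup X) : ℕ → Subgroup X → Subgroup X → Prop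
  | 0, P, R => Vertex T₀ P₀ P ∧ P = R
  | k + 1, P, R => ∃ M, Adj T₀ P₀ P M ∧ Near T₀ P₀ k M R

section
variable {T₀ P₀ : Subgroup X} {T P R : Subgroup X} {p q : ℕ}

theorem Edge.loc (A : Amalgam p q T₀ P₀) (h : Edge T₀ P₀ T P) : LocalData p q T P := by
  obtain ⟨g, rfl, rfl⟩ := h
  exact A.loc g

theorem Edge.base : Edge T₀ P₀ T₀ P₀ := ⟨1, (cj_one _).symm, (cj_one _).symm⟩

theorem Edge.conj (h : Edge T₀ P₀ T P) (g : X) : Edge T₀ P₀ (cj g T) (cj g P) := by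
  obtain ⟨c, rfl, rfl⟩ := h
  exact ⟨g * c, cj_cj g c _, cj_cj g c _⟩

theorem Edge.move (h : Edge T₀ P₀ T P) {g : X} (hg : g ∈ P) : Edge T₀ P₀ (cj g T) P := by
  have := h.conj g
  rwa [cj_centralizer_le hg] at this

theorem Edge.turn (h : Edge T₀ P₀ T P) {g : X} (hg : g ∈ normalizer (T : Set X)) :
    Edge T₀ P₀ T (cj g P) := by
  have := h.conj g
  rwa [cj_eq_of_mem hg] at this

theorem Edge.trans (h : Edge T₀ P₀ T P) {T' R : Subgroup X} (h' : Edge T₀ P₀ T' R) :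
    ∃ g, cj g T = T' ∧ cj g P = R := by
  obtain ⟨c, rfl, rfl⟩ := h
  obtain ⟨d, rfl, rfl⟩ := h'
  exact ⟨d * c⁻¹, by rw [cj_cj, inv_mul_cancel_right], by rw [cj_cj, inv_mul_cancel_right]⟩

theorem Adj.symm (h : Adj T₀ P₀ P R) : Adj T₀ P₀ R P := by
  obtain ⟨T, h1, h2⟩ := h
  exact ⟨T, h2, h1⟩

theorem Adj.conj (h : Adj T₀ P₀ P R) (g : X) : Adj T₀ P₀ (cj g P) (cj g R) := by
  obtain ⟨T, h1, h2⟩ := h
  exact ⟨_, h1.conj g, h2.conj g⟩

theorem Adj.left (h : Adj T₀ P₀ P R) : Vertex T₀ P₀ P := ⟨_, h.choose_spec.1⟩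

theorem Adj.right (h : Adj T₀ P₀ P R) : Vertex T₀ P₀ R := h.symm.left

theorem Near.left {k : ℕ} (h : Near T₀ P₀ k P R) : Vertex T₀ P₀ P := by
  cases k with
  | zero => exact h.1
  | succ k => obtain ⟨M, hM, -⟩ := h; exact hM.left

theorem Near.snoc {k : ℕ} : ∀ {P R M : Subgroup X}, Near T₀ P₀ k P R → Adj T₀ P₀ R M →
    Near T₀ P₀ (k + 1) P M := by
  induction k with
  | zero => rintro P R M ⟨-, rfl⟩ h; exact ⟨M, h, h.right, rfl⟩
  | succ k ih => rintro P R M ⟨N, h1, h2⟩ h; exact ⟨N, h1, ih h2 h⟩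

theorem Near.symm {k : ℕ} : ∀ {P R : Subgroup X}, Near T₀ P₀ k P R → Near T₀ P₀ k R P := by
  induction k with
  | zero => rintro P R ⟨h, rfl⟩; exact ⟨h, rfl⟩
  | succ k ih => rintro P R ⟨N, h1, h2⟩; exact (ih h2).snoc h1.symm

theorem Near.conj {k : ℕ} : ∀ {P R : Subgroup X}, Near T₀ P₀ k P R → ∀ g : X,
    Near T₀ P₀ k (cj g P) (cj g R) := by
  induction k with
  | zero => rintro P R ⟨⟨T, h⟩, rfl⟩ g; exact ⟨⟨_, h.conj g⟩, rfl⟩
  | succ k ih => rintro P R ⟨N, h1, h2⟩ g; exact ⟨_, h1.conj g, ih h2 g⟩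

theorem Near.pad {k : ℕ} (h : Near T₀ P₀ k P R) : Near T₀ P₀ (k + 1) P R := by
  obtain ⟨T, hT⟩ := h.left
  exact ⟨P, ⟨T, hT, hT⟩, h⟩

theorem Near.exists_walk {k : ℕ} : ∀ {P R : Subgroup X}, Near T₀ P₀ k P R →
    ∃ f e : ℕ → Subgroup X, f 0 = P ∧ f k = R ∧
      ∀ i < k, Edge T₀ P₀ (e i) (f i) ∧ Edge T₀ P₀ (e i) (f (i + 1)) := by
  induction k with
  | zero => rintro P R ⟨-, rfl⟩; exact ⟨fun _ => P, fun _ => P, rfl, rfl, fun i hi => absurd hi (Nat.not_lt_zero i)⟩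
  | succ k ih =>
    rintro P R ⟨M, ⟨T, hT1, hT2⟩, h2⟩
    obtain ⟨f, e, hf0, hfk, hfe⟩ := ih h2
    refine ⟨fun i => i.casesOn P f, fun i => i.casesOn T e, rfl, hfk, fun i hi => ?_⟩
    cases i with
    | zero => exact ⟨hT1, by show Edge T₀ P₀ T (f 0); rw [hf0]; exact hT2⟩
    | succ i => exact hfe i (by omega)

theorem near_of_walk {f e : ℕ → Subgroup X} {L : ℕ}
    (h : ∀ i < L, Edge T₀ P₀ (e i) (f i) ∧ Edge T₀ P₀ (e i) (f (i + 1))) :
    ∀ {k i : ℕ}, i + k ≤ L → 0 < L → Near T₀ P₀ k (f i) (f (i + k)) := by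
  intro k
  induction k with
  | zero =>
    intro i hi hL
    refine ⟨?_, rfl⟩
    by_cases hiL : i < L
    · exact ⟨_, (h i hiL).1⟩
    · obtain rfl : i = (L - 1) + 1 := by omega
      exact ⟨_, (h (L - 1) (by omega)).2⟩
  | succ k ih =>
    intro i hi hL
    have := ih (i := i + 1) (by omega) hL
    rw [show i + 1 + k = i + (k + 1) by omega] at this
    exact ⟨f (i + 1), ⟨e i, h i (by omega)⟩, this⟩

end

section Facts
variable [Finite X] {T₀ P₀ : Subgroup X} {T P R : Subgroup X} {p q : ℕ} [Fact p.Prime]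
  (A : Amalgam p q T₀ P₀)
include A

theorem Amalgam.other_edge (h : Edge T₀ P₀ T P) {T' : Subgroup X} (h' : Edge T₀ P₀ T' P) :
    ∃ g ∈ P, cj g T = T' := by
  obtain ⟨c, hcT, -⟩ := h.trans h'
  obtain ⟨g, hg, hle⟩ := (h.loc A).sylow T' (h'.loc A).le (h'.loc A).pgroup
  refine ⟨g⁻¹, inv_mem hg, ?_⟩
  have hle' : cj g T' ≤ T := hle
  have hcard : Nat.card ↥(cj g T') = Nat.card T := by
    rw [← hcT, cj_cj]
    exact card_map_of_injective (MulAut.conj (g * c)).injective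
  rw [← eq_of_le_of_card_ge hle' hcard.ge, cj_inv_cj]

end Facts

end Cfsg.Lib.Local.PushingUp
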