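import Cfsg.Agent.Lib.Local.PushingUp.GFacts
import Cfsg.Agent.Lib.Local.PushingUp.Braid
import Cfsg.Prelude.Def_Amalgam

/-!
The facts about one vertex and one of its edges, inside an ambient group.
-/

set_option autoImplicit false
set_option linter.style.haveILetI false

namespace Cfsg.Lib.Local.PushingUp

open Subgroup Cfsg.Lib.Local.Baumann
open scoped commutatorElement

section Defs

variable {X : Type*} [Group X]

/-- `O_p` of a vertex. -/
def Qv (p : ℕ) (P : Subgroup X) : Subgroup X := Cfsg.pCoreOf p P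

/-- `Z(O_p)` of a vertex. -/
def Vv (p : ℕ) (P : Subgroup X) : Subgroup X := Qv p P ⊓ centralizer (Qv p P : Set X)

/-- The centre of a subgroup, inside the ambient group. -/
def Zt (T : Subgroup X) : Subgroup X := T ⊓ centralizer (T : Set X)

theorem Zt_le (T : Subgroup X) : Zt T ≤ T := inf_le_left

theorem Vv_le_Qv (p : ℕ) (P : Subgroup X) : Vv p P ≤ Qv p P := inf_le_left

theorem Qv_le (p : ℕ) (P : Subgroup X) : Qv p P ≤ P := map_subtype_le _

theorem mem_Zt_comm {T : Subgroup X} {z t : X} (hz : z ∈ Zt T) (ht : t ∈ T) : t * z = z * t :=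
  mem_centralizer_iff.1 hz.2 t ht

theorem Vv_comm_Qv {p : ℕ} {P : Subgroup X} {v x : X} (hv : v ∈ Vv p P) (hx : x ∈ Qv p P) :
    x * v = v * x :=
  mem_centralizer_iff.1 hv.2 x hx

end Defs

section Transport

variable {G : Type*} [Group G] {X : Type*} [Group X] {φ : G →* X} (hφ : Function.Injective φ)
include hφ

theorem map_inf_centralizer (A B : Subgroup G) :
    (A ⊓ centralizer (B : Set G)).map φ = A.map φ ⊓ centralizer (B.map φ : Set X) := by
  ext x
  constructor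
  · rintro ⟨a, ⟨ha, ha'⟩, rfl⟩
    refine ⟨mem_map_of_mem φ ha, mem_centralizer_iff.2 ?_⟩
    rintro _ ⟨b, hb, rfl⟩
    rw [← map_mul, ← map_mul, mem_centralizer_iff.1 ha' b hb]
  · rintro ⟨⟨a, ha, rfl⟩, hx⟩
    refine ⟨a, ⟨ha, mem_centralizer_iff.2 fun b hb => hφ ?_⟩, rfl⟩
    rw [map_mul, map_mul]
    exact mem_centralizer_iff.1 hx _ ⟨b, hb, rfl⟩

theorem map_Zt (A : Subgroup G) : Zt (A.map φ) = (A ⊓ centralizer (A : Set G)).map φ :=
  (map_inf_centralizer hφ A A).symm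

theorem Qv_map [Finite G] (p : ℕ) [Fact p.Prime] (A : Subgroup G) :
    Qv p (A.map φ) = (Cfsg.pCoreOf p A).map φ := by
  haveI : Finite ↥(A.map φ) := Finite.of_equiv _ (A.equivMapOfInjective φ hφ).toEquiv
  have e := Cfsg.Lib.Core.map_pCore_equiv (p := p) (A.equivMapOfInjective φ hφ)
  rw [Qv, Cfsg.pCoreOf, Cfsg.pCoreOf, ← e, Subgroup.map_map, Subgroup.map_map]
  rfl

theorem Qv_range [Finite G] (p : ℕ) [Fact p.Prime] :
    Qv p φ.range = (Cfsg.pCore p G).map φ := by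
  rw [MonoidHom.range_eq_map, Qv_map hφ, Cfsg.pCoreOf]
  congr 1
  exact Cfsg.Lib.Core.map_pCore_equiv (Subgroup.topEquiv (G := G))

theorem Vv_range [Finite G] (p : ℕ) [Fact p.Prime] : Vv p φ.range = (vOf p G).map φ := by
  rw [Vv, Qv_range hφ, vOf, map_inf_centralizer hφ]

theorem Zt_range : Zt φ.range = (center G).map φ := by
  rw [MonoidHom.range_eq_map, map_Zt hφ, top_inf_eq, coe_top, centralizer_univ]

theorem le_normalizer_map_iff (H N : Subgroup G) :
    H.map φ ≤ normalizer (N.map φ : Set X) ↔ H ≤ normalizer (N : Set G) := by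
  rw [Cfsg.Lib.Core.le_normalizer_iff_conj_mem, Cfsg.Lib.Core.le_normalizer_iff_conj_mem]
  constructor
  · intro H' h hh k hk
    have := H' _ (mem_map_of_mem φ hh) _ (mem_map_of_mem φ hk)
    rwa [← map_inv, ← map_mul, ← map_mul, mem_map_iff_mem hφ] at this
  · rintro H' _ ⟨h, hh, rfl⟩ _ ⟨k, hk, rfl⟩
    rw [← map_inv, ← map_mul, ← map_mul]
    exact mem_map_of_mem φ (H' h hh k hk)

end Transport

/-- What is known about an edge `T` at a vertex `P`. -/
structure LocalData {X : Type*} [Group X] (p q : ℕ) (T P : Subgroup X) : Prop where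
  le : T ≤ P
  pgroup : IsPGroup p T
  sylow : ∀ U : Subgroup X, U ≤ P → IsPGroup p U → ∃ g ∈ P, U.map (MulAut.conj g).toMonoidHom ≤ T
  core_le : Qv p P ≤ T
  norm_core : P ≤ normalizer (Qv p P : Set X)
  norm_V : P ≤ normalizer (Vv p P : Set X)
  center_le_V : Zt T ≤ Vv p P
  D_le_center : Zt P ≤ Zt T
  V_pow : ∀ v ∈ Vv p P, v ^ p = 1
  cent_V : T ⊓ centralizer (Vv p P : Set X) = Qv p P
  index_core : (Qv p P).relIndex T = q
  index_center : (Zt T).relIndex (Vv p P) = q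
  index_D : (Zt P).relIndex (Vv p P) = q * q
  fix : ∀ u ∈ T, u ∉ Qv p P → ∀ v ∈ Vv p P, ⁅u, v⁆ ∈ Zt P → v ∈ Zt T
  center_not_norm : ¬ P ≤ normalizer (Zt T : Set X)
  label : ∃ lab : X → Option (Fin q), (∀ o, ∃ g ∈ P, lab g = o) ∧ ∀ a ∈ P, ∀ c ∈ P,
    (lab a ≠ lab c ↔ T.map (MulAut.conj a).toMonoidHom ⊔ T.map (MulAut.conj c).toMonoidHom = P)
  braid : ∀ g ∈ P, T ⊔ T.map (MulAut.conj g).toMonoidHom = P → ∀ x ∈ T, x ∉ Qv p P →
    ∃ y ∈ T.map (MulAut.conj g).toMonoidHom,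
      (∀ r s : ℕ, r * s % p = 1 →
        T.map (MulAut.conj (x ^ s * y ^ r * x ^ s)).toMonoidHom ⊔ T.map (MulAut.conj g).toMonoidHom ≠ P ∧
        T.map (MulAut.conj (x ^ s * y ^ r * x ^ s * g)).toMonoidHom ⊔ T ≠ P) ∧
      (∀ r : ℕ, r * 2 % p = 1 → ∀ N : Subgroup X, P ≤ normalizer (N : Set X) → Qv p P ≤ N → N ≤ P →
        (x ^ 2 * y ^ r * x ^ 2 * (x * y * x) * x * (x ^ 2 * y ^ r * x ^ 2 * (x * y * x))⁻¹ * (x ^ 4)⁻¹) ^ p ∈ N →
        x ^ 2 * y ^ r * x ^ 2 * (x * y * x) * x * (x ^ 2 * y ^ r * x ^ 2 * (x * y * x))⁻¹ * (x ^ 4)⁻¹ ∈ N)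
  exists_gen : ∃ g ∈ P, T ⊔ T.map (MulAut.conj g).toMonoidHom = P
  gen : ∀ g ∈ P, T ⊔ T.map (MulAut.conj g).toMonoidHom = P →
    Zt T ⊓ (Zt T).map (MulAut.conj g).toMonoidHom = Zt P ∧
      Zt T ⊔ (Zt T).map (MulAut.conj g).toMonoidHom = Vv p P
  sect : ∀ A B W Y : Subgroup X, A ≤ Qv p P → P ≤ normalizer (A : Set X) → P ≤ normalizer (B : Set X) →
    B ≤ A → ⁅A, A⁆ ≤ B → B ≤ Y → Y ≤ A → T ≤ normalizer (Y : Set X) → ¬ P ≤ normalizer (Y : Set X) →
    B ≤ W → W ≤ A → W.relIndex A ≤ q → (∀ t ∈ T, ∀ x ∈ W, ⁅t, x⁆ ∈ B) →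
    ∃ C : Subgroup X, P ≤ normalizer (C : Set X) ∧ B ≤ C ∧ C ≤ W ∧
      (∀ a, a ∈ C ↔ a ∈ A ∧ ∀ g ∈ P, ⁅g, a⁆ ∈ B) ∧ C.relIndex A = q * q ∧ W.relIndex A = q ∧
      ¬ P ≤ normalizer (W : Set X) ∧ (∀ u ∈ T, u ∉ Qv p P → ∀ a ∈ A, ⁅u, a⁆ ∈ C → a ∈ W) ∧
      (∀ g ∈ P, T ⊔ T.map (MulAut.conj g).toMonoidHom = P →
        W ⊓ W.map (MulAut.conj g).toMonoidHom = C ∧ W ⊔ W.map (MulAut.conj g).toMonoidHom = A)

variable {G : Type*} [Group G] [Finite G] {p : ℕ} [Fact p.Prime] {S : Sylow p G} {F : Type} [Field F]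
  [Fintype F] {n : ℕ} {K : Subgroup G} [K.Normal]

theorem RankOne.ker_mem (h : RankOne S F n K) {N : Subgroup G} [N.Normal] (hQN : Cfsg.pCore p G ≤ N)
    {k : G} (hk : k ∈ K) (hkp : k ^ p ∈ N) : k ∈ N := by
  obtain ⟨a, m, hm, hom⟩ := Nat.exists_eq_pow_mul_and_not_dvd (orderOf_pos k).ne' p (Fact.out : p.Prime).ne_one
  have hkm : (k ^ m) ^ p ^ a = 1 := by rw [← pow_mul, mul_comm, ← hom, pow_orderOf_eq_one]
  have hmN : k ^ m ∈ N := by
    have hp : IsPGroup p (zpowers (k ^ m)) := by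
      rintro ⟨z, i, rfl⟩
      exact ⟨a, Subtype.ext (show ((k ^ m) ^ i) ^ p ^ a = 1 by
        rw [← zpow_natCast, ← zpow_mul, mul_comm, zpow_mul, zpow_natCast, hkm, one_zpow])⟩
    obtain ⟨P', hP'⟩ := hp.exists_le_sylow
    obtain ⟨c, hc⟩ := MulAction.exists_smul_eq G P' S
    have hcS : c * k ^ m * c⁻¹ ∈ (S : Subgroup G) := by
      rw [← hc, Sylow.coe_subgroup_smul]
      exact ⟨k ^ m, hP' (mem_zpowers _), rfl⟩
    have hcQ := hQN (h.inf_le_pCore h.ker_sup_ne_top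
      ⟨hcS, (inferInstance : K.Normal).conj_mem _ (pow_mem hk m) c⟩)
    simpa [mul_assoc] using (inferInstance : N.Normal).conj_mem _ hcQ c⁻¹
  have hg := (pow_gcd_eq_one (a := QuotientGroup.mk' N k) (m := p) (n := m)).2
    ⟨by rw [← map_pow]; exact (QuotientGroup.eq_one_iff _).2 hkp,
      by rw [← map_pow]; exact (QuotientGroup.eq_one_iff _).2 hmN⟩
  rw [((Fact.out : p.Prime).coprime_iff_not_dvd.2 hm).gcd_eq_one, pow_one] at hg
  exact (QuotientGroup.eq_one_iff _).1 hg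

theorem GData.localData (h : GData S F n K) {X : Type*} [Group X] {φ : G →* X}
    (hφ : Function.Injective φ) : LocalData p (p ^ n) ((S : Subgroup G).map φ) φ.range := by
  have hQ := Qv_range hφ p
  have hV := Vv_range hφ p
  have hD := Zt_range hφ
  have hZ := map_Zt hφ (S : Subgroup G)
  have hrange : φ.range = (⊤ : Subgroup G).map φ := MonoidHom.range_eq_map φ
  have hconj : ∀ (N : Subgroup G) (g : G), (N.map φ).map (MulAut.conj (φ g)).toMonoidHom =
      (N.map (MulAut.conj g).toMonoidHom).map φ := fun N g => by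
    rw [Subgroup.map_map, Subgroup.map_map]
    congr 1
    ext x
    simp
  have hmapinf : ∀ A B : Subgroup G, A.map φ ⊓ B.map φ = (A ⊓ B).map φ := fun A B =>
    (map_inf_eq A B φ hφ).symm
  have hgen : ∀ g : G, ((S : Subgroup G).map φ ⊔ ((S : Subgroup G).map φ).map (MulAut.conj (φ g)).toMonoidHom
      = φ.range) ↔ (S : Subgroup G) ⊔ (S : Subgroup G).map (MulAut.conj g).toMonoidHom = ⊤ := fun g => by
    rw [hconj, ← Subgroup.map_sup, hrange]
    exact (map_injective hφ).eq_iff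
  obtain ⟨hs1, hs2, hs3, hs4⟩ := h.vOf_section
  refine
    { le := map_le_range _ _
      pgroup := S.2.map φ
      sylow := ?_
      core_le := hQ ▸ map_mono (Cfsg.Lib.Core.pCore_le_sylow S)
      norm_core := ?_
      norm_V := ?_
      center_le_V := ?_
      D_le_center := ?_
      V_pow := ?_
      cent_V := ?_
      index_core := ?_
      index_center := ?_
      index_D := ?_
      fix := ?_
      center_not_norm := ?_
      label := ?_
      braid := ?_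
      exists_gen := ?_
      gen := ?_
      sect := ?_ }
  · intro U hU hUp
    obtain ⟨U, rfl⟩ : ∃ U' : Subgroup G, U'.map φ = U := ⟨_, map_comap_eq_self hU⟩
    obtain ⟨P, hP⟩ := (hUp.of_equiv (U.equivMapOfInjective φ hφ).symm : IsPGroup p U).exists_le_sylow
    obtain ⟨g, hg⟩ := MulAction.exists_smul_eq G P S
    refine ⟨φ g, ⟨g, rfl⟩, ?_⟩
    rw [hconj]
    refine map_mono ?_
    rw [← hg, Sylow.coe_subgroup_smul]
    exact map_mono hP
  · rw [hQ, hrange, le_normalizer_map_iff hφ, normalizer_eq_top]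
  · rw [hV, hrange, le_normalizer_map_iff hφ, normalizer_eq_top]
  · rw [hV, hZ]; exact map_mono h.toHyp.center_le_vOf
  · rw [hD, hZ]; exact map_mono h.center_le
  · rw [hV]; rintro _ ⟨v, hv, rfl⟩; rw [← map_pow, h.vOf_pow v hv, map_one]
  · rw [hV, hQ, ← map_inf_centralizer hφ, h.inf_centralizer_vOf]
  · rw [hQ, relIndex_map_map_of_injective _ _ hφ, h.relIndex_pCore]
  · rw [hV, hZ, relIndex_map_map_of_injective _ _ hφ, hs1]
  · rw [hV, hD, relIndex_map_map_of_injective _ _ hφ, hs2, two_mul, pow_add]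
  · rw [hQ, hV, hD, hZ]
    rintro _ ⟨u, hu, rfl⟩ hu' _ ⟨v, hv, rfl⟩ huv
    rw [← map_commutatorElement, mem_map_iff_mem hφ] at huv
    exact mem_map_of_mem φ (hs3 u hu (fun hc => hu' (mem_map_of_mem φ hc)) v hv huv)
  · rw [hZ, hrange, le_normalizer_map_iff hφ]
    exact fun e => h.center_not_normal (normalizer_eq_top_iff.1 (top_le_iff.1 e))
  · obtain ⟨lab, hsurj, hlab⟩ := h.toRankOne.exists_label
    classical
    let ε : F ≃ Fin (p ^ n) := (Fintype.equivFin F).trans (finCongr h.card)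
    let lab' : X → Option (Fin (p ^ n)) := fun x =>
      Option.map ε (lab (if hx : x ∈ φ.range then hx.choose else 1))
    have hlab' : ∀ g : G, lab' (φ g) = Option.map ε (lab g) := fun g => by
      have hx : φ g ∈ φ.range := ⟨g, rfl⟩
      show Option.map ε (lab (if hx : φ g ∈ φ.range then hx.choose else 1)) = _
      rw [dif_pos hx, hφ hx.choose_spec]
    refine ⟨lab', fun o => ?_, ?_⟩
    · obtain ⟨g, hg⟩ := hsurj (Option.map ε.symm o)
      refine ⟨φ g, ⟨g, rfl⟩, ?_⟩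
      rw [hlab', hg, Option.map_map, Equiv.self_comp_symm, Option.map_id]
      rfl
    · rintro _ ⟨a, rfl⟩ _ ⟨c, rfl⟩
      rw [hlab', hlab', (Option.map_injective ε.injective).ne_iff, hlab, hconj, hconj, ← Subgroup.map_sup,
        hrange]
      exact (map_injective hφ).eq_iff.symm
  · rw [hQ]
    rintro _ ⟨g, rfl⟩ hg _ ⟨x, hx, rfl⟩ hxQ
    obtain ⟨y, hy, hw, hk⟩ := h.toRankOne.braid ((hgen g).1 hg) hx (fun hc => hxQ (mem_map_of_mem φ hc))
    haveI := h.toRankOne.charP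
    have hcast : ∀ r s : ℕ, r * s % p = 1 → (r * s : F) = 1 := fun r s hrs => by
      rw [← Nat.cast_mul, ← Nat.mod_add_div (r * s) p, hrs]
      simp
    refine ⟨φ y, hconj (S : Subgroup G) g ▸ mem_map_of_mem φ hy, fun r s hrs => ?_, fun r hr N hN hQN hNP hk' => ?_⟩
    · obtain ⟨e1, e2⟩ := hw r s (hcast r s hrs)
      simp only [← map_pow, ← map_mul]
      rw [hconj, hconj, hconj, ← Subgroup.map_sup, ← Subgroup.map_sup, hrange]
      exact ⟨fun e => e1 (map_injective hφ e), fun e => e2 (map_injective hφ e)⟩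
    · obtain ⟨N, rfl⟩ : ∃ N' : Subgroup G, N'.map φ = N := ⟨_, map_comap_eq_self hNP⟩
      rw [hrange, le_normalizer_map_iff hφ] at hN
      rw [map_le_map_iff_of_injective hφ] at hQN
      haveI : N.Normal := normalizer_eq_top_iff.1 (top_le_iff.1 hN)
      simp only [← map_pow, ← map_mul, ← map_inv] at hk' ⊢
      rw [mem_map_iff_mem hφ] at hk'
      exact mem_map_of_mem φ (h.toRankOne.ker_mem hQN (hk r (by exact_mod_cast hcast r 2 hr)) hk')
  · obtain ⟨g, hg⟩ := h.toRankOne.exists_gen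
    exact ⟨φ g, ⟨g, rfl⟩, (hgen g).2 hg⟩
  · rintro _ ⟨g, rfl⟩ hg
    obtain ⟨e1, e2⟩ := hs4 g ((hgen g).1 hg)
    rw [hZ, hconj, hmapinf, ← Subgroup.map_sup, e1, e2, hD, hV]
    exact ⟨rfl, rfl⟩
  · intro A B W Y hA hAn hBn hBA hAA hBY hYA hYn hY hBW hWA hW hfix
    have hpull : ∀ {N : Subgroup X}, N ≤ A → (N.comap φ).map φ = N := fun hN =>
      map_comap_eq_self (hN.trans (hA.trans (Qv_le p _)))
    obtain ⟨A, rfl⟩ : ∃ A' : Subgroup G, A'.map φ = A := ⟨_, hpull le_rfl⟩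
    obtain ⟨B, rfl⟩ : ∃ B' : Subgroup G, B'.map φ = B := ⟨_, hpull hBA⟩
    obtain ⟨Y, rfl⟩ : ∃ Y' : Subgroup G, Y'.map φ = Y := ⟨_, hpull hYA⟩
    obtain ⟨W, rfl⟩ : ∃ W' : Subgroup G, W'.map φ = W := ⟨_, hpull hWA⟩
    rw [hrange, le_normalizer_map_iff hφ] at hAn hBn hY
    rw [le_normalizer_map_iff hφ] at hYn
    rw [← map_commutator, map_le_map_iff_of_injective hφ] at hAA
    rw [map_le_map_iff_of_injective hφ] at hBA hBY hYA hBW hWA
    rw [relIndex_map_map_of_injective _ _ hφ] at hW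
    rw [hQ, map_le_map_iff_of_injective hφ] at hA
    haveI : A.Normal := normalizer_eq_top_iff.1 (top_le_iff.1 hAn)
    haveI : B.Normal := normalizer_eq_top_iff.1 (top_le_iff.1 hBn)
    obtain ⟨C, hCn, c1, c2, c3, c4, c5, c6, c7, c8⟩ := h.toRankOne.section_natural
      ((Cfsg.Lib.Core.pCore_isPGroup p G).to_le hA) hBA hAA hBY hYA hYn
      (fun e => hY (normalizer_eq_top_iff.2 e).ge) hBW hWA hW (fun s hs x hx => by
        have := hfix _ (mem_map_of_mem φ hs) _ (mem_map_of_mem φ hx)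
        rwa [← map_commutatorElement, mem_map_iff_mem hφ] at this)
    refine ⟨C.map φ, ?_, map_mono c1, map_mono c2, fun a => ?_, ?_, ?_, ?_, ?_, ?_⟩
    · rw [hrange, le_normalizer_map_iff hφ, normalizer_eq_top]
    · constructor
      · rintro ⟨a, ha, rfl⟩
        rw [c3, SetLike.mem_coe, mem_fixMod] at ha
        refine ⟨mem_map_of_mem φ ha.1, ?_⟩
        rintro _ ⟨g, rfl⟩
        rw [← map_commutatorElement]
        exact mem_map_of_mem φ (ha.2 g (Set.mem_univ g))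
      · rintro ⟨⟨a, ha, rfl⟩, ha'⟩
        refine mem_map_of_mem φ ?_
        rw [c3, mem_fixMod]
        refine ⟨ha, fun g _ => ?_⟩
        have := ha' _ ⟨g, rfl⟩
        rwa [← map_commutatorElement, mem_map_iff_mem hφ] at this
    · rw [relIndex_map_map_of_injective _ _ hφ, c4, two_mul, pow_add]
    · rw [relIndex_map_map_of_injective _ _ hφ, c5]
    · rw [hrange, le_normalizer_map_iff hφ]
      exact fun e => c6 (normalizer_eq_top_iff.1 (top_le_iff.1 e))
    · rw [hQ]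
      rintro _ ⟨u, hu, rfl⟩ hu' _ ⟨a, ha, rfl⟩ hua
      rw [← map_commutatorElement, mem_map_iff_mem hφ] at hua
      exact mem_map_of_mem φ (c7 u hu (fun hc => hu' (mem_map_of_mem φ hc)) a ha hua)
    · rintro _ ⟨g, rfl⟩ hg
      obtain ⟨e1, e2⟩ := c8 g ((hgen g).1 hg)
      rw [hconj, hmapinf, ← Subgroup.map_sup, e1, e2]
      exact ⟨rfl, rfl⟩

end Cfsg.Lib.Local.PushingUp
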