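import Cfsg.Agent.Lib.Local.PushingUp.NatMain
import Cfsg.Agent.Lib.Local.QdOver
import Cfsg.Agent.Lib.Linear.SLPerfect
import Cfsg.Agent.Lib.Concrete.SLTwoMultiplier
import Cfsg.Agent.Lib.PGroup.Basic
import Cfsg.Agent.Lib.Local.Basic
import Cfsg.Prelude.Def_TwoFusion

/-!
Pushing up inside a maximal local subgroup, `p ≥ 5`.
-/

set_option autoImplicit false
set_option linter.style.haveILetI false

namespace Cfsg.Lib.Local.PushingUp

open Subgroup Cfsg.Lib.Local.Baumann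
open scoped commutatorElement Matrix

variable {G : Type*} [Group G] [Finite G] {p : ℕ} [Fact p.Prime] {S : Sylow p G} {F : Type} [Field F]
  [Fintype F] {n : ℕ} {K : Subgroup G} [K.Normal]

/-- The structure of the group for `p ≥ 5`. -/
theorem GData.of_five_le (h : GData S F n K) (hp : 5 ≤ p) :
    (∀ a ∈ (S : Subgroup G), ∀ c ∈ (S : Subgroup G),
      ⁅a, c⁆ ∈ (S : Subgroup G) ⊓ centralizer ((S : Subgroup G) : Set G)) ∧
    (∀ a ∈ (S : Subgroup G), a ^ p = 1) ∧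
    ∀ a ∈ Cfsg.pCore p G, ∀ c : G, ⁅a, c⁆ ∈ vOf p G := by
  have hι := regEmb_injective (G := G)
  set ι := regEmb G with hιdef
  have A := h.amalgam
  obtain ⟨b, hb⟩ := A.exists_b
  have h2b : b ≤ 2 := A.b_le_two hb
  rcases (show b = 1 ∨ b = 2 by have := hb.pos; omega) with rfl | rfl
  · obtain ⟨h1, hodd, -, hQV⟩ := A.b_one hb
    refine ⟨fun a ha c hc => ?_, fun a ha => hι ?_, fun a ha c => ?_⟩
    · have := h1 _ (mem_map_of_mem ι ha) _ (mem_map_of_mem ι hc)
      rwa [map_Zt hι, ← map_commutatorElement, mem_map_iff_mem hι] at this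
    · rw [map_pow, map_one]
      exact hodd (by omega) _ (mem_map_of_mem ι ha)
    · have := hQV (ι a) (Qv_range hι p ▸ mem_map_of_mem ι ha) (ι c) ⟨c, rfl⟩
      rwa [Vv_range hι p, ← map_commutatorElement, mem_map_iff_mem hι] at this
  · obtain ⟨Nm, N, R, T', T2, U, W, C, g, ht⟩ := A.exists_two hb
    have := ht.prime_eq A hb
    omega

/-- An element acting as `-1` on the natural module, and what it splits. -/
structure Split (p : ℕ) (G : Type*) [Group G] (F : Type) [Field F] (ρ : G →* Matrix.SpecialLinearGroup (Fin 2) F)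
    (t : G) (M : Subgroup G) : Prop where
  sq : t * t = 1
  le : M ≤ vOf p G
  normal : M.Normal
  inv : ∀ v ∈ M, t * v * t⁻¹ = v⁻¹
  fixV : ∀ v ∈ vOf p G, t * v = v * t → v ∈ center G
  coverV : ∀ v ∈ vOf p G, ∃ m ∈ M, ∃ d ∈ center G, v = m * d
  coverQ : ∀ a ∈ Cfsg.pCore p G, ∃ m ∈ M, ∃ e ∈ Cfsg.pCore p G, t * e = e * t ∧ a = m * e
  cover : ∀ g : G, ∃ a ∈ Cfsg.pCore p G, ∃ c : G, t * c = c * t ∧ g = a * c
  disj : ∀ v ∈ M, v ∈ center G → v = 1

theorem exists_split (h : GData S F n K) (hp : 5 ≤ p) {ρ : G →* Matrix.SpecialLinearGroup (Fin 2) F}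
    (hρ : Function.Surjective ρ) (hker : ρ.ker = Cfsg.pCore p G) (hnat : NatSection ρ (center G) (vOf p G)) :
    ∃ t M, Split p G F ρ t M := by
  haveI := h.toRankOne.charP
  obtain ⟨-, hexp, hQV⟩ := h.of_five_le hp
  have hQS : Cfsg.pCore p G ≤ (S : Subgroup G) := Cfsg.Lib.Core.pCore_le_sylow S
  have hQp : ∀ a ∈ Cfsg.pCore p G, a ^ p = 1 := fun a ha => hexp a (hQS ha)
  have hodd : Odd p := (Fact.out : p.Prime).odd_of_ne_two (by omega)
  obtain ⟨k, hk⟩ := hodd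
  set r := k + 1 with hr
  have hrr : r + r = p + 1 := by omega
  let J : Matrix.SpecialLinearGroup (Fin 2) F := ⟨-1, by simp [Matrix.det_neg]⟩
  have hJJ : J * J = 1 := Subtype.ext (show (-1 : Matrix (Fin 2) (Fin 2) F) * -1 = 1 by simp)
  obtain ⟨m₀, hm₀⟩ := hρ J
  have hm2 : m₀ * m₀ ∈ Cfsg.pCore p G := hker ▸ MonoidHom.mem_ker.2 (by rw [map_mul, hm₀, hJJ])
  set t := m₀ ^ p with ht
  have htt : t * t = 1 := by
    rw [ht, ← (Commute.refl m₀).mul_pow]
    exact hQp _ hm2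
  have hρt : ρ t = J := by
    rw [ht, map_pow, hm₀, hk, pow_succ, pow_mul, sq, hJJ, one_pow, one_mul]
  have htinv : t⁻¹ = t := inv_eq_of_mul_eq_one_right htt
  have htcomm : ∀ g : G, ρ (t⁻¹ * (g * t * g⁻¹)) = 1 := fun g => by
    have hJc : ∀ A : Matrix.SpecialLinearGroup (Fin 2) F, A * J = J * A := fun A => Subtype.ext (show (A : Matrix (Fin 2) (Fin 2) F) * -1 = -1 * (A : Matrix (Fin 2) (Fin 2) F) by simp)
    rw [map_mul, map_inv, map_mul, map_mul, hρt, hJc, mul_assoc, map_inv, mul_inv_cancel, mul_one, inv_mul_cancel]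
  -- the module
  have hvcomm : ∀ a ∈ Cfsg.pCore p G, ∀ v ∈ vOf p G, a * v = v * a := fun a ha v hv =>
    mem_centralizer_iff.1 hv.2 a ha
  have hVconj : ∀ (g : G) {v : G}, v ∈ vOf p G → g * v * g⁻¹ ∈ vOf p G :=
    fun g {v} hv => (inferInstance : (vOf p G).Normal).conj_mem v hv g
  let M : Subgroup G :=
    { carrier := {v | v ∈ vOf p G ∧ t * v * t⁻¹ = v⁻¹}
      one_mem' := ⟨one_mem _, by simp⟩
      mul_mem' := by
        rintro a c ⟨ha, ha'⟩ ⟨hc, hc'⟩
        refine ⟨mul_mem ha hc, ?_⟩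
        rw [show t * (a * c) * t⁻¹ = (t * a * t⁻¹) * (t * c * t⁻¹) by group, ha', hc', _root_.mul_inv_rev]
        exact vOf_comm _ (inv_mem ha) _ (inv_mem hc)
      inv_mem' := by
        rintro a ⟨ha, ha'⟩
        refine ⟨inv_mem ha, ?_⟩
        rw [show t * a⁻¹ * t⁻¹ = (t * a * t⁻¹)⁻¹ by group, ha'] }
  obtain ⟨f, hfs, hfker, hfeq⟩ := id hnat
  have hfixV : ∀ v ∈ vOf p G, t * v = v * t → v ∈ center G := by
    intro v hv hc
    have e := hfeq t ⟨v, hv⟩ ⟨v, hv⟩ (show v = t * v * t⁻¹ by rw [hc, mul_inv_cancel_right])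
    rw [hρt] at e
    refine (hfker ⟨v, hv⟩).1 (Multiplicative.toAdd.injective ?_)
    rw [show ((J : Matrix.SpecialLinearGroup (Fin 2) F) : Matrix (Fin 2) (Fin 2) F) = -1 from rfl,
      Matrix.neg_mulVec, Matrix.one_mulVec] at e
    funext i
    have h2 : (2 : F) ≠ 0 := by
      intro h0
      have : ((2 : ℕ) : F) = 0 := by exact_mod_cast h0
      rw [CharP.cast_eq_zero_iff F p] at this
      have := Nat.le_of_dvd two_pos this
      omega
    have ei := congrFun e i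
    rw [Pi.neg_apply] at ei
    show (f ⟨v, hv⟩).toAdd i = 0
    exact (mul_eq_zero.1 (show (2 : F) * (f ⟨v, hv⟩).toAdd i = 0 by linear_combination ei)).resolve_left h2
  refine ⟨t, M, htt, fun v hv => hv.1, ⟨fun v hv g => ?_⟩, fun v hv => hv.2, hfixV, fun v hv => ?_,
    fun a ha => ?_, fun g => ?_, fun v hv hc => ?_⟩
  · refine ⟨hVconj g hv.1, ?_⟩
    have hq : t⁻¹ * (g⁻¹ * t * g⁻¹⁻¹) ∈ Cfsg.pCore p G := hker ▸ MonoidHom.mem_ker.2 (htcomm g⁻¹)
    set a := t⁻¹ * (g⁻¹ * t * g⁻¹⁻¹) with ha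
    calc t * (g * v * g⁻¹) * t⁻¹ = g * (t * (a * v * a⁻¹) * t⁻¹) * g⁻¹ := by rw [ha]; group
      _ = g * (t * v * t⁻¹) * g⁻¹ := by rw [hvcomm a hq v hv.1, mul_inv_cancel_right]
      _ = _ := by rw [hv.2]; group
  · set v' := t * v * t⁻¹ with hv'
    have hv'V : v' ∈ vOf p G := hVconj t hv
    have hcm : Commute v v' := vOf_comm v hv v' hv'V
    have htv' : t * v' * t⁻¹ = v := by
      rw [hv', htinv, ← mul_assoc, ← mul_assoc, htt, one_mul, mul_assoc, htt, mul_one]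
    refine ⟨(v * v'⁻¹) ^ r, ⟨pow_mem (mul_mem hv (inv_mem hv'V)) r, ?_⟩, (v * v') ^ r, hfixV _
      (pow_mem (mul_mem hv hv'V) r) ?_, ?_⟩
    · rw [← conj_pow, show t * (v * v'⁻¹) * t⁻¹ = (t * v * t⁻¹) * (t * v' * t⁻¹)⁻¹ by group, htv', ← hv',
        ← inv_pow, _root_.mul_inv_rev, inv_inv]
    · refine mul_inv_eq_iff_eq_mul.1 ?_
      rw [← conj_pow, show t * (v * v') * t⁻¹ = (t * v * t⁻¹) * (t * v' * t⁻¹) by group, htv', ← hv', hcm.eq]
    · rw [← (show Commute (v * v'⁻¹) (v * v') from vOf_comm _ (mul_mem hv (inv_mem hv'V)) _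
        (mul_mem hv hv'V)).mul_pow, mul_assoc, ← mul_assoc v'⁻¹, hcm.inv_right.eq.symm, mul_assoc,
        inv_mul_cancel, mul_one, (Commute.refl v).mul_pow, ← pow_add, hrr, pow_succ, hQp v (vOf_le hv), one_mul]
  · set v := ⁅t, a⁆ with hv
    have hvV : v ∈ vOf p G := by
      rw [hv, ← commutatorElement_inv a t]
      exact inv_mem (hQV a ha t)
    have htv : t * v * t⁻¹ = v⁻¹ := by
      have h2 : t * t = 1 := htt
      rw [hv, commutatorElement_def]
      simp only [_root_.mul_inv_rev, inv_inv, htinv]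
      rw [show t * (t * a * t * a⁻¹) * t = (t * t) * (a * t * a⁻¹ * t) by group, h2, one_mul]
      group
    refine ⟨(v ^ r)⁻¹, inv_mem (pow_mem (show v ∈ M from ⟨hvV, htv⟩) r), v ^ r * a,
      mul_mem (vOf_le (pow_mem hvV r)) ha, ?_, (inv_mul_cancel_left _ _).symm⟩
    refine mul_inv_eq_iff_eq_mul.1 ?_
    rw [show t * (v ^ r * a) * t⁻¹ = (t * v ^ r * t⁻¹) * (t * a * t⁻¹) by group, ← conj_pow, htv,
      show t * a * t⁻¹ = v * a by rw [hv]; simp [commutatorElement_def], ← mul_assoc]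
    congr 1
    rw [inv_pow, inv_mul_eq_iff_eq_mul, ← pow_add, hrr, pow_succ, hQp v (vOf_le hvV), one_mul]
  · set q := t⁻¹ * (g * t * g⁻¹) with hq
    have hqQ : q ∈ Cfsg.pCore p G := hker ▸ MonoidHom.mem_ker.2 (htcomm g)
    have htq : t * q * t⁻¹ = q⁻¹ := by
      have e : (g * t * g⁻¹) * (g * t * g⁻¹) = 1 := by
        rw [show (g * t * g⁻¹) * (g * t * g⁻¹) = g * (t * t) * g⁻¹ by group, htt, mul_one, mul_inv_cancel]
      rw [show g * t * g⁻¹ = t * q by rw [hq]; group] at e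
      exact eq_inv_of_mul_eq_one_left (by rw [htinv]; simpa [mul_assoc] using e)
    refine ⟨(q ^ r)⁻¹, inv_mem (pow_mem hqQ r), q ^ r * g, ?_, (inv_mul_cancel_left _ _).symm⟩
    have e1 : g * t = t * q * g := by rw [hq]; group
    have e2 : t * q ^ r * t⁻¹ = (q ^ r)⁻¹ := by rw [← conj_pow, htq, inv_pow]
    calc t * (q ^ r * g) = (t * q ^ r * t⁻¹) * (t * g) := by group
      _ = (q ^ r)⁻¹ * (t * g) := by rw [e2]
      _ = q ^ r * (q ^ (r + r))⁻¹ * (t * g) := by rw [pow_add q r r, _root_.mul_inv_rev, mul_inv_cancel_left]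
      _ = q ^ r * (q⁻¹ * (t * g)) := by rw [hrr, pow_succ q p, hQp q hqQ, one_mul, mul_assoc]
      _ = q ^ r * (t * q * t⁻¹ * (t * g)) := by rw [htq]
      _ = q ^ r * (g * t) := by rw [e1]; group
      _ = _ := by rw [mul_assoc]
  · have e := hv.2
    rw [mem_center_iff.1 hc t, mul_inv_cancel_right] at e
    have h2 : v ^ 2 = 1 := by rw [sq]; nth_rewrite 1 [e]; exact inv_mul_cancel v
    have hg := (pow_gcd_eq_one (a := v) (m := p) (n := 2)).2 ⟨hQp v (vOf_le hv.1), h2⟩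
    rwa [show p.gcd 2 = 1 from (Nat.coprime_primes (Fact.out : p.Prime) Nat.prime_two).2 (by omega), pow_one] at hg

/-- When `O_p(G)` is abelian `G` is `Qd(q)` times an elementary abelian group. -/
theorem qd_product (h : GData S F n K) (hp : 5 ≤ p) {ρ : G →* Matrix.SpecialLinearGroup (Fin 2) F}
    (hρ : Function.Surjective ρ) (hker : ρ.ker = Cfsg.pCore p G) (hnat : NatSection ρ (center G) (vOf p G))
    {t : G} {M : Subgroup G} (hs : Split p G F ρ t M) (hQV : Cfsg.pCore p G ≤ vOf p G) :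
    ∃ G₀ : Subgroup G, G₀ ⊔ center G = ⊤ ∧ G₀ ⊓ center G = ⊥ ∧ Nonempty (↥G₀ ≃* ↥(Cfsg.qdOver F)) := by
  classical
  haveI := hs.normal
  set C := centralizer ({t} : Set G) with hC
  have hmemC : ∀ {c : G}, c ∈ C ↔ t * c = c * t := fun {c} =>
    mem_centralizer_singleton_iff.trans eq_comm
  have hDC : center G ≤ C := center_le_centralizer _
  set X := ⁅C, C⁆ with hX
  have hXC : X ≤ C := commutator_le_self C
  have hρC : C.map ρ = ⊤ := by
    refine top_le_iff.1 fun A _ => ?_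
    obtain ⟨g, rfl⟩ := hρ A
    obtain ⟨a, ha, c, hc, rfl⟩ := hs.cover g
    exact ⟨c, hmemC.2 hc, by rw [map_mul, MonoidHom.mem_ker.1 (hker.ge ha), one_mul]⟩
  have hq5 : 5 ≤ Fintype.card F := by
    rw [h.card]
    exact hp.trans (Nat.le_self_pow (by have := h.pos; omega) p)
  have hρX : X.map ρ = ⊤ := by
    rw [hX, map_commutator, hρC]
    exact Cfsg.Lib.Linear.commutator_SL_eq_top' (Or.inr (by omega))
  have hkerC : ∀ c ∈ C, ρ c = 1 → c ∈ center G := fun c hc h1 =>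
    hs.fixV c (hQV (hker ▸ MonoidHom.mem_ker.2 h1)) (hmemC.1 hc)
  have hCX : ∀ c ∈ C, ∃ x ∈ X, x⁻¹ * c ∈ center G := by
    intro c hc
    obtain ⟨x, hx, e⟩ := hρX.ge (mem_top (ρ c))
    exact ⟨x, hx, hkerC _ (mul_mem (inv_mem (hXC hx)) hc) (by rw [map_mul, map_inv, e, inv_mul_cancel])⟩
  have hperf : X ≤ ⁅X, X⁆ := by
    conv_lhs => rw [hX]
    refine commutator_le.2 fun a ha b hb => ?_
    obtain ⟨x, hx, hxd⟩ := hCX a ha
    obtain ⟨y, hy, hyd⟩ := hCX b hb
    have e1 : ⁅a, b⁆ = ⁅x, y⁆ := by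
      have c1 := mem_center_iff.1 hxd
      have c2 := mem_center_iff.1 hyd
      calc ⁅a, b⁆ = ⁅x * (x⁻¹ * a), y * (y⁻¹ * b)⁆ := by rw [mul_inv_cancel_left, mul_inv_cancel_left]
        _ = x * ((x⁻¹ * a) * (y * (y⁻¹ * b)) * (x⁻¹ * a)⁻¹) * x⁻¹ * (y⁻¹ * b)⁻¹ * y⁻¹ := by
          simp [commutatorElement_def, mul_assoc]
        _ = x * y * ((y⁻¹ * b) * x⁻¹) * (y⁻¹ * b)⁻¹ * y⁻¹ := by
          rw [← c1 (y * (y⁻¹ * b)), mul_inv_cancel_right]; group
        _ = _ := by rw [← c2 x⁻¹, commutatorElement_def]; group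
    rw [e1]
    exact commutator_mem_commutator hx hy
  -- the kernel on `X` is trivial
  let σ : ↥X →* Matrix.SpecialLinearGroup (Fin 2) F := ρ.comp X.subtype
  have hσs : Function.Surjective σ := fun A => by
    obtain ⟨x, hx, e⟩ := hρX.ge (mem_top A)
    exact ⟨⟨x, hx⟩, e⟩
  have hσi : Function.Injective σ := by
    let ι : ↥X →* Equiv.Perm (Fin (Nat.card ↥X)) :=
      (Finite.equivFin ↥X).permCongrHom.toMonoidHom.comp (MulAction.toPermHom ↥X ↥X)
    have hι : Function.Injective ι := (Finite.equivFin ↥X).permCongrHom.injective.comp MulAction.toPerm_injective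
    let e := MonoidHom.ofInjective hι
    let σ' : ↥ι.range →* Matrix.SpecialLinearGroup (Fin 2) F := σ.comp e.symm.toMonoidHom
    have hcomm : commutator ↥X = ⊤ := by
      refine map_injective (f := X.subtype) (subtype_injective X) ?_
      rw [_root_.commutator_def, map_commutator, ← MonoidHom.range_eq_map, range_subtype]
      exact le_antisymm (commutator_le_self X) hperf
    have hstem : Cfsg.IsStemExtension σ' := by
      refine ⟨hσs.comp e.symm.surjective, fun y hy => mem_center_iff.2 fun z => ?_, fun y hy => ?_⟩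
      · have hy' : (e.symm y : G) ∈ center G := hkerC _ (hXC (e.symm y).2) hy
        apply e.symm.injective
        rw [map_mul, map_mul]
        exact Subtype.ext (mem_center_iff.1 hy' _)
      · have : e.symm y ∈ commutator ↥X := hcomm ▸ mem_top _
        have := mem_map_of_mem e.toMonoidHom this
        rw [_root_.commutator_def, map_commutator] at this
        simpa [_root_.commutator_def, Subgroup.map_top_of_surjective _ e.surjective] using this
    have hne : ∀ m : ℕ, m = 4 ∨ m = 9 → Fintype.card F ≠ m := by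
      intro m hm e
      have hd : p ∣ m := e ▸ h.card ▸ dvd_pow_self p (by have := h.pos; omega)
      rcases hm with rfl | rfl
      · have := Nat.le_of_dvd two_pos ((Fact.out : p.Prime).dvd_of_dvd_pow (show p ∣ 2 ^ 2 from hd))
        omega
      · have := Nat.le_of_dvd three_pos ((Fact.out : p.Prime).dvd_of_dvd_pow (show p ∣ 3 ^ 2 from hd))
        omega
    obtain ⟨π, hπ⟩ := (Cfsg.Lib.Concrete.SLTwoMult.multiplier_sl_two (hne 4 (Or.inl rfl))
      (hne 9 (Or.inr rfl))).2 ↥ι.range σ' hstem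
    haveI : Subsingleton (Multiplicative (ZMod 1)) := inferInstanceAs (Subsingleton (ZMod 1))
    rw [injective_iff_map_eq_one]
    intro x hx
    obtain ⟨z, hz⟩ := hπ ⟨e x, MonoidHom.mem_ker.2 (show σ (e.symm (e x)) = 1 by rw [e.symm_apply_apply]; exact hx)⟩
    rw [Subsingleton.elim z 1, map_one] at hz
    exact e.injective ((congrArg Subtype.val hz).symm.trans (map_one e).symm)
  let ξ := MulEquiv.ofBijective σ ⟨hσi, hσs⟩
  -- coordinates on `M`
  obtain ⟨f, hfs, hfker, hfeq⟩ := id hnat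
  let g₁ : ↥M →* Multiplicative (Fin 2 → F) := f.comp (Subgroup.inclusion hs.le)
  have hg₁ : Function.Bijective g₁ := by
    refine ⟨(injective_iff_map_eq_one _).2 fun m hm => Subtype.ext (hs.disj m m.2 ((hfker _).1 hm)), fun v => ?_⟩
    obtain ⟨a, rfl⟩ := hfs v
    obtain ⟨m, hm, d, hd, e⟩ := hs.coverV a a.2
    refine ⟨⟨m, hm⟩, ?_⟩
    rw [show a = ⟨m, hs.le hm⟩ * ⟨d, h.center_le_vOf hd⟩ from Subtype.ext e, map_mul,
      (hfker ⟨d, h.center_le_vOf hd⟩).2 hd, mul_one]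
    rfl
  let μ := MulEquiv.ofBijective g₁ hg₁
  let col : ↥(Cfsg.qdOver F) → Fin 2 → F := fun A =>
    ![(A.1 : Matrix (Fin 3) (Fin 3) F) 0 2, (A.1 : Matrix (Fin 3) (Fin 3) F) 1 2]
  have hμ : ∀ (A : Matrix.SpecialLinearGroup (Fin 2) F) (v : Fin 2 → F),
      ((ξ.symm A : ↥X) : G) * (μ.symm (Multiplicative.ofAdd v) : G) * ((ξ.symm A : ↥X) : G)⁻¹ =
        (μ.symm (Multiplicative.ofAdd ((A : Matrix (Fin 2) (Fin 2) F) *ᵥ v)) : G) := by
    intro A v
    set m := μ.symm (Multiplicative.ofAdd v) with hm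
    set x := ξ.symm A with hx
    have hc := (inferInstance : M.Normal).conj_mem _ m.2 (x : G)
    have e := hfeq (x : G) ⟨m, hs.le m.2⟩ ⟨_, hs.le hc⟩ rfl
    refine congrArg Subtype.val (μ.eq_symm_apply.2 (?_ : μ ⟨_, hc⟩ = _))
    apply Multiplicative.toAdd.injective
    rw [toAdd_ofAdd, show A = ρ (x : G) from (ξ.apply_symm_apply A).symm,
      show v = (g₁ m).toAdd from (congrArg Multiplicative.toAdd (μ.apply_symm_apply (Multiplicative.ofAdd v))).symm]
    exact e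
  let Φ : ↥(Cfsg.qdOver F) →* G := MonoidHom.mk'
    (fun A => (μ.symm (Multiplicative.ofAdd (col A)) : G) * ((ξ.symm (Cfsg.Lib.Local.QdOver.block F A) : ↥X) : G))
    fun A B => by
      set a := Cfsg.Lib.Local.QdOver.block F A
      set b := Cfsg.Lib.Local.QdOver.block F B
      have hcol : col (A * B) = col A + (a : Matrix (Fin 2) (Fin 2) F) *ᵥ col B := by
        obtain ⟨h0, h1, h2⟩ := Cfsg.Lib.Local.QdOver.row_two F B.2
        funext i
        fin_cases i <;>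
          simp [col, a, Cfsg.Lib.Local.QdOver.block_coe, Matrix.SpecialLinearGroup.coe_mul, Matrix.mul_apply,
            Fin.sum_univ_three, Matrix.mulVec, dotProduct, Fin.sum_univ_two, h2] <;> ring
      simp only [hcol, ofAdd_add, map_mul, Subgroup.coe_mul]
      rw [← hμ a (col B)]
      simp only [a, b]
      group
  have hΦi : Function.Injective Φ := by
    rw [injective_iff_map_eq_one]
    intro A hA
    have h1 : (μ.symm (Multiplicative.ofAdd (col A)) : G) *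
        ((ξ.symm (Cfsg.Lib.Local.QdOver.block F A) : ↥X) : G) = 1 := hA
    have hb : Cfsg.Lib.Local.QdOver.block F A = 1 := by
      have := congrArg ρ h1
      rw [map_mul, MonoidHom.mem_ker.1 (hker.ge (vOf_le (hs.le (μ.symm _).2))), one_mul, map_one] at this
      rw [← ξ.apply_symm_apply (Cfsg.Lib.Local.QdOver.block F A)]
      exact this
    rw [hb, map_one, Subgroup.coe_one, mul_one] at h1
    have hc : col A = 0 := by
      have : μ.symm (Multiplicative.ofAdd (col A)) = 1 := Subtype.ext h1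
      rw [← map_one μ.symm, μ.symm.injective.eq_iff, ofAdd_eq_one] at this
      exact this
    rw [Cfsg.Lib.Local.QdOver.eq_affine F A, hb,
      show ((A.1 : Matrix (Fin 3) (Fin 3) F) 0 2) = 0 from congrFun hc 0,
      show ((A.1 : Matrix (Fin 3) (Fin 3) F) 1 2) = 0 from congrFun hc 1]
    exact Cfsg.Lib.Local.QdOver.affine_one F
  have hmemM : ∀ m ∈ M, m ∈ Φ.range := by
    intro m hm
    obtain ⟨v, hv⟩ : ∃ v, μ.symm (Multiplicative.ofAdd v) = ⟨m, hm⟩ :=
      ⟨(μ ⟨m, hm⟩).toAdd, μ.symm_apply_apply _⟩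
    refine ⟨Cfsg.Lib.Local.QdOver.affine F 1 (v 0, v 1), ?_⟩
    show (μ.symm (Multiplicative.ofAdd (col _)) : G) * _ = m
    rw [show col (Cfsg.Lib.Local.QdOver.affine F 1 (v 0, v 1)) = v by
      funext i; fin_cases i <;> simp [col, Cfsg.Lib.Local.QdOver.affine_coe], hv,
      Cfsg.Lib.Local.QdOver.block_affine, map_one, Subgroup.coe_one, mul_one]
  have hmemX : ∀ x ∈ X, x ∈ Φ.range := by
    intro x hx
    refine ⟨Cfsg.Lib.Local.QdOver.affine F (ξ ⟨x, hx⟩) 0, ?_⟩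
    show (μ.symm (Multiplicative.ofAdd (col _)) : G) * _ = x
    rw [show col (Cfsg.Lib.Local.QdOver.affine F (ξ ⟨x, hx⟩) 0) = 0 by
      funext i; fin_cases i <;> simp [col, Cfsg.Lib.Local.QdOver.affine_coe], ofAdd_zero, map_one,
      Subgroup.coe_one, one_mul, Cfsg.Lib.Local.QdOver.block_affine, ξ.symm_apply_apply]
  refine ⟨Φ.range, top_le_iff.1 fun g _ => ?_, (eq_bot_iff_forall _).2 ?_,
    ⟨(MonoidHom.ofInjective hΦi).symm⟩⟩
  · obtain ⟨a, ha, c, hc, rfl⟩ := hs.cover g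
    obtain ⟨m, hm, d, hd, rfl⟩ := hs.coverV a (hQV ha)
    obtain ⟨x, hx, hxc⟩ := hCX c (hmemC.2 hc)
    rw [← mul_inv_cancel_left x c]
    exact mul_mem (mul_mem (mem_sup_left (hmemM m hm)) (mem_sup_right hd))
      (mul_mem (mem_sup_left (hmemX x hx)) (mem_sup_right hxc))
  · rintro g ⟨⟨A, rfl⟩, hA⟩
    have hA' : (μ.symm (Multiplicative.ofAdd (col A)) : G) *
        ((ξ.symm (Cfsg.Lib.Local.QdOver.block F A) : ↥X) : G) ∈ center G := hA
    have hb : Cfsg.Lib.Local.QdOver.block F A = 1 := by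
      have e1 : ρ ((μ.symm (Multiplicative.ofAdd (col A)) : G) *
          ((ξ.symm (Cfsg.Lib.Local.QdOver.block F A) : ↥X) : G)) = 1 :=
        MonoidHom.mem_ker.1 (hker.ge (vOf_le (h.center_le_vOf hA')))
      rw [map_mul, MonoidHom.mem_ker.1 (hker.ge (vOf_le (hs.le (μ.symm _).2))), one_mul] at e1
      rw [← ξ.apply_symm_apply (Cfsg.Lib.Local.QdOver.block F A)]
      exact e1
    rw [hb, map_one, Subgroup.coe_one, mul_one] at hA'
    show (μ.symm (Multiplicative.ofAdd (col A)) : G) * _ = 1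
    rw [hb, map_one, Subgroup.coe_one, mul_one, hs.disj _ (μ.symm _).2 hA']

variable {H : Type*} [Group H] [Finite H] {P : Subgroup H}

/-- Two maximal locals through `S`: `O_p` is abelian. -/
theorem pCore_le_vOf {S : Sylow p ↥P} {K : Subgroup ↥P} [K.Normal]
    (hmax : ∀ R : Subgroup H, IsPGroup p ↥R → R ≠ ⊥ → P ≤ normalizer (R : Set H) → normalizer (R : Set H) = P)
    (h : GData S F n K) (hp : 5 ≤ p) {ρ : ↥P →* Matrix.SpecialLinearGroup (Fin 2) F}
    {t : ↥P} {M : Subgroup ↥P} (hs : Split p ↥P F ρ t M)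
    (hN : ¬ normalizer (((S : Subgroup ↥P).map P.subtype : Subgroup H) : Set H) ≤ P) :
    Cfsg.pCore p ↥P ≤ vOf p ↥P := by
  classical
  haveI := hs.normal
  obtain ⟨hcl, hexp, hQV⟩ := h.of_five_le hp
  set Q := Cfsg.pCore p ↥P with hQdef
  have hQS : Q ≤ (S : Subgroup ↥P) := Cfsg.Lib.Core.pCore_le_sylow S
  obtain ⟨k, hkN, hkP⟩ := SetLike.not_le_iff_exists.1 hN
  let c : ↥P → H := fun x => x
  have hSk : ∀ {j : H}, j ∈ normalizer (((S : Subgroup ↥P).map P.subtype : Subgroup H) : Set H) →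
      ∀ x ∈ (S : Subgroup ↥P), ∃ y ∈ (S : Subgroup ↥P), (y : H) = j * x * j⁻¹ := fun {j} hj x hx => by
    obtain ⟨y, hy, e⟩ := (mem_normalizer_iff.1 hj (x : H)).1 ⟨x, hx, rfl⟩
    exact ⟨y, hy, e⟩
  -- a central element of `P` moved to a central element has no power fixed
  have hR : ∀ R : Subgroup H, (∀ r ∈ R, ∃ z : ↥P, z ∈ center ↥P ∧ (z : H) = r) → R ≠ ⊥ →
      normalizer (R : Set H) = P := by
    intro R hR hne
    refine hmax R (fun r => ?_) hne fun g hg => mem_normalizer_fintype fun r hr => ?_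
    · obtain ⟨z, hz, e⟩ := hR r r.2
      refine ⟨1, Subtype.ext ?_⟩
      rw [pow_one, SubmonoidClass.coe_pow, ← e, ← SubmonoidClass.coe_pow,
        hexp z (hQS (vOf_le (h.center_le_vOf hz))), Subgroup.coe_one, Subgroup.coe_one]
    · obtain ⟨z, hz, rfl⟩ := hR r hr
      have := congrArg Subtype.val (mem_center_iff.1 hz ⟨g, hg⟩)
      show g * (z : H) * g⁻¹ ∈ R
      rw [show g * (z : H) = (z : H) * g from this, mul_inv_cancel_right]
      exact hr
  -- the part of `O_p` fixed by `t`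
  set E := Q ⊓ centralizer ({t} : Set ↥P) with hE
  have hmemE : ∀ {e : ↥P}, e ∈ E ↔ e ∈ Q ∧ t * e = e * t := fun {e} =>
    and_congr_right fun _ => mem_centralizer_singleton_iff.trans eq_comm
  have hMQ : ∀ m ∈ M, ∀ a ∈ Q, a * m = m * a := fun m hm a ha =>
    mem_centralizer_iff.1 (hs.le hm).2 a ha
  haveI hEn : E.Normal := ⟨fun e he g => by
    obtain ⟨a, ha, d, hd, rfl⟩ := hs.cover g
    obtain ⟨m, hm, e', he', hte', rfl⟩ := hs.coverQ a ha
    have h1 : d * e * d⁻¹ ∈ E := hmemE.2 ⟨(inferInstance : Q.Normal).conj_mem e he.1 d, by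
      have hte := (hmemE.1 he).2
      have hd' : Commute t d := hd
      exact ((hd'.mul_right (hte : Commute t e)).mul_right hd'.inv_right).eq⟩
    have hee : e' * (d * e * d⁻¹) * e'⁻¹ ∈ E :=
      mul_mem (mul_mem (hmemE.2 ⟨he', hte'⟩) h1) (inv_mem (hmemE.2 ⟨he', hte'⟩))
    rw [show m * e' * d * e * (m * e' * d)⁻¹ = m * (e' * (d * e * d⁻¹) * e'⁻¹) * m⁻¹ by group,
      ← hMQ m hm _ hee.1, mul_inv_cancel_right]
    exact hee⟩
  have hEZ : ∀ e ∈ E, e ∈ centralizer ((S : Subgroup ↥P) : Set ↥P) → e ∈ center ↥P := fun e he he' =>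
    hs.fixV e ⟨he.1, centralizer_le hQS he'⟩ (hmemE.1 he).2
  by_contra hne
  obtain ⟨e₁, he₁, e₂, he₂, hee⟩ : ∃ e₁ ∈ E, ∃ e₂ ∈ E, e₁ * e₂ ≠ e₂ * e₁ := by
    by_contra hall
    push Not at hall
    refine hne fun a ha => ?_
    obtain ⟨m, hm, e, he, hte, rfl⟩ := hs.coverQ a ha
    refine mul_mem (hs.le hm) ⟨he, mem_centralizer_iff.2 fun b hb => ?_⟩
    obtain ⟨m', hm', e', he', hte', rfl⟩ := hs.coverQ b hb
    rw [mul_assoc, hall e' (hmemE.2 ⟨he', hte'⟩) e (hmemE.2 ⟨he, hte⟩), ← mul_assoc, ← hMQ m' hm' e he, mul_assoc]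
  have hkN' : k⁻¹ ∈ normalizer (((S : Subgroup ↥P).map P.subtype : Subgroup H) : Set H) := inv_mem hkN
  -- `E` and its image under `k⁻¹` commute
  have hdis : ∀ x ∈ (S : Subgroup ↥P), (x ∈ E ∧ ∃ y ∈ E, (x : H) = k⁻¹ * y * k) → x = 1 := by
    let I : Subgroup ↥(S : Subgroup ↥P) :=
      (E ⊓ ((E.map P.subtype).map (MulAut.conj k⁻¹).toMonoidHom).comap P.subtype).subgroupOf (S : Subgroup ↥P)
    haveI : I.Normal := ⟨fun x hx s => by
      obtain ⟨hx1, _, ⟨y, hy, rfl⟩, e⟩ := hx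
      obtain ⟨s', -, hs'⟩ := hSk hkN (s : ↥P) s.2
      refine ⟨hEn.conj_mem _ hx1 _, _, ⟨s' * y * s'⁻¹, hEn.conj_mem _ hy _, rfl⟩, ?_⟩
      have e' : k⁻¹ * (y : H) * k⁻¹⁻¹ = ((x : ↥P) : H) := e
      show k⁻¹ * ((s' * y * s'⁻¹ : ↥P) : H) * k⁻¹⁻¹ = ((s * x * s⁻¹ : ↥(S : Subgroup ↥P)) : ↥P).1
      simp only [Subgroup.coe_mul, Subgroup.coe_inv, hs', ← e']
      group⟩
    have hI : I = ⊥ := by
      by_contra hIne
      obtain ⟨z, hzI, hzc, hz1⟩ : ∃ z ∈ I, z ∈ center ↥(S : Subgroup ↥P) ∧ z ≠ 1 := by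
        obtain ⟨z, hz1⟩ := (Subgroup.ne_bot_iff_exists_ne_one).1 (show I ⊓ center ↥(S : Subgroup ↥P) ≠ ⊥ from
          Cfsg.Lib.PGroup.inf_center_ne_bot S.2 hIne)
        exact ⟨z.1, z.2.1, z.2.2, fun e => hz1 (Subtype.ext e)⟩
      obtain ⟨hzE, _, ⟨y, hy, rfl⟩, e⟩ := hzI
      have e' : k⁻¹ * (y : H) * k⁻¹⁻¹ = ((z : ↥P) : H) := e
      have hzc' : (z : ↥P) ∈ center ↥P := hEZ _ hzE (mem_centralizer_iff.2 fun s hs =>
        congrArg Subtype.val (mem_center_iff.1 hzc ⟨s, hs⟩))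
      have hyc : y ∈ center ↥P := hEZ _ hy (mem_centralizer_iff.2 fun s hs => by
        obtain ⟨s', hs', es⟩ := hSk hkN' s hs
        have h1 := congrArg (fun x : ↥(S : Subgroup ↥P) => ((x : ↥P) : H)) (mem_center_iff.1 hzc ⟨s', hs'⟩)
        simp only [Subgroup.coe_mul, es, ← e'] at h1
        refine Subtype.ext ?_
        show (s : H) * (y : H) = (y : H) * (s : H)
        calc (s : H) * y = k * ((k⁻¹ * s * k⁻¹⁻¹) * (k⁻¹ * y * k⁻¹⁻¹)) * k⁻¹ := by group
          _ = _ := by rw [h1]; group)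
      -- the intersection of the two centres
      let R : Subgroup H := ((center ↥P).map P.subtype) ⊓
        ((center ↥P).map P.subtype).map (MulAut.conj k⁻¹).toMonoidHom
      have hRne : R ≠ ⊥ := fun eR => hz1 (by
        have : ((z : ↥P) : H) ∈ R := ⟨⟨_, hzc', rfl⟩, _, ⟨y, hyc, rfl⟩, e'⟩
        rw [eR, mem_bot] at this
        exact Subtype.ext (Subtype.ext this))
      have hRP := hR R (fun r hr => hr.1) hRne
      -- so the conjugate of `P` is `P`
      have hcj : P.map (MulAut.conj k⁻¹).toMonoidHom ≤ P := by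
        rintro _ ⟨g, hg, rfl⟩
        rw [← hRP]
        refine mem_normalizer_fintype fun r hr => ?_
        obtain ⟨_, ⟨w, hw, rfl⟩, ew⟩ := hr.2
        have ew' : k⁻¹ * (w : H) * k⁻¹⁻¹ = r := ew
        have hcm : g * (w : H) = (w : H) * g := congrArg Subtype.val (mem_center_iff.1 hw ⟨g, hg⟩)
        have : (MulAut.conj k⁻¹).toMonoidHom g * r * ((MulAut.conj k⁻¹).toMonoidHom g)⁻¹ = r := by
          rw [← ew', show (MulAut.conj k⁻¹).toMonoidHom g = k⁻¹ * g * k⁻¹⁻¹ from rfl]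
          calc k⁻¹ * g * k⁻¹⁻¹ * (k⁻¹ * w * k⁻¹⁻¹) * (k⁻¹ * g * k⁻¹⁻¹)⁻¹ = k⁻¹ * (g * w) * g⁻¹ * k⁻¹⁻¹ := by group
            _ = _ := by rw [hcm]; group
        rw [this]; exact hr
      have hkn : k⁻¹ ∈ normalizer (P : Set H) := mem_normalizer_fintype fun g hg => hcj ⟨g, hg, rfl⟩
      -- and `O_p` is invariant
      have hQH : normalizer ((Q.map P.subtype : Subgroup H) : Set H) = P := by
        refine hmax _ ((Cfsg.Lib.Core.pCore_isPGroup p ↥P).map _) (fun e0 => ?_) fun g hg =>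
          mem_normalizer_fintype ?_
        · haveI := h.nontrivial
          have hb : Q = ⊥ := map_injective P.subtype_injective (e0.trans (Subgroup.map_bot _).symm)
          have := h.cent
          rw [show Cfsg.pCore p ↥P = ⊥ from hb, Subgroup.coe_bot] at this
          have htop : (⊤ : Subgroup ↥P) ≤ ⊥ := le_trans (fun x _ => mem_centralizer_iff.2 fun y hy => by
            rw [Set.mem_singleton_iff.1 hy, one_mul, mul_one]) this
          exact (nontrivial_iff_ne_bot _).1 h.nontrivial (le_bot_iff.1 (le_top.trans htop))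
        · rintro _ ⟨a, ha, rfl⟩
          exact ⟨_, (inferInstance : Q.Normal).conj_mem a ha ⟨g, hg⟩, rfl⟩
      refine hkP (hQH.le ?_)
      have := inv_mem (Cfsg.Lib.Local.normalizer_le_normalizer_pCoreOf (p := p) P hkn)
      rw [inv_inv] at this
      exact this
    rintro x hx ⟨hxE, y, hy, e⟩
    have : (⟨x, hx⟩ : ↥(S : Subgroup ↥P)) ∈ I := ⟨hxE, _, ⟨y, hy, rfl⟩, by
      show k⁻¹ * (y : H) * k⁻¹⁻¹ = (x : H)
      rw [e, inv_inv]⟩
    rw [hI, mem_bot] at this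
    exact congrArg Subtype.val this
  -- an element of the image outside `O_p`
  obtain ⟨f, hf, f', hf', hfQ, hff⟩ : ∃ f ∈ (S : Subgroup ↥P), ∃ f' ∈ E, f ∉ Q ∧ (f : H) = k⁻¹ * f' * k := by
    by_contra hall
    push Not at hall
    have key : ∀ a ∈ E, ∃ a' ∈ vOf p ↥P, (a' : H) = k⁻¹ * a * k := by
      intro a ha
      obtain ⟨a', ha', ea⟩ := hSk hkN' a (hQS ha.1)
      rw [inv_inv] at ea
      have ha'Q : a' ∈ Q := by
        by_contra hn
        exact hall a' ha' a ha hn ea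
      refine ⟨a', ⟨ha'Q, mem_centralizer_iff.2 fun b hb => ?_⟩, ea⟩
      obtain ⟨m, hm, e, he, hte, rfl⟩ := hs.coverQ b hb
      have hc : ⁅e, a'⁆ = 1 := by
        obtain ⟨e', -, ee⟩ := hSk hkN e (hQS he)
        refine hdis _ (mul_mem (mul_mem (mul_mem (hQS he) ha') (inv_mem (hQS he))) (inv_mem ha'))
          ⟨?_, e' * a * e'⁻¹ * a⁻¹, mul_mem (hEn.conj_mem a ha e') (inv_mem ha), ?_⟩
        · rw [commutatorElement_def, show e * a' * e⁻¹ * a'⁻¹ = e * (a' * e⁻¹ * a'⁻¹) by group]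
          exact mul_mem (hmemE.2 ⟨he, hte⟩) (hEn.conj_mem _ (inv_mem (hmemE.2 ⟨he, hte⟩)) a')
        · simp only [commutatorElement_def, Subgroup.coe_mul, Subgroup.coe_inv, ea, ee]
          group
      rw [mul_assoc, commutatorElement_eq_one_iff_mul_comm.1 hc, ← mul_assoc, ← hMQ m hm a' ha'Q, mul_assoc]
    obtain ⟨a₁, ha₁, ea₁⟩ := key e₁ he₁
    obtain ⟨a₂, ha₂, ea₂⟩ := key e₂ he₂
    have hc := congrArg Subtype.val (vOf_comm a₁ ha₁ a₂ ha₂)
    simp only [Subgroup.coe_mul, ea₁, ea₂] at hc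
    refine hee (Subtype.ext ?_)
    show (e₁ : H) * (e₂ : H) = (e₂ : H) * (e₁ : H)
    calc (e₁ : H) * e₂ = k * ((k⁻¹ * e₁ * k) * (k⁻¹ * e₂ * k)) * k⁻¹ := by group
      _ = _ := by rw [hc]; group
  -- it moves `M`
  obtain ⟨m, hm, hmne⟩ : ∃ m ∈ M, ⁅f, m⁆ ≠ 1 := by
    by_contra hall
    push Not at hall
    refine hfQ ?_
    rw [hQdef, ← h.inf_centralizer_vOf]
    refine ⟨hf, mem_centralizer_iff.2 fun v hv => ?_⟩
    obtain ⟨m, hm, d, hd, rfl⟩ := hs.coverV v hv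
    have e1 : Commute f m := commutatorElement_eq_one_iff_mul_comm.1 (hall m hm)
    exact (e1.mul_right (mem_center_iff.1 hd f : Commute f d)).eq.symm
  set w := ⁅f, m⁆ with hw
  have hwM : w ∈ M := by
    rw [hw, commutatorElement_def]
    exact mul_mem (hs.normal.conj_mem m hm f) (inv_mem hm)
  obtain ⟨m', -, em⟩ := hSk hkN m (hQS (vOf_le (hs.le hm)))
  set z := f' * m' * f'⁻¹ * m'⁻¹ with hz
  have hzE : z ∈ E := by
    rw [hz, show f' * m' * f'⁻¹ * m'⁻¹ = f' * (m' * f'⁻¹ * m'⁻¹) by group]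
    exact mul_mem hf' (hEn.conj_mem _ (inv_mem hf') m')
  have hzw : (z : H) = k * (w : H) * k⁻¹ := by
    simp only [hz, hw, commutatorElement_def, Subgroup.coe_mul, Subgroup.coe_inv, em, hff]
    group
  have hzc : z ∈ center ↥P := hEZ z hzE (mem_centralizer_iff.2 fun s hs' => by
    obtain ⟨s', hs'', es⟩ := hSk hkN' s hs'
    have h1 := congrArg Subtype.val (mem_centralizer_iff.1 (hcl f hf m (hQS (vOf_le (hs.le hm)))).2 s' hs'')
    rw [inv_inv] at es
    simp only [Subgroup.coe_mul, es, ← hw] at h1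
    refine Subtype.ext ?_
    show (s : H) * (z : H) = (z : H) * (s : H)
    rw [hzw]
    calc (s : H) * (k * w * k⁻¹) = k * ((k⁻¹ * s * k) * w) * k⁻¹ := by group
      _ = _ := by rw [h1]; group)
  have hz1 : (z : H) ≠ 1 := fun e => hmne (Subtype.ext (by
    rw [hzw] at e
    calc (w : H) = k⁻¹ * (k * w * k⁻¹) * k := by group
      _ = _ := by rw [e]; simp))
  have hZR := hR (zpowers (z : H)) (fun r hr => by
    obtain ⟨i, rfl⟩ := hr
    exact ⟨z ^ i, zpow_mem hzc i, by simp⟩) (by rwa [Ne, zpowers_eq_bot])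
  have htw : (t : H) * w * (t : H)⁻¹ = (w : H)⁻¹ := congrArg Subtype.val (hs.inv w hwM)
  have htk : k * t * k⁻¹ * (z : H) * (k * t * k⁻¹)⁻¹ = (z : H)⁻¹ := by
    rw [hzw]
    calc k * t * k⁻¹ * (k * w * k⁻¹) * (k * t * k⁻¹)⁻¹ = k * (t * w * (t : H)⁻¹) * k⁻¹ := by group
      _ = _ := by rw [htw]; group
  have htP : k * (t : H) * k⁻¹ ∈ P := by
    refine hZR.le (mem_normalizer_fintype ?_)
    rintro _ ⟨i, rfl⟩
    refine ⟨-i, ?_⟩
    show (z : H) ^ (-i) = _
    rw [← conj_zpow, htk, inv_zpow']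
  have hfix := congrArg Subtype.val (mem_center_iff.1 hzc ⟨_, htP⟩)
  have h2 : (z : H) = (z : H)⁻¹ := by
    refine Eq.trans ?_ htk
    rw [show k * (t : H) * k⁻¹ * (z : H) = (z : H) * (k * (t : H) * k⁻¹) from hfix, mul_inv_cancel_right]
  have hzp : (z : H) ^ p = 1 := by
    rw [← SubmonoidClass.coe_pow, hexp z (hQS hzE.1), Subgroup.coe_one]
  have hg := (pow_gcd_eq_one (a := (z : H)) (m := p) (n := 2)).2 ⟨hzp, by
    rw [sq]; nth_rewrite 2 [h2]; exact mul_inv_cancel _⟩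
  rw [show p.gcd 2 = 1 from (Nat.coprime_primes (Fact.out : p.Prime) Nat.prime_two).2 (by omega), pow_one] at hg
  exact hz1 hg

/-- Pushing up in a maximal local subgroup. -/
theorem max_local {S : Sylow p ↥P} {K : Subgroup ↥P} [K.Normal] (hp : 5 ≤ p)
    (hmax : ∀ R : Subgroup H, IsPGroup p ↥R → R ≠ ⊥ → P ≤ normalizer (R : Set H) → normalizer (R : Set H) = P)
    (hE₁ : centralizer (Cfsg.pCore p ↥P : Set ↥P) ≤ Cfsg.pCore p ↥P)
    (hE₂ : ∃! M : Subgroup ↥P, IsCoatom M ∧ (S : Subgroup ↥P) ≤ M)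
    (hn : 1 ≤ n) (hF : Fintype.card F = p ^ n)
    (hE₃ : Nonempty (↥P ⧸ K ≃* Matrix.ProjectiveSpecialLinearGroup (Fin 2) F))
    (hN : ¬ normalizer (((S : Subgroup ↥P).map P.subtype : Subgroup H) : Set H) ≤ P) :
    ∃ G₀ E : Subgroup H, Cfsg.IsInternalDirectProduct G₀ E P ∧ Cfsg.IsElementaryAbelian p E ∧
      Nonempty (↥G₀ ≃* ↥(Cfsg.qdOver F)) := by
  have hfree : NoCharNormal S := by
    intro T hT hc hn'
    refine hN ?_
    set R := (T.map (S : Subgroup ↥P).subtype).map P.subtype with hR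
    have hRp : IsPGroup p ↥R := ((S.2.to_subgroup T).map _).map _
    have hne : R ≠ ⊥ := fun e => hT (map_injective (subtype_injective _)
      ((map_injective P.subtype_injective (e.trans (Subgroup.map_bot _).symm)).trans (Subgroup.map_bot _).symm))
    have hle : P ≤ normalizer (R : Set H) := fun g hg => mem_normalizer_fintype (by
      rintro _ ⟨a, ha, rfl⟩
      exact ⟨_, hn'.conj_mem a ha ⟨g, hg⟩, rfl⟩)
    refine le_trans ?_ (hmax R hRp hne hle).le
    intro j hj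
    have hj' : ∀ (x : ↥(S : Subgroup ↥P)), ∃ y : ↥(S : Subgroup ↥P), ((y : ↥P) : H) = j * ((x : ↥P) : H) * j⁻¹ :=
      fun x => by
        obtain ⟨y, hy, e⟩ := (mem_normalizer_iff.1 hj ((x : ↥P) : H)).1 ⟨x, x.2, rfl⟩
        exact ⟨⟨y, hy⟩, e⟩
    choose a ha using hj'
    have hinj : Function.Injective a := fun x y e => by
      have := congrArg (fun z : ↥(S : Subgroup ↥P) => ((z : ↥P) : H)) e
      simp only [ha, mul_left_inj, mul_right_inj] at this
      exact Subtype.ext (Subtype.ext this)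
    let α : ↥(S : Subgroup ↥P) ≃* ↥(S : Subgroup ↥P) :=
      MulEquiv.ofBijective (MonoidHom.mk' a fun x y => Subtype.ext (Subtype.ext (by
        simp [ha, mul_assoc]))) ⟨hinj, Finite.surjective_of_injective hinj⟩
    refine mem_normalizer_fintype ?_
    rintro _ ⟨_, ⟨x, hx, rfl⟩, rfl⟩
    refine ⟨_, ⟨α x, ?_, rfl⟩, ha x⟩
    exact (characteristic_iff_le_comap.1 hc α) hx
  have h : GData S F n K := ⟨hE₁, hE₂, hn, hF, hE₃, hfree⟩
  obtain ⟨ρ, hρ, hker, hnat, -⟩ := h.natural_rho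
  obtain ⟨t, M, hs⟩ := exists_split h hp hρ hker hnat
  obtain ⟨G₀, hsup, hinf, ⟨e⟩⟩ := qd_product h hp hρ hker hnat hs (pCore_le_vOf hmax h hp hs hN)
  refine ⟨G₀.map P.subtype, (center ↥P).map P.subtype,
    ⟨map_subtype_le _, map_subtype_le _, ?_, ?_, ?_⟩, ⟨⟨⟨?_⟩⟩, ?_⟩,
    ⟨(G₀.equivMapOfInjective _ P.subtype_injective).symm.trans e⟩⟩
  · rintro _ ⟨a, -, rfl⟩ _ ⟨b, hb, rfl⟩
    rw [← map_mul, ← map_mul, mem_center_iff.1 hb a]
  · rw [← map_inf_eq _ _ _ P.subtype_injective, hinf, Subgroup.map_bot]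
  · rw [← Subgroup.map_sup, hsup, ← MonoidHom.range_eq_map, range_subtype]
  · rintro ⟨_, a, ha, rfl⟩ ⟨_, b, hb, rfl⟩
    refine Subtype.ext ?_
    show P.subtype a * P.subtype b = P.subtype b * P.subtype a
    rw [← map_mul, ← map_mul, mem_center_iff.1 hb a]
  · rintro _ ⟨a, ha, rfl⟩
    rw [← map_pow, (h.of_five_le hp).2.1 a (Cfsg.Lib.Core.pCore_le_sylow S (vOf_le (h.center_le_vOf ha))), map_one]

end Cfsg.Lib.Local.PushingUp
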