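import Cfsg.Agent.Lib.Local.PushingUp.Local
import Cfsg.Agent.Lib.Local.PushingUp.Graph

/-!
The ambient group in which every automorphism of `S` is induced.
-/

set_option autoImplicit false

namespace Cfsg.Lib.Local.PushingUp

open Subgroup

variable {G : Type*} [Group G]

/-- The regular embedding. -/
def regEmb (G : Type*) [Group G] : G →* Equiv.Perm G := MulAction.toPermHom G G

theorem regEmb_apply (g x : G) : regEmb G g x = g * x := rfl

theorem regEmb_injective : Function.Injective (regEmb G) := fun a b h => by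
  simpa [regEmb_apply] using congrFun (congrArg DFunLike.coe h) 1

/-- An automorphism of a subgroup is induced by a permutation of the group. -/
theorem exists_perm_conj (S : Subgroup G) (α : ↥S ≃* ↥S) :
    ∃ γ : Equiv.Perm G, ∀ s : ↥S, γ * regEmb G (s : G) * γ⁻¹ = regEmb G (α s : G) := by
  let r : G → G := fun x => (Quotient.mk (QuotientGroup.rightRel S) x).out
  have hr : ∀ x : G, x * (r x)⁻¹ ∈ S := fun x => by
    have h := QuotientGroup.rightRel_apply.1 (Quotient.mk_out (s := QuotientGroup.rightRel S) x)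
    exact h
  have hrs : ∀ (s : ↥S) (x : G), r ((s : G) * x) = r x := fun s x => by
    refine congrArg Quotient.out (Quotient.sound ?_)
    refine QuotientGroup.rightRel_apply.2 ?_
    simp [mul_assoc]
  let f : G → G := fun x => (α ⟨x * (r x)⁻¹, hr x⟩ : G) * r x
  let f' : G → G := fun x => (α.symm ⟨x * (r x)⁻¹, hr x⟩ : G) * r x
  have hrout : ∀ x : G, r (r x) = r x := fun x =>
    congrArg Quotient.out (Quotient.out_eq (Quotient.mk (QuotientGroup.rightRel S) x))
  have hinv : ∀ (β : ↥S ≃* ↥S) (x : G),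
      ((β.symm ⟨((β ⟨x * (r x)⁻¹, hr x⟩ : ↥S) : G) * r x * (r (((β ⟨x * (r x)⁻¹, hr x⟩ : ↥S) : G) * r x))⁻¹,
        hr _⟩ : ↥S) : G) * r (((β ⟨x * (r x)⁻¹, hr x⟩ : ↥S) : G) * r x) = x := fun β x => by
    have e : r (((β ⟨x * (r x)⁻¹, hr x⟩ : ↥S) : G) * r x) = r x := (hrs _ _).trans (hrout x)
    simp only [e, mul_inv_cancel_right, Subtype.coe_eta, β.symm_apply_apply, inv_mul_cancel_right]
  refine ⟨⟨f, f', fun x => hinv α x, fun x => by
    have := hinv α.symm x
    rw [MulEquiv.symm_symm] at this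
    exact this⟩, fun s => ?_⟩
  rw [mul_inv_eq_iff_eq_mul]
  ext x
  show f ((s : G) * x) = (α s : G) * f x
  have e : (⟨(s : G) * x * (r ((s : G) * x))⁻¹, hr _⟩ : ↥S) = s * ⟨x * (r x)⁻¹, hr x⟩ :=
    Subtype.ext (by show (s : G) * x * (r ((s : G) * x))⁻¹ = (s : G) * (x * (r x)⁻¹); rw [hrs, mul_assoc])
  show (α ⟨(s : G) * x * (r ((s : G) * x))⁻¹, hr _⟩ : G) * r ((s : G) * x) = _
  rw [e, map_mul, Subgroup.coe_mul, hrs]
  simp only [f, mul_assoc]

variable [Finite G] {p : ℕ} [Fact p.Prime] {S : Sylow p G} {F : Type} [Field F]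
  [Fintype F] {n : ℕ} {K : Subgroup G} [K.Normal]

theorem GData.amalgam (h : GData S F n K) :
    Amalgam p (p ^ n) ((S : Subgroup G).map (regEmb G)) (regEmb G).range := by
  refine ⟨fun γ => ?_, fun N hN hP hT => ?_, one_lt_pow₀ (Fact.out : p.Prime).one_lt (by have := h.pos; omega)⟩
  · have := h.localData (φ := (MulAut.conj γ).toMonoidHom.comp (regEmb G))
      ((MulAut.conj γ).injective.comp regEmb_injective)
    rwa [MonoidHom.range_comp, ← Subgroup.map_map] at this
  · have hle : N.comap (regEmb G) ≤ (S : Subgroup G) := fun x hx => by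
      obtain ⟨y, hy, e⟩ := hN hx
      rwa [← regEmb_injective e]
    set T := (N.comap (regEmb G)).subgroupOf (S : Subgroup G) with hT'
    haveI : T.Characteristic := characteristic_iff_le_comap.2 fun α s hs => by
      obtain ⟨γ, hγ⟩ := exists_perm_conj (S : Subgroup G) α
      have hγT : γ ∈ normalizer (((S : Subgroup G).map (regEmb G) : Subgroup (Equiv.Perm G)) : Set (Equiv.Perm G)) :=
        mem_normalizer_fintype fun z hz => by
          obtain ⟨s', hs', rfl⟩ := hz
          exact ⟨α ⟨s', hs'⟩, (α ⟨s', hs'⟩).2, (hγ ⟨s', hs'⟩).symm⟩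
      show regEmb G (α s : G) ∈ N
      rw [← hγ]
      exact (mem_normalizer_iff.1 (hT hγT) _).1 hs
    have hn : (T.map (S : Subgroup G).subtype).Normal := by
      rw [hT', map_subgroupOf_eq_of_le hle]
      refine ⟨fun x hx g => ?_⟩
      show regEmb G (g * x * g⁻¹) ∈ N
      rw [map_mul, map_mul, map_inv]
      exact (mem_normalizer_iff.1 (hP ⟨g, rfl⟩) _).1 hx
    have hb := h.free.eq_bot hn
    refine (eq_bot_iff_forall _).2 fun z hz => ?_
    obtain ⟨y, hy, rfl⟩ := hN hz
    have h1 : (⟨y, hy⟩ : ↥(S : Subgroup G)) ∈ T := hz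
    rw [hb, mem_bot] at h1
    rw [show y = 1 from congrArg Subtype.val h1, map_one]

end Cfsg.Lib.Local.PushingUp
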