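import Cfsg.Agent.Lib.Local.PushingUp.Critical

/-!
The neighbours of a vertex act centrally on its `O_p`, and critical pairs extend backwards.
-/

set_option autoImplicit false
set_option linter.style.haveILetI false

namespace Cfsg.Lib.Local.PushingUp

open Subgroup Cfsg.Lib.Local.Baumann
open scoped commutatorElement

variable {X : Type*} [Group X]

section
variable [Finite X] {T₀ P₀ : Subgroup X} {T T' P R M N : Subgroup X} {p q b : ℕ} [Fact p.Prime]
  (A : Amalgam p q T₀ P₀)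
include A

theorem Amalgam.gen_center (hT : Edge T₀ P₀ T P) (hT' : Edge T₀ P₀ T' P) (hg : T ⊔ T' = P) :
    Zt T ⊓ Zt T' = Zt P ∧ Zt T ⊔ Zt T' = Vv p P := by
  obtain ⟨g, hgP, rfl⟩ := A.other_edge hT hT'
  have := (hT.loc A).gen g hgP hg
  rw [show (Zt T).map (MulAut.conj g).toMonoidHom = Zt (cj g T) from cj_Zt g T] at this
  exact this

theorem Amalgam.mem_D (hT : Edge T₀ P₀ T P) (hT' : Edge T₀ P₀ T' P) (hg : T ⊔ T' = P) {z : X}
    (hzV : z ∈ Vv p P) (h1 : ∀ t ∈ T, t * z = z * t) (h2 : ∀ t ∈ T', t * z = z * t) : z ∈ Zt P := by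
  have hP := hT.loc A
  rw [← (A.gen_center hT hT' hg).1]
  refine mem_inf.2 ⟨mem_inf.2 ⟨?_, mem_centralizer_iff.2 h1⟩, mem_inf.2 ⟨?_, mem_centralizer_iff.2 h2⟩⟩
  · exact hP.core_le (Vv_le_Qv p P hzV)
  · exact (hT'.loc A).core_le (Vv_le_Qv p P hzV)

variable (hb : HasB p T₀ P₀ b)
include hb

/-- The dichotomy for a neighbour at a second edge of the start of a critical pair. -/
theorem Amalgam.shift {T01 R' : Subgroup X} (h2b : 2 ≤ b) (hc : Crit p T₀ P₀ b P R)
    (h1 : Edge T₀ P₀ T01 P) (h2 : Edge T₀ P₀ T01 M) (hM : Near T₀ P₀ (b - 1) M R)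
    (hR' : Adj T₀ P₀ R R') (hR'P : Near T₀ P₀ (b - 1) R' P)
    (hT : Edge T₀ P₀ T P) (hgen : T01 ⊔ T = P) (hN : Edge T₀ P₀ T N) :
    (∀ v ∈ Vv p N, ∀ x ∈ Qv p P, ⁅v, x⁆ ∈ Zt P) ∧
      (¬ P ≤ normalizer ((Vv p N ⊔ Vv p P : Subgroup X) : Set X) → Crit p T₀ P₀ b N R') := by
  have hP := hT.loc A
  have hNl := hN.loc A
  have hP1 := h1.loc A
  have hnear : Near T₀ P₀ b N R' := A.near_b hb ⟨T, hN, hT⟩ hR'P.symm
  have hbody : ∀ v ∈ Vv p N, ∀ x ∈ Qv p P, ⁅v, x⁆ ∈ Zt T := fun v hv x hx => by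
    rw [← commutatorElement_inv x v]
    exact inv_mem (A.quad hb hN hv (hP.core_le hx))
  by_cases hcr : Vv p N ≤ Qv p R'
  · -- the neighbour does not see `R'`
    obtain ⟨TR, hTR, hTR'⟩ := hR'
    have hVN : Vv p N ≤ TR := hcr.trans (hTR'.loc A).core_le
    have hcov := A.crit_cover hb (A.crit_symm hb hc) hTR hTR' hR'P
    set W := Vv p N ⊔ Vv p P with hW
    have hnN : T ≤ normalizer (Vv p N : Set X) := hNl.le.trans hNl.norm_V
    have hnP : T ≤ normalizer (Vv p P : Set X) := hP.le.trans hP.norm_V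
    have hPW : P ≤ normalizer (W : Set X) := by
      have hTW : T ≤ normalizer (W : Set X) := fun t ht => by
        refine mem_normalizer_of_cj ?_
        rw [hW, cj_sup, cj_eq_of_mem (hnN ht), cj_eq_of_mem (hnP ht)]
      refine hgen.ge.trans (sup_le (fun t ht => ?_) hTW)
      obtain ⟨x, hx, y, hy, rfl⟩ := A.crit_cover hb hc h1 h2 hM t ht
      refine mul_mem ?_ (hTW (hP.core_le hy))
      have hxT : x ∈ T01 := A.le_edge hb hM h2 hx
      have key : ∀ w ∈ W, ⁅x, w⁆ ∈ Vv p P := by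
        intro w hw
        have hle : W ≤ TR := by
          refine sup_le hVN ?_
          exact (A.le_edge hb hR'P hTR')
        obtain ⟨v0, hv0, r, hr, rfl⟩ := hcov w (hle hw)
        rw [comm_mul_right, comm_eq_one (Vv_comm_Qv hx hr).symm, mul_one, mul_inv_cancel, mul_one]
        exact comm_mem_of_le (hP1.le.trans hP1.norm_V) hxT hv0
      refine mem_normalizer_fintype fun w hw => ?_
      have := mul_mem (mem_sup_right (S := Vv p N) (key w hw)) hw
      rwa [commutatorElement_def, inv_mul_cancel_right] at this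
    refine ⟨fun v hv x hx => ?_, fun hn => absurd hPW hn⟩
    -- every value is fixed by a generating pair
    set L : Subgroup X := Zt T with hL
    have hval : ∀ w ∈ W, ∀ y ∈ Qv p P, ⁅w, y⁆ ∈ L := by
      intro w hw y hy
      obtain ⟨a, ha, c, hc', rfl⟩ := (Cfsg.Lib.Core.mem_sup_of_le_normalizer
        (A := Vv p N) (B := Vv p P) ((Vv_le_Qv p N).trans (hNl.core_le.trans hnP))).1 hw
      rw [comm_mul_left, comm_eq_one (Vv_comm_Qv hc' hy).symm, mul_one, mul_inv_cancel, one_mul]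
      exact hbody a ha y hy
    refine A.mem_D h1 hT hgen (hP.center_le_V (hbody v hv x hx)) (fun t ht => ?_)
      (fun t ht => mem_Zt_comm (hbody v hv x hx) ht)
    obtain ⟨g, hg, hgT⟩ := A.other_edge hT h1
    have hmem : g⁻¹ * ⁅v, x⁆ * g ∈ L := by
      rw [show g⁻¹ * ⁅v, x⁆ * g = ⁅g⁻¹ * v * g⁻¹⁻¹, g⁻¹ * x * g⁻¹⁻¹⁆ by
        rw [comm_conj, inv_inv]]
      exact hval _ (conj_mem_of_le hPW (inv_mem hg) (mem_sup_left hv)) _
        (conj_mem_of_le hP.norm_core (inv_mem hg) hx)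
    rw [← hgT] at ht
    obtain ⟨t', ht', rfl⟩ := ht
    have e := mem_Zt_comm hmem ht'
    show g * t' * g⁻¹ * ⁅v, x⁆ = ⁅v, x⁆ * (g * t' * g⁻¹)
    calc g * t' * g⁻¹ * ⁅v, x⁆ = g * (t' * (g⁻¹ * ⁅v, x⁆ * g)) * g⁻¹ := by group
      _ = _ := by rw [e]; group
  · -- the neighbour sees `R'`
    have hc' : Crit p T₀ P₀ b N R' := ⟨hnear, hcr⟩
    refine ⟨fun v hv x hx => ?_, fun _ => hc'⟩
    obtain ⟨w, hw, y, hy, rfl⟩ := A.crit_cover hb hc' hN hT hR'P.symm x (hP.core_le hx)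
    have e : ⁅v, w * y⁆ = ⁅v, w⁆ := by
      rw [comm_mul_right, comm_eq_one (Vv_comm_Qv hv hy).symm, mul_one, mul_inv_cancel, mul_one]
    rw [e]
    obtain ⟨hz, hzR⟩ := mem_inf.1 (A.crit_comm_mem hb hc' hN hT hR'P.symm hv hw)
    refine A.mem_D h1 hT hgen (hP.center_le_V hz) (fun t ht => ?_) (fun t ht => mem_Zt_comm hz ht)
    obtain ⟨u, hu, r, hr, rfl⟩ := A.crit_cover hb hc h1 h2 hM t ht
    have e1 : r * ⁅v, w⁆ = ⁅v, w⁆ * r := Vv_comm_Qv (hP.center_le_V hz) hr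
    have e2 : u * ⁅v, w⁆ = ⁅v, w⁆ * u :=
      A.comm_below hb (show 1 < b by omega) ⟨R', hR', hR'.right, rfl⟩ hu hzR
    rw [mul_assoc, e1, ← mul_assoc, e2, mul_assoc]

/-- The neighbours act centrally on `O_p`. -/
theorem Amalgam.star (h2b : 2 ≤ b) (h : Adj T₀ P₀ N P) :
    ∀ v ∈ Vv p N, ∀ x ∈ Qv p P, ⁅v, x⁆ ∈ Zt P := by
  obtain ⟨T, hN, hT⟩ := h
  obtain ⟨P₁, R₁, hc⟩ := hb.attained
  obtain ⟨M, ⟨T₁, h1, h2⟩, hM⟩ := A.split hb hc.1
  obtain ⟨R', hR', hR'P⟩ := A.split hb hc.1.symm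
  obtain ⟨g, hg, hgen⟩ := (h1.loc A).exists_gen
  obtain ⟨c, hcT, hcP⟩ := hT.trans (h1.move hg)
  have key := (A.shift hb h2b hc h1 h2 hM hR' hR'P (h1.move hg) hgen (hcT ▸ hN.conj c)).1
  intro v hv x hx
  have h' := key (c * v * c⁻¹) (cj_Vv c p N ▸ conj_mem_cj hv) (c * x * c⁻¹)
    (hcP ▸ cj_Qv c p P ▸ conj_mem_cj hx)
  rw [comm_conj, ← hcP, ← cj_Zt, mem_cj] at h'
  simpa [mul_assoc] using h'

/-- Backward extension of a critical pair. -/
theorem Amalgam.extend {T01 : Subgroup X} (h2b : 2 ≤ b) (hc : Crit p T₀ P₀ b P R)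
    (h1 : Edge T₀ P₀ T01 P) (h2 : Edge T₀ P₀ T01 M) (hM : Near T₀ P₀ (b - 1) M R)
    {R' : Subgroup X} (hR' : Adj T₀ P₀ R R') (hR'P : Near T₀ P₀ (b - 1) R' P) :
    ∃ T N : Subgroup X, Edge T₀ P₀ T N ∧ Edge T₀ P₀ T P ∧ T ⊔ T01 = P ∧
      Crit p T₀ P₀ b N R' ∧ ¬ P ≤ normalizer ((Vv p N ⊔ Vv p P : Subgroup X) : Set X) := by
  obtain ⟨g, hg, hgen⟩ := (h1.loc A).exists_gen
  set T := cj g T01
  have hT : Edge T₀ P₀ T P := h1.move hg
  by_contra hall
  push Not at hall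
  have hnorm : ∀ N, Edge T₀ P₀ T N → P ≤ normalizer ((Vv p N ⊔ Vv p P : Subgroup X) : Set X) := by
    intro N hN
    by_contra hn
    exact hn (hall T N hN hT (by rw [sup_comm]; exact hgen) ((A.shift hb h2b hc h1 h2 hM hR' hR'P hT hgen hN).2 hn))
  set E : Subgroup X := ⨆ N : {N : Subgroup X // Edge T₀ P₀ T N}, (Vv p N.1 ⊔ Vv p P) with hE
  have hPE : Vv p P ≤ E :=
    le_sup_right.trans (le_iSup (fun N : {N : Subgroup X // Edge T₀ P₀ T N} => Vv p N.1 ⊔ Vv p P) ⟨P, hT⟩)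
  have hE0 : E = ⊥ := by
    refine A.free_conj hT (iSup_le fun N => sup_le ((Vv_le_Qv p _).trans (N.2.loc A).core_le)
      ((Vv_le_Qv p _).trans (hT.loc A).core_le)) (fun x hx => mem_normalizer_of_cj ?_)
      (fun x hx => mem_normalizer_fintype fun y hy => ?_)
    · rw [hE, cj, Subgroup.map_iSup]
      exact iSup_congr fun N => cj_eq_of_mem (hnorm N.1 N.2 hx)
    · have hle : cj x E ≤ E := by
        rw [hE, cj, Subgroup.map_iSup]
        refine iSup_le fun N => ?_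
        rw [Subgroup.map_sup]
        refine sup_le ?_ ?_
        · refine le_trans (le_of_eq (cj_Vv x p N.1)) (le_sup_left.trans
            (le_iSup (fun N : {N : Subgroup X // Edge T₀ P₀ T N} => Vv p N.1 ⊔ Vv p P) ⟨_, N.2.turn hx⟩))
        · refine le_trans (le_of_eq (cj_Vv x p P)) (le_sup_left.trans
            (le_iSup (fun N : {N : Subgroup X // Edge T₀ P₀ T N} => Vv p N.1 ⊔ Vv p P) ⟨_, hT.turn hx⟩))
      exact hle (conj_mem_cj hy)
  have := (hT.loc A).index_center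
  rw [le_bot_iff.1 (hPE.trans hE0.le), relIndex_bot_right] at this
  exact absurd A.one_lt (by omega)

/-- A walk with critical windows and generating backward turns. -/
structure Track (p : ℕ) (T₀ P₀ : Subgroup X) (b : ℕ) (f e : ℕ → Subgroup X) (m : ℕ) : Prop where
  edge : ∀ i < m + b, Edge T₀ P₀ (e i) (f i) ∧ Edge T₀ P₀ (e i) (f (i + 1))
  crit : ∀ i ≤ m, Crit p T₀ P₀ b (f i) (f (i + b))
  gen : ∀ i < m, e i ⊔ e (i + 1) = f (i + 1)
  moved : ∀ i < m, ¬ f (i + 1) ≤ normalizer ((Vv p (f i) ⊔ Vv p (f (i + 1)) : Subgroup X) : Set X)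

omit A hb in
theorem Track.near {f e : ℕ → Subgroup X} {m : ℕ} (h : Track p T₀ P₀ b f e m) (hb0 : 0 < b)
    (i k : ℕ) (hk : i + k ≤ m + b) : Near T₀ P₀ k (f i) (f (i + k)) :=
  near_of_walk h.edge hk (by omega)

theorem Amalgam.exists_track (h2b : 2 ≤ b) : ∀ m : ℕ, ∃ f e : ℕ → Subgroup X, Track p T₀ P₀ b f e m := by
  intro m
  induction m with
  | zero =>
    obtain ⟨P, R, hc⟩ := hb.attained
    obtain ⟨f, e, hf0, hfb, hfe⟩ := hc.1.exists_walk
    refine ⟨f, e, ⟨fun i hi => hfe i (by omega), fun i hi => ?_, fun i hi => absurd hi (Nat.not_lt_zero i),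
      fun i hi => absurd hi (Nat.not_lt_zero i)⟩⟩
    obtain rfl : i = 0 := by omega
    rw [zero_add, hf0, hfb]
    exact hc
  | succ m ih =>
    obtain ⟨f, e, h⟩ := ih
    have hb0 := hb.pos
    have hc := h.crit 0 (Nat.zero_le _)
    rw [zero_add] at hc
    have he := h.edge 0 (by omega)
    have hM : Near T₀ P₀ (b - 1) (f 1) (f b) := by
      have := h.near hb0 1 (b - 1) (by omega)
      rwa [show 1 + (b - 1) = b by omega] at this
    have hR'P : Near T₀ P₀ (b - 1) (f (b - 1)) (f 0) := by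
      have := h.near hb0 0 (b - 1) (by omega)
      rw [zero_add] at this
      exact this.symm
    have hR' : Adj T₀ P₀ (f b) (f (b - 1)) := by
      have := h.edge (b - 1) (by omega)
      rw [show b - 1 + 1 = b by omega] at this
      exact ⟨_, this.2, this.1⟩
    obtain ⟨T, N, hN, hT, hgen, hcN, hmoved⟩ := A.extend hb h2b hc he.1 he.2 hM hR' hR'P
    refine ⟨fun i => i.casesOn N f, fun i => i.casesOn T e, ⟨fun i hi => ?_, fun i hi => ?_, fun i hi => ?_, fun i hi => ?_⟩⟩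
    · cases i with
      | zero => exact ⟨hN, hT⟩
      | succ i => exact h.edge i (by omega)
    · cases i with
      | zero =>
        obtain ⟨c, rfl⟩ : ∃ c, b = c + 1 := ⟨b - 1, by omega⟩
        simpa using hcN
      | succ i =>
        have := h.crit i (by omega)
        rw [show i + 1 + b = i + b + 1 by omega]
        exact this
    · cases i with
      | zero => exact hgen
      | succ i => exact h.gen i (by omega)
    · cases i with
      | zero => exact hmoved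
      | succ i => exact h.moved i (by omega)

end

end Cfsg.Lib.Local.PushingUp
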