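import Cfsg.Agent.Lib.Local.PushingUp.Star

/-!
The subgroup generated by the `Z(O_p)` of the neighbours.
-/

set_option autoImplicit false
set_option linter.style.haveILetI false

namespace Cfsg.Lib.Local.PushingUp

open Subgroup Cfsg.Lib.Local.Baumann
open scoped commutatorElement

variable {X : Type*} [Group X]

/-- The subgroup generated by the `Z(O_p)` of the neighbours. -/
def UU (p : ℕ) (T₀ P₀ P : Subgroup X) : Subgroup X :=
  ⨆ N : {N : Subgroup X // Adj T₀ P₀ P N}, Vv p N.1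

section
variable {T₀ P₀ P N : Subgroup X} {p : ℕ}

theorem Vv_le_UU (h : Adj T₀ P₀ P N) : Vv p N ≤ UU p T₀ P₀ P :=
  le_iSup (fun N : {N : Subgroup X // Adj T₀ P₀ P N} => Vv p N.1) ⟨N, h⟩

end

section
variable [Finite X] {T₀ P₀ : Subgroup X} {T T' P R R' M N : Subgroup X} {p q b : ℕ} [Fact p.Prime]
  (A : Amalgam p q T₀ P₀) (hb : HasB p T₀ P₀ b)
include A hb

theorem Amalgam.UU_le_core (h2b : 2 ≤ b) : UU p T₀ P₀ P ≤ Qv p P :=
  iSup_le fun N => hb.below 1 (by omega) _ _ ⟨P, N.2.symm, N.2.left, rfl⟩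

omit hb in
theorem Amalgam.le_normalizer_UU : P ≤ normalizer (UU p T₀ P₀ P : Set X) := fun g hg => by
  refine mem_normalizer_fintype fun x hx => ?_
  have hle : cj g (UU p T₀ P₀ P) ≤ UU p T₀ P₀ P := by
    rw [UU, cj, Subgroup.map_iSup]
    refine iSup_le fun N => le_trans (le_of_eq (cj_Vv g p N.1)) (Vv_le_UU ?_)
    have := N.2.conj g
    rwa [cj_centralizer_le hg] at this
  exact hle (conj_mem_cj hx)

theorem Amalgam.UU_comm (h2b : 2 ≤ b) (hT : Edge T₀ P₀ T P) {u x : X} (hu : u ∈ UU p T₀ P₀ P)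
    (hx : x ∈ Qv p P) : ⁅u, x⁆ ∈ Zt P := by
  let H : Subgroup X :=
    { carrier := {u | u ∈ P ∧ ∀ x ∈ Qv p P, ⁅u, x⁆ ∈ Zt P}
      one_mem' := ⟨one_mem _, fun x _ => by simp⟩
      mul_mem' := by
        rintro a c ⟨ha, ha'⟩ ⟨hc, hc'⟩
        refine ⟨mul_mem ha hc, fun x hx => ?_⟩
        rw [comm_mul_left, mem_Zt_comm (hc' x hx) ha, mul_inv_cancel_right]
        exact mul_mem (hc' x hx) (ha' x hx)
      inv_mem' := by
        rintro a ⟨ha, ha'⟩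
        refine ⟨inv_mem ha, fun x hx => ?_⟩
        rw [show ⁅a⁻¹, x⁆ = a⁻¹ * ⁅a, x⁆⁻¹ * a by simp [commutatorElement_def, mul_assoc],
          mem_Zt_comm (inv_mem (ha' x hx)) (inv_mem ha), inv_mul_cancel_right]
        exact inv_mem (ha' x hx) }
  refine ((iSup_le fun N v hv => ?_ : UU p T₀ P₀ P ≤ H) hu).2 x hx
  exact ⟨Qv_le p P (A.UU_le_core hb h2b (Vv_le_UU N.2 hv)), A.star hb h2b N.2.symm v hv⟩

theorem Amalgam.derived_centralizes (h2b : 2 ≤ b) (hT : Edge T₀ P₀ T P) {u k : X}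
    (hu : u ∈ UU p T₀ P₀ P) (hk : k ∈ ⁅Qv p P, Qv p P⁆) : k * u = u * k := by
  suffices h : ⁅Qv p P, Qv p P⁆ ≤ centralizer ({u} : Set X) from mem_centralizer_singleton_iff.1 (h hk)
  refine commutator_le.2 fun a ha c hc => mem_centralizer_singleton_iff.2 ?_
  have ea : u * a * u⁻¹ = ⁅u, a⁆ * a := by simp [commutatorElement_def, mul_assoc]
  have ec : u * c * u⁻¹ = ⁅u, c⁆ * c := by simp [commutatorElement_def, mul_assoc]
  have za := A.UU_comm hb h2b hT hu ha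
  have zc := A.UU_comm hb h2b hT hu hc
  have hP : ∀ {y : X}, y ∈ Qv p P → y ∈ P := fun hy => Qv_le p P hy
  have e : ⁅u * a * u⁻¹, u * c * u⁻¹⁆ = ⁅a, c⁆ := by
    rw [ea, ec, comm_mul_left, comm_eq_one (mem_Zt_comm za (mul_mem (Zt_le _ zc) (hP hc))).symm, mul_one,
      comm_mul_right, comm_eq_one (mem_Zt_comm zc (hP ha)), one_mul]
    have hac : ⁅a, c⁆ ∈ P := by
      rw [commutatorElement_def]
      exact mul_mem (mul_mem (mul_mem (hP ha) (hP hc)) (inv_mem (hP ha))) (inv_mem (hP hc))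
    rw [← mem_Zt_comm zc hac, mul_inv_cancel_right, ← mem_Zt_comm za hac, mul_inv_cancel_right]
  rw [comm_conj] at e
  exact (mul_inv_eq_iff_eq_mul.1 e).symm

/-- The structure of `U` modulo `Z(O_p)`. -/
theorem Amalgam.UU_struct (h2b : 2 ≤ b) (hc' : Crit p T₀ P₀ b N R') (hN : Edge T₀ P₀ T' N)
    (hT' : Edge T₀ P₀ T' P) (hPR' : Near T₀ P₀ (b - 1) P R')
    (hmoved : ¬ P ≤ normalizer ((Vv p N ⊔ Vv p P : Subgroup X) : Set X))
    (hc : Crit p T₀ P₀ b P R) (hT : Edge T₀ P₀ T P) (hM1 : Edge T₀ P₀ T M)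
    (hM : Near T₀ P₀ (b - 1) M R) (hR' : Adj T₀ P₀ R R') :
    ∃ C : Subgroup X, P ≤ normalizer (C : Set X) ∧ Vv p P ≤ C ∧ C ≤ UU p T₀ P₀ P ⊓ Qv p R' ∧
      (∀ a, a ∈ C ↔ a ∈ UU p T₀ P₀ P ∧ ∀ g ∈ P, ⁅g, a⁆ ∈ Vv p P) ∧
      C.relIndex (UU p T₀ P₀ P) = q * q ∧ (UU p T₀ P₀ P ⊓ Qv p R').relIndex (UU p T₀ P₀ P) = q ∧
      ¬ P ≤ normalizer ((UU p T₀ P₀ P ⊓ Qv p R' : Subgroup X) : Set X) ∧
      (∀ u ∈ T, u ∉ Qv p P → ∀ a ∈ UU p T₀ P₀ P, ⁅u, a⁆ ∈ C → a ∈ UU p T₀ P₀ P ⊓ Qv p R') ∧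
      (∀ g ∈ P, T ⊔ T.map (MulAut.conj g).toMonoidHom = P →
        (UU p T₀ P₀ P ⊓ Qv p R') ⊓ (UU p T₀ P₀ P ⊓ Qv p R').map (MulAut.conj g).toMonoidHom = C ∧
        (UU p T₀ P₀ P ⊓ Qv p R') ⊔ (UU p T₀ P₀ P ⊓ Qv p R').map (MulAut.conj g).toMonoidHom =
          UU p T₀ P₀ P) ∧
      (∀ t ∈ T, ∀ a ∈ UU p T₀ P₀ P, ⁅t, a⁆ ∈ UU p T₀ P₀ P ⊓ Qv p R') ∧
      (∀ a ∈ UU p T₀ P₀ P ⊓ Qv p R', ∃ v ∈ Vv p P, ∀ x ∈ Vv p R, x * (v⁻¹ * a) = (v⁻¹ * a) * x) ∧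
      (∀ a ∈ UU p T₀ P₀ P, ∃ v ∈ Vv p N, ∃ w ∈ UU p T₀ P₀ P ⊓ Qv p R', v * w = a) ∧
      (∀ t ∈ T, ∀ a ∈ UU p T₀ P₀ P ⊓ Qv p R', ⁅t, a⁆ ∈ Vv p P) := by
  set U := UU p T₀ P₀ P with hU
  set W := U ⊓ Qv p R' with hW
  have hP := hT.loc A
  obtain ⟨g, hg, hgT⟩ := A.other_edge hT' hT
  have hUQ : U ≤ Qv p P := A.UU_le_core hb h2b
  have hVU : Vv p P ≤ U := Vv_le_UU ⟨T, hT, hT⟩
  have hVW : Vv p P ≤ W := le_inf hVU (hb.below (b - 1) (by omega) _ _ hPR')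
  -- the edge at `R'` towards `P`
  obtain ⟨c, hbc⟩ : ∃ c, b - 1 = c + 1 := ⟨b - 2, by omega⟩
  rw [hbc] at hPR'
  obtain ⟨R'', ⟨TR, hTR, hTR''⟩, hR''P⟩ := hPR'.symm
  have hUTR : U ≤ TR := by
    refine le_trans (iSup_le fun N'' => ?_) (hTR''.loc A).core_le
    exact hb.below (c + 1) (by omega) _ _ (near_succ (p := p) hb N''.2.symm hR''P.symm)
  have hR'P : Near T₀ P₀ (b - 1) R' P := by rw [hbc]; exact hPR'.symm
  obtain ⟨TS, hTS, hTS'⟩ := hR'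
  have hcovP := A.crit_cover hb hc hT hM1 hM
  have hcovR := A.crit_cover hb (A.crit_symm hb hc) hTS hTS' hR'P
  have hlift : ∀ a ∈ W, ∃ v ∈ Vv p P, ∀ x ∈ Vv p R, x * (v⁻¹ * a) = (v⁻¹ * a) * x := by
    intro a ha
    obtain ⟨v, hv, r, hr, rfl⟩ := hcovR a ((hTS'.loc A).core_le ha.2)
    refine ⟨v, hv, fun x hx => ?_⟩
    rw [inv_mul_cancel_left]
    exact (Vv_comm_Qv hx hr).symm
  have hnV : P ≤ normalizer (Vv p P : Set X) := hP.norm_V
  have hfix : ∀ t ∈ T, ∀ a ∈ W, ⁅t, a⁆ ∈ Vv p P := by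
    intro t ht a ha
    obtain ⟨x, hx, y, hy, rfl⟩ := hcovP t ht
    have hxP : x ∈ P := hP.le (A.le_edge hb hM hM1 hx)
    rw [comm_mul_left]
    refine mul_mem (conj_mem_of_le hnV hxP ?_) ?_
    · rw [← commutatorElement_inv a y]
      exact inv_mem (hP.center_le_V (hP.D_le_center (A.UU_comm hb h2b hT ha.1 hy)))
    · obtain ⟨v, hv, hvx⟩ := hlift a ha
      rw [show a = v * (v⁻¹ * a) by group, comm_mul_right, comm_eq_one (hvx x hx), mul_one, mul_inv_cancel,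
        mul_one]
      exact comm_mem_of_le hnV hxP hv
  have hquad : ∀ t ∈ T, ∀ a ∈ U, ⁅t, a⁆ ∈ W := by
    intro t ht a ha
    obtain ⟨x, hx, y, hy, rfl⟩ := hcovP t ht
    have hxP : x ∈ P := hP.le (A.le_edge hb hM hM1 hx)
    have hm : x * ⁅y, a⁆ * x⁻¹ ∈ W := hVW (conj_mem_of_le hnV hxP (by
      rw [← commutatorElement_inv a y]
      exact inv_mem (hP.center_le_V (hP.D_le_center (A.UU_comm hb h2b hT ha hy)))))
    rw [comm_mul_left]
    refine mul_mem hm (mem_inf.2 ⟨comm_mem_of_le A.le_normalizer_UU hxP ha, ?_⟩)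
    have hxQ : x ∈ Qv p R' := hb.below 1 (by omega) _ _ ⟨R', ⟨TS, hTS, hTS'⟩, ⟨⟨TS, hTS'⟩, rfl⟩⟩ hx
    exact comm_mem_of_le' ((hTR.loc A).le.trans (hTR.loc A).norm_core) (hUTR ha) hxQ
  have hWidx : W.relIndex U ≤ q := by
    rw [hW, inf_relIndex_left]
    refine le_trans (relIndex_le_of_le_right hUTR ?_) (le_of_eq (hTR.loc A).index_core)
    exact index_ne_zero_of_finite
  set Y := cj g (Vv p N ⊔ Vv p P) with hY
  have hN' : Adj T₀ P₀ P N := ⟨T', hT', hN⟩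
  have hYA : Y ≤ U := by
    rw [hY, cj_sup]
    refine sup_le ?_ (le_trans (le_of_eq ?_) hVU)
    · refine le_trans (le_of_eq (cj_Vv g p N)) (Vv_le_UU ?_)
      have := hN'.conj g
      rwa [cj_centralizer_le hg] at this
    · exact cj_eq_of_mem (hnV hg)
  have hBY : Vv p P ≤ Y := by
    rw [hY, cj_sup, cj_eq_of_mem (hnV hg)]; exact le_sup_right
  have hTY : T ≤ normalizer (Y : Set X) := fun t ht => by
    refine mem_normalizer_of_cj ?_
    rw [← hgT, mem_cj] at ht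
    have h1 : cj (g⁻¹ * t * g) (Vv p N ⊔ Vv p P) = Vv p N ⊔ Vv p P := by
      rw [cj_sup, cj_eq_of_mem ((hN.loc A).le.trans (hN.loc A).norm_V ht),
        cj_eq_of_mem (hnV ((hT'.loc A).le ht))]
    calc cj t Y = cj g (cj (g⁻¹ * t * g) (Vv p N ⊔ Vv p P)) := by
          rw [hY, cj_cj, cj_cj]; congr 1; group
      _ = Y := by rw [h1]
  have hYn : ¬ P ≤ normalizer (Y : Set X) := fun hle => hmoved fun x hx => by
    refine mem_normalizer_of_cj ?_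
    have := cj_eq_of_mem (hle (mul_mem (mul_mem hg hx) (inv_mem hg)))
    rw [hY, cj_cj, show g * x * g⁻¹ * g = g * x by group, ← cj_cj] at this
    have := congrArg (cj g⁻¹) this
    rwa [cj_inv_cj, cj_inv_cj] at this
  obtain ⟨C, c1, c2, c3, c4, c5, c6, c7, c8, c9⟩ := hP.sect U (Vv p P) W Y hUQ A.le_normalizer_UU hnV hVU
    (commutator_le.2 fun a ha d hd => hP.center_le_V (hP.D_le_center (A.UU_comm hb h2b hT ha (hUQ hd))))
    hBY hYA hTY hYn hVW inf_le_left hWidx hfix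
  refine ⟨C, c1, c2, c3, c4, c5, c6, c7, c8, c9, hquad, hlift, fun a ha => ?_, hfix⟩
  -- `U` is covered by the neighbour and `W`
  have hinf : Vv p N ⊓ Qv p R' = Zt T' := by
    obtain ⟨M', ⟨TX, hTX, hTX'⟩, hM'⟩ := A.split hb hc'.1.symm
    exact A.crit_inf hb (A.crit_symm hb hc') hTX hTX' hM' hN hT' (by rw [hbc]; exact hPR')
  have hVN : Vv p N ≤ U := Vv_le_UU hN'
  have hNW : Vv p N ≤ normalizer (W : Set X) := fun x hx => mem_normalizer_fintype fun y hy => by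
    have h1 := hP.center_le_V (hP.D_le_center (A.UU_comm hb h2b hT (hVN hx) (hUQ hy.1)))
    have h2 : ⁅x, y⁆ * y ∈ W := mul_mem (hVW h1) hy
    rwa [commutatorElement_def, inv_mul_cancel_right] at h2
  have heq : (Vv p N ⊔ W).relIndex U = 1 := by
    have hmul := relIndex_mul_relIndex W (Vv p N ⊔ W) U le_sup_right (sup_le hVN inf_le_left)
    haveI : (W.subgroupOf (Vv p N ⊔ W)).Normal :=
      (normal_subgroupOf_iff_le_normalizer le_sup_right).2 (sup_le hNW le_normalizer)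
    have hidx : W.relIndex (Vv p N) = q := by
      rw [← inf_relIndex_left, hW, ← inf_assoc, inf_eq_left.2 hVN, hinf]
      exact (hN.loc A).index_center
    have e : W.relIndex (Vv p N ⊔ W) = q := by
      rw [← hidx, ← relIndex_subgroupOf (le_sup_left : Vv p N ≤ Vv p N ⊔ W), relIndex,
        ← relIndex_top_right, ← subgroupOf_self (H := Vv p N ⊔ W),
        subgroupOf_sup le_sup_left le_sup_right, relIndex_sup_right]
    rw [e, c6] at hmul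
    exact Nat.eq_of_mul_eq_mul_left (lt_trans Nat.one_pos A.one_lt) (hmul.trans (mul_one q).symm)
  exact (Cfsg.Lib.Core.mem_sup_of_le_normalizer hNW).1 (relIndex_eq_one.1 heq ha)

end

end Cfsg.Lib.Local.PushingUp
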